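import Cfsg.Agent.Lib.QW.Defs

/-!
# Fusion on `p`-groups with an extraspecial subgroup of index `p`: definitions

`S` is a `p`-subgroup of a finite group `Γ` (not assumed Sylow); the field `Hyp.fe` is the
consequence of saturation that is used.
-/

set_option autoImplicit false

namespace H93.XP

open Subgroup H93.QW

variable {Γ : Type*} [Group Γ]

/-- `v * s * v⁻¹ = s * dl s v` and `s⁻¹ * v * s = dl s v * v`. -/
def dl (s v : Γ) : Γ := s⁻¹ * v * s * v⁻¹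

/-- the normaliser of `P` in `S` -/
def nS (S P : Subgroup Γ) : Subgroup Γ := S ⊓ normalizer (P : Set Γ)

/-- the centraliser of `X` in `Q` -/
def cQ (Q X : Subgroup Γ) : Subgroup Γ := Q ⊓ centralizer (X : Set Γ)

/-- the elements `v` of `Q` with `dl s v ∈ Y` -/
def NV (Q Y : Subgroup Γ) (s : Γ) : Subgroup Γ := closure {v | v ∈ Q ∧ dl s v ∈ Y}

/-- the centraliser of `s` in `Q` modulo `z` -/
def CV (Q : Subgroup Γ) (z s : Γ) : Subgroup Γ := NV Q (zpowers z) s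

/-- the subgroup `[Q, s] ⟨z⟩` -/
def DV (Q : Subgroup Γ) (z s : Γ) : Subgroup Γ :=
  closure {d | ∃ v ∈ Q, ∃ k : ℤ, d = dl s v * z ^ k}

/-- the subgroup `E ∩ Q ∩ g Q g⁻¹` -/
def XX (E Q : Subgroup Γ) (g : Γ) : Subgroup Γ := E ⊓ Q ⊓ Q.comap (MulAut.conj g⁻¹).toMonoidHom

/-- `Q` is extraspecial with centre `⟨z⟩`, of index `p` in the `p`-group `S`. -/
structure XS (p : ℕ) (S Q : Subgroup Γ) (z : Γ) : Prop where
  odd : p ≠ 2
  pgrp : IsPGroup p S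
  le : Q ≤ S
  idx : Nat.card S = p * Nat.card Q
  big : p ^ 5 ≤ Nat.card Q
  norm : ∀ s ∈ S, Cj s Q Q
  ord : orderOf z = p
  z_mem : z ∈ Q
  zc : ∀ s ∈ S, s * z = z * s
  cen : ∀ u ∈ Q, (∀ v ∈ Q, u * v = v * u) → u ∈ zpowers z
  comm : ∀ u ∈ Q, ∀ v ∈ Q, u * v * u⁻¹ * v⁻¹ ∈ zpowers z
  pow : ∀ u ∈ Q, u ^ p ∈ zpowers z

/-- `g` normalises `E` and moves `⟨z⟩`, and `E` is as large as possible. -/
structure Hyp (p : ℕ) (S Q E : Subgroup Γ) (z g : Γ) : Prop extends XS p S Q z where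
  E_le : E ≤ S
  z_E : z ∈ E
  nm : Cj g E E
  mv : g * z * g⁻¹ ∉ zpowers z
  max : ∀ k, k * z * k⁻¹ ∈ S → k * z * k⁻¹ ∉ zpowers z →
    Nat.card (cS S (k * z * k⁻¹)) ≤ Nat.card E
  fe : ∀ P ≤ S, (∀ P' ≤ S, ∀ k, Cj k P P' → Cj k⁻¹ P' P → Nat.card (nS S P') ≤ Nat.card (nS S P)) →
    ∀ K : Subgroup Γ, (∀ k ∈ K, Cj k P P) → nS S P ≤ K → ∀ a, Cj a P P → Cj a K K →
      ∃ k ∈ K, ∃ h, (∀ u ∈ P, h * u * h⁻¹ = a * k * u * (a * k)⁻¹) ∧ Cj h (nS S P) (nS S P)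

/-- Case I. -/
structure One (p : ℕ) (S Q E : Subgroup Γ) (z g : Γ) : Prop extends Hyp p S Q E z g where
  inn : g * z * g⁻¹ ∈ Q

/-- Case II. -/
structure Two (p : ℕ) (S Q E : Subgroup Γ) (z g : Γ) : Prop extends Hyp p S Q E z g where
  out : ∀ k, Cj k E E → k * z * k⁻¹ ∈ Q → k * z * k⁻¹ ∈ zpowers z

/-- The anisotropic subcase of case II. -/
structure Beta (p : ℕ) (Q E : Subgroup Γ) (z g : Γ) : Prop where
  card : Nat.card Q = p ^ 5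
  eqD : DV Q z (g * z * g⁻¹) = E ⊓ Q
  eqC : CV Q z (g * z * g⁻¹) = E ⊓ Q
  half : ∀ v ∈ Q, ∃ u ∈ XX E Q g, ∃ k : ℤ, dl (g * z * g⁻¹) v = u * z ^ k ∧
    v * u * v⁻¹ = u * z ^ (2 * k) ∧ ((p : ℤ) ∣ k → v ∈ E)

/-- quadratic type -/
structure QT (p : ℕ) (S Q : Subgroup Γ) (z s : Γ) : Prop where
  card : Nat.card Q = p ^ 5
  exp : ∀ u ∈ Q, u ^ p = 1
  mem : s ∈ S
  notMem : s ∉ Q
  pow : s ^ p = 1
  eq : DV Q z s = CV Q z s
  comm : ∀ v ∈ CV Q z s, v * s = s * v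

/-- regular type -/
structure RT (p : ℕ) (S Q : Subgroup Γ) (z s a : Γ) : Prop where
  card : Nat.card Q = p ^ 5
  exp : ∀ u ∈ Q, u ^ p = 1
  mem : s ∈ S
  pow : s ^ p = 1
  a_mem : a ∈ Q
  ne : dl s (dl s (dl s a)) ∉ zpowers z
  comm : dl s (dl s (dl s a)) * s = s * dl s (dl s (dl s a))

/-- the torus element of the pearl case -/
def Tor (S Q : Subgroup Γ) (z s : Γ) (θ θ' : ℤ) : Prop :=
  ∃ k, Cj k S S ∧ Cj k Q Q ∧ k * z * k⁻¹ = z ^ θ ∧ (s ^ θ')⁻¹ * (k * s * k⁻¹) ∈ DV Q z s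

/-- Relations of the Sylow `p`-subgroups of `SL₄(p)` and `SU₄(p)`. -/
structure P2 (p : ℕ) (e : ℤ) (s v w a b z : Γ) : Prop where
  sp : s ^ p = 1
  vp : v ^ p = 1
  wp : w ^ p = 1
  ap : a ^ p = 1
  bp : b ^ p = 1
  zp : z ^ p = 1
  sz : s * z = z * s
  vz : v * z = z * v
  wz : w * z = z * w
  az : a * z = z * a
  bz : b * z = z * b
  sa : s * a = a * s
  sb : s * b = b * s
  ab : a * b = b * a
  vw : v * w = w * v
  vs : v * s * v⁻¹ = s * a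
  ws : w * s * w⁻¹ = s * b
  va : v * a * v⁻¹ = a * z
  vb : v * b = b * v
  wa : w * a = a * w
  wb : w * b * w⁻¹ = b * z ^ e

/-- Relations of the Sylow `p`-subgroup of `G₂(p)`. -/
structure P4 (p : ℕ) (ν : ℤ) (s a b c d z : Γ) : Prop where
  sp : s ^ p = 1
  ap : a ^ p = 1
  bp : b ^ p = 1
  cp : c ^ p = 1
  dp : d ^ p = 1
  zp : z ^ p = 1
  sz : s * z = z * s
  az : a * z = z * a
  bz : b * z = z * b
  cz : c * z = z * c
  dz : d * z = z * d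
  sa : s⁻¹ * a * s = b * a
  sb : s⁻¹ * b * s = c * b
  sc : s⁻¹ * c * s = d * c
  sd : s * d = d * s
  ab : a * b * a⁻¹ = b * z ^ ν
  ac : a * c * a⁻¹ = c * z
  ad : a * d * a⁻¹ = d * z
  bc : b * c * b⁻¹ = c * z⁻¹
  bd : b * d = d * b
  cd : c * d = d * c

/-! ### First consequences -/

variable {p : ℕ} {S Q E P X : Subgroup Γ} {z g s v w x : Γ}

theorem conj_eq_dl (s v : Γ) : v * s * v⁻¹ = s * dl s v := by unfold dl; group

theorem conj_eq_dl' (s v : Γ) : s⁻¹ * v * s = dl s v * v := by unfold dl; group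

theorem dl_mul (s v w : Γ) : dl s (v * w) = dl s v * (v * dl s w * v⁻¹) := by unfold dl; group

theorem dl_eq_one : dl s v = 1 ↔ v * s = s * v := by
  rw [dl, mul_inv_eq_one, mul_assoc, inv_mul_eq_iff_eq_mul]

theorem conj_dl (g s v : Γ) : g * dl s v * g⁻¹ = dl (g * s * g⁻¹) (g * v * g⁻¹) := by
  unfold dl; group

theorem mem_cQ : x ∈ cQ Q X ↔ x ∈ Q ∧ ∀ u ∈ X, u * x = x * u := Iff.rfl

theorem mem_XX : x ∈ XX E Q g ↔ (x ∈ E ∧ x ∈ Q) ∧ g⁻¹ * x * g ∈ Q := by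
  simp [XX]

theorem nS_le : nS S P ≤ S := inf_le_left

theorem mem_nS [Finite Γ] : x ∈ nS S P ↔ x ∈ S ∧ Cj x P P :=
  and_congr_right fun _ => ⟨fun h u hu => (mem_normalizer_iff.1 h u).1 hu, fun h =>
    mem_normalizer_iff.2 fun u => ⟨h u, fun hu => by simpa [mul_assoc] using h.inv _ hu⟩⟩

theorem le_nS (hP : P ≤ S) : P ≤ nS S P := le_inf hP le_normalizer

namespace Hyp

variable [Finite Γ] (h : Hyp p S Q E z g)
include h

omit [Finite Γ] in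
theorem regen {k : Γ} (h1 : Cj k E E) (h2 : k * z * k⁻¹ ∉ zpowers z) : Hyp p S Q E z k :=
  { h with nm := h1, mv := h2 }

omit [Finite Γ] in
theorem y_mem : g * z * g⁻¹ ∈ E := h.nm z h.z_E

theorem E_eq : cS S (g * z * g⁻¹) = E :=
  (eq_of_le_of_card_ge (fun e he => mem_cS.2 ⟨h.E_le he, by
    have := h.zc _ (h.E_le (h.nm.inv e he))
    calc _ = g * (g⁻¹ * e * g⁻¹⁻¹ * z) * g⁻¹ := by group
      _ = _ := by rw [this]; group⟩) (h.max g (h.E_le h.y_mem) h.mv)).symm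

theorem symm : Hyp p S Q E z g⁻¹ := h.regen h.nm.inv fun e => h.mv (by
  have h1 : Cj g⁻¹ (zpowers z) (zpowers z) := by
    rintro _ ⟨i, rfl⟩
    have := zpow_mem e i
    rwa [conj_zpow] at this
  simpa using h1.inv z (mem_zpowers z))

/-- `fe` for a normal subgroup of `S` -/
theorem feN (hP : P ≤ S) (hn : ∀ s ∈ S, Cj s P P) {K : Subgroup Γ} (h1 : ∀ k ∈ K, Cj k P P)
    (h2 : S ≤ K) {a : Γ} (h3 : Cj a P P) (h4 : Cj a K K) :
    ∃ k ∈ K, ∃ h, (∀ u ∈ P, h * u * h⁻¹ = a * k * u * (a * k)⁻¹) ∧ Cj h S S := by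
  have e : nS S P = S := le_antisymm nS_le fun s hs => mem_nS.2 ⟨hs, hn s hs⟩
  have := h.fe P hP (fun _ _ _ _ _ => e.symm ▸ card_le_of_le nS_le) K h1 (nS_le.trans h2) a h3 h4
  rwa [e] at this

end Hyp

theorem Two.symm [Finite Γ] (h : Two p S Q E z g) : Two p S Q E z g⁻¹ := ⟨h.toHyp.symm, h.out⟩

theorem xp_eq_defs : True := by
  have := @dl.eq_1.{0}; have := @nS.eq_1.{0}; have := @cQ.eq_1.{0}; have := @NV.eq_1.{0}
  have := @CV.eq_1.{0}; have := @DV.eq_1.{0}; have := @XX.eq_1.{0}; have := @Tor.eq_1.{0}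
  trivial

end H93.XP
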