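import Cfsg.Agent.Lib.QW.Api2
import Cfsg.Agent.Lib.Fusion.FratInd
import Cfsg.Agent.Lib.FGS.Heisenberg
import Cfsg.Agent.Lib.XP.Defs

/-!
# From a saturated fusion system to the elementwise hypotheses
-/

set_option autoImplicit false

namespace H93.XP

open Subgroup Cfsg Cfsg.FusionSystem H90 H93.QW

variable {Γ : Type*} [Group Γ] [Finite Γ] {p : ℕ} [hp : Fact p.Prime] {S Q P : Subgroup Γ} {z : Γ}

theorem xs_of (h2 : p ≠ 2) (hS : IsPGroup p S) (hQS : Q ≤ S) (hQ : IsExtraspecial p Q)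
    (hi : (Q.subgroupOf S).index = p) (h6 : p ^ 6 ≤ Nat.card S) : ∃ z, XS p S Q z := by
  obtain ⟨⟨hQp, hF, hD⟩, hZ⟩ := hQ
  have hn := H5.normal_of_index_eq hS hi
  have norm : ∀ s ∈ S, Cj s Q Q := fun s hs u hu =>
    mem_subgroupOf.1 (hn.conj_mem ⟨u, hQS hu⟩ hu ⟨s, hs⟩)
  have idx : Nat.card S = p * Nat.card Q := by
    rw [← (Q.subgroupOf S).index_mul_card, hi, Nat.card_congr (subgroupOfEquivOfLe hQS).toEquiv]
  let Z : Subgroup Γ := (center Q).map Q.subtype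
  have mZ : ∀ u, u ∈ Z ↔ u ∈ Q ∧ ∀ v ∈ Q, v * u = u * v := fun u => ⟨by
    rintro ⟨a, ha, rfl⟩
    exact ⟨a.2, fun v hv => congrArg Subtype.val (mem_center_iff.1 ha ⟨v, hv⟩)⟩, fun h =>
      ⟨⟨u, h.1⟩, mem_center_iff.2 fun v => Subtype.ext (h.2 v v.2), rfl⟩⟩
  have cZ : Nat.card Z = p := by rw [card_map_of_injective Q.subtype_injective, hZ]
  have nZ : ∀ s ∈ S, Cj s Z Z := fun s hs u hu => (mZ _).2 ⟨norm s hs u ((mZ u).1 hu).1, fun v hv => by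
    have := ((mZ u).1 hu).2 _ (norm _ (inv_mem hs) v hv)
    calc _ = s * (s⁻¹ * v * s⁻¹⁻¹ * u) * s⁻¹ := by group
      _ = _ := by rw [this]; group⟩
  have hZS : Z ≤ S := (map_subtype_le _).trans hQS
  obtain ⟨z, hz, hz', ord⟩ := H5.exists_mem_centralizer_orderOf_eq hS hZS
    (fun s hs => (nZ s hs).norm) fun e => hp.out.ne_one (by rw [← cZ, e, card_bot])
  have eZ : zpowers z = Z := eq_of_le_of_card_ge (zpowers_le.2 hz) (by rw [cZ, Nat.card_zpowers, ord])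
  refine ⟨z, h2, hS, hQS, idx, ?_, norm, ord, ((mZ z).1 hz).1, hz', fun u hu h => eZ ▸ (mZ u).2
    ⟨hu, fun v hv => (h v hv).symm⟩, fun u hu v hv => ?_, fun u hu => ?_⟩
  rotate_left
  · exact eZ ▸ mem_map_of_mem Q.subtype
      (hD.le (commutator_mem_commutator (mem_top (⟨u, hu⟩ : Q)) (mem_top (⟨v, hv⟩ : Q))))
  · exact eZ ▸ mem_map_of_mem Q.subtype (hF ▸ H5.pow_mem_frattini hQp ⟨u, hu⟩)
  rw [idx, pow_succ'] at h6
  exact Nat.le_of_mul_le_mul_left h6 hp.out.pos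

variable (hS : IsPGroup p S) (hF : (fusionSystemOfSubgroup ⊤ S le_top).IsSaturated p)
include hS hF

local notation "𝓕" => fusionSystemOfSubgroup ⊤ S le_top

omit hS hF in
theorem fn_of (hP : P ≤ S) (h : ∀ P' ≤ S, ∀ k, Cj k P P' → Cj k⁻¹ P' P →
    Nat.card (nS S P') ≤ Nat.card (nS S P)) : (𝓕).IsFullyNormalized P :=
  isFullyNormalized_iff.2 ⟨hP, fun P' σ hσ => by
    obtain ⟨-, -, k, -, e⟩ := map_subgroup.1 hσ.1
    have h1 : Cj k P P' := fun x hx => e x hx ▸ hσ.mem hx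
    exact h P' hσ.le' k h1 (h1.inv_of_card hσ.card_eq.ge)⟩

theorem fe_of (hP : (𝓕).IsFullyNormalized P) (K : Subgroup Γ) (h1 : ∀ k ∈ K, Cj k P P)
    (h2 : nS S P ≤ K) (a : Γ) (h3 : Cj a P P) (h4 : Cj a K K) :
    ∃ k ∈ K, ∃ h, (∀ u ∈ P, h * u * h⁻¹ = a * k * u * (a * k)⁻¹) ∧ Cj h (nS S P) (nS S P) := by
  have hA : ∀ K : Subgroup Γ, autInducedBy K P ≤ (𝓕).autGroup P := fun K =>
    autGroup_subgroup le_top hP.1 ▸ autInducedBy_mono le_top P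
  have hsyl := (sylowIn_of_normalized hS hF hP).mono (K := autInducedBy K P)
    (autInducedBy_normalizerIn S P ▸ autInducedBy_mono h2 P) (hA K)
  obtain ⟨α, hα, β, hβ, e⟩ := hsyl.frattini' (g := conjAut P a h3.norm)
    (mem_normalizer_of_conj_mem fun γ hγ => by
      obtain ⟨c, hc, e'⟩ := H90.mem_autInducedBy.1 hγ
      have h5 := h4 c hc.1
      refine H90.mem_autInducedBy.2 ⟨_, ⟨h5, (h1 _ h5).norm⟩, fun x hx => ?_⟩
      obtain ⟨y, hy, rfl⟩ : ∃ y ∈ P, extA P (conjAut P a h3.norm) y = x :=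
        ⟨_, extA_inv_mem (conjAut P a h3.norm) hx, by simp⟩
      rw [← extA_mul_apply, inv_mul_cancel_right, extA_mul_apply, extA_conjAut _ (extA_mem γ hy),
        e' y hy, extA_conjAut _ hy]
      group)
  obtain ⟨k, hk, ek⟩ := H90.mem_autInducedBy.1 (inv_mem hβ)
  have ea : ∀ u ∈ P, extA P α u = a * k * u * (a * k)⁻¹ := fun u hu => by
    rw [eq_mul_inv_iff_mul_eq.2 e.symm, extA_mul_apply, extA_conjAut _ (extA_mem _ hu), ek u hu]
    group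
  have hα' : α ∈ (𝓕).autGroup P := (eq_mul_inv_iff_mul_eq.2 e.symm) ▸
    mul_mem (hA ⊤ (conjAut_mem (mem_top a) _)) (hA K (inv_mem hβ))
  obtain ⟨τ, hτ, e1⟩ := (iso_extA hP.1 hα').extend (receptive_of_normalized hS hF hP)
  obtain ⟨-, h5, h, -, e2⟩ := map_subgroup.1 hτ
  have hN : ∀ g ∈ nS S P, g ∈ Next S P (extA P α) := fun g hg =>
    H91.mem_Next_of_conj hg ((mem_normalizer_iff.1 hα _).1 (conjAut_mem hg.1 _))
  have e3 : ∀ u ∈ P, h * u * h⁻¹ = a * k * u * (a * k)⁻¹ := fun u hu => by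
    rw [← e2 u (hN u (le_nS hP.1 hu)), e1 u hu, ea u hu]
  have h6 : Cj h P P := fun u hu => e3 u hu ▸ (h1 k hk.1).mul h3 u hu
  refine ⟨k, hk.1, h, e3, fun g hg => mem_nS.2 ⟨e2 g (hN g hg) ▸ h5 g (hN g hg), ?_⟩⟩
  exact (h6.inv.mul (mem_nS.1 hg).2).mul h6 |> fun t => by simpa [mul_assoc] using t

theorem extZ (hz : z ∈ S) (hc : ∀ s ∈ S, s * z = z * s) {g : Γ} (h1 : g * z * g⁻¹ ∈ S) :
    ∃ h, h * (g * z * g⁻¹) * h⁻¹ = z ∧ Cj h (cS S (g * z * g⁻¹)) S := by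
  have e0 : g⁻¹ * (g * z * g⁻¹) * g⁻¹⁻¹ = z := by group
  have hi : Iso 𝓕 _ _ _ := iso_zpowers h1 (mem_top g⁻¹) (e0.symm ▸ hz)
  rw [e0] at hi
  obtain ⟨τ, hτ, e, -⟩ := hi.extend_centralizer (receptive_of_centralized hS hF
    (isFullyCentralized_of_le_centralizer hi.le' fun s hs => by
      rintro _ ⟨i, rfl⟩
      exact ((show Commute s z from hc s hs).zpow_right i).eq.symm))
  obtain ⟨-, h3, h, -, e'⟩ := map_subgroup.1 hτ
  have h4 := mem_sup_left (T := centralizerIn S (zpowers (g * z * g⁻¹))) (mem_zpowers (g * z * g⁻¹))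
  refine ⟨h, by rw [← e' _ h4, e _ (mem_zpowers _), cj_apply, e0], fun c hc => ?_⟩
  have h5 := mem_sup_right (S := zpowers (g * z * g⁻¹))
    (cent_zpowers S _ ▸ hc : c ∈ centralizerIn S (zpowers (g * z * g⁻¹)))
  exact e' c h5 ▸ h3 c h5

theorem extN {E : Subgroup Γ} (hP : P ≤ S) (hE : (𝓕).IsFullyNormalized E) {g : Γ} (h1 : Cj g P E)
    (h2 : Cj g⁻¹ E P) : ∃ a, Cj a P E ∧ Cj a⁻¹ E P ∧ Cj a (nS S P) S := by
  obtain ⟨τ, hτ, hi, -⟩ := (isoc hP hE.1 trivial h1 h2 : Iso 𝓕 _ _ _).exists_normalizer_map' hS hF hE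
  obtain ⟨-, h3, h, -, e⟩ := map_subgroup.1 hτ
  have h4 : Cj h P E := fun x hx => e x (le_normalizerIn hP hx) ▸ hi.mem hx
  exact ⟨h, h4, h4.inv_of_card hi.card_eq.ge, fun s hs => e s hs ▸ h3 s hs⟩

omit hS in
theorem exists_hyp (x : XS p S Q z) (hz : ¬ SC ⊤ S (zpowers z)) : ∃ E g, Hyp p S Q E z g := by
  have hS := x.pgrp
  have hzS := x.le x.z_mem
  have hzp : z ^ p = 1 := x.ord ▸ pow_orderOf_eq_one z
  have cjZ : ∀ k, k * z * k⁻¹ ∈ zpowers z → Cj k (zpowers z) (zpowers z) := fun k hk =>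
    (cj_zpowers k z).mono le_rfl (zpowers_le.2 hk)
  obtain ⟨m, hm, mx⟩ := Set.exists_max_image {k | k * z * k⁻¹ ∈ S ∧ k * z * k⁻¹ ∉ zpowers z}
    (fun k => Nat.card (cS S (k * z * k⁻¹))) (Set.toFinite _) (by
      by_contra hn
      refine hz fun g _ u hu h3 => ?_
      by_cases h4 : g * z * g⁻¹ ∈ S
      · exact cjZ g (by by_contra h5; exact hn ⟨g, h4, h5⟩) u hu
      obtain rfl | h5 := eq_or_ne u 1
      · simp
      haveI : Fact (Nat.card (zpowers z)).Prime := ⟨by rw [Nat.card_zpowers, x.ord]; exact hp.out⟩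
      obtain ⟨i, hi⟩ := mem_zpowers_of_prime_card (G := zpowers z) rfl
        (g := ⟨u, hu⟩) (g' := ⟨z, mem_zpowers z⟩) fun e => h5 (congrArg Subtype.val e)
      refine absurd ?_ h4
      rw [← show u ^ i = z from congrArg Subtype.val hi, ← conj_zpow]
      exact zpow_mem h3 i)
  obtain ⟨h, e, h1⟩ := extZ hS hF hzS x.zc hm.1
  set P := cS S (m * z * m⁻¹)
  have hzP : z ∈ P := ⟨hzS, (x.zc _ hm.1).symm⟩
  have h2 : h * z * h⁻¹ ∉ zpowers z := fun e' => hm.2 (by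
    have := (cjZ h e').inv z (mem_zpowers z)
    rwa [← e, show h⁻¹ * (h * (m * z * m⁻¹) * h⁻¹) * h⁻¹⁻¹ = m * z * m⁻¹ by group, e] at this)
  have cjc : ∀ a, ∀ N : Subgroup Γ, N ≤ S → Cj a N S → Cj a N (cS S (a * z * a⁻¹)) :=
    fun a N hN ha c hc => ⟨ha c hc, by rw [conj_mul, conj_mul, x.zc c (hN hc)]⟩
  have h3 := cjc h P (cS_le _ _) h1
  have h4 := h3.inv_of_card (mx h ⟨h1 z hzP, h2⟩)
  set P' := cS S (h * z * h⁻¹)
  have fe : ∀ P ≤ S, (∀ P' ≤ S, ∀ k, Cj k P P' → Cj k⁻¹ P' P →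
      Nat.card (nS S P') ≤ Nat.card (nS S P)) → _ := fun P hP h => fe_of hS hF (fn_of hP h)
  by_cases hPS : S ≤ P
  · exact ⟨S, h, x, le_rfl, hzS, h1.mono hPS le_rfl, h2, fun _ _ _ => Subgroup.card_le_of_le (cS_le _ _), fe⟩
  obtain ⟨E, σ, hσ, hE⟩ := exists_fullyNormalized 𝓕 (cS_le S (m * z * m⁻¹))
  obtain ⟨-, -, k, -, ek⟩ := map_subgroup.1 hσ.1
  have h5 : Cj k P E := fun x hx => ek x hx ▸ hσ.mem hx
  have h6 := h5.inv_of_card hσ.card_eq.ge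
  obtain ⟨a, a1, a2, a3⟩ := extN hS hF (cS_le _ _) hE h5 h6
  obtain ⟨b, b1, b2, b3⟩ := extN hS hF (cS_le _ _) hE (h4.mul h5)
    (by simpa using h6.mul h3)
  have key : ∀ R ≤ S, z ∈ R → Nat.card R = Nat.card P → ∀ a, Cj a (nS S R) S →
      a * z * a⁻¹ ∈ zpowers z := fun R hR hzR hc a ha => by
    by_contra h7
    have h8 := (cjc a _ nS_le ha).card_le.trans (mx a ⟨ha z (le_nS hR hzR), h7⟩)
    have h9 : R = nS S R := eq_of_le_of_card_ge (le_nS hR) (hc ▸ h8)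
    have h10 : R = S := hR.eq_or_lt.resolve_right fun e => (lt_normalizerIn hS e).ne h9
    exact hPS (eq_of_le_of_card_ge (cS_le _ _) (by rw [← hc, h10])).ge
  have a4 := cjZ a (key P (cS_le _ _) hzP rfl a a3)
  have hzP' : z ∈ P' := ⟨hzS, (x.zc _ (h1 z hzP)).symm⟩
  have b4 := cjZ b (key P' (cS_le _ _) hzP' (le_antisymm h4.card_le h3.card_le) b b3)
  have hZE : zpowers z ≤ E := fun u hu => by
    simpa [mul_assoc] using a1 _ (zpowers_le.2 hzP (a4.inv u hu))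
  refine ⟨E, b * (h * a⁻¹), x, hE.1, hZE (mem_zpowers z), (a2.mul h3).mul b1, fun e' => h2 ?_,
    fun k h7 h8 => hσ.card_eq ▸ mx k ⟨h7, h8⟩, fe⟩
  simpa [mul_assoc] using ((a4.mul (cjZ _ e')).mul b4.inv) z (mem_zpowers z)

end H93.XP
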