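import Cfsg.Agent.Lib.XP.C2a

/-! The anisotropic subcase: the action on `E`. -/

set_option autoImplicit false
set_option linter.unusedSectionVars false
set_option linter.style.haveILetI false

namespace H93.XP

open Subgroup H93.QW

variable {Γ : Type*} [Group Γ] [Finite Γ] {p : ℕ} [hp : Fact p.Prime] {S Q E : Subgroup Γ} {z g : Γ}

namespace B2A

/-- coordinates -/
def tau (y a b z : Γ) (i j k l : ℤ) : Γ := y ^ i * a ^ j * b ^ k * z ^ l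

theorem eqns : True := by have := @tau.eq_1.{0}; trivial

/-- four elements of an abelian subgroup of exponent `p` -/
structure Fo (p : ℕ) (E : Subgroup Γ) (y a b z : Γ) : Prop where
  ab : ∀ a ∈ E, ∀ b ∈ E, a * b = b * a
  exp : ∀ a ∈ E, a ^ p = 1
  hy : y ∈ E
  ha : a ∈ E
  hb : b ∈ E
  hz : z ∈ E

theorem zconj {v u : Γ} {k : ℤ} (hz : v * z = z * v) (h : v * u * v⁻¹ = u * z ^ k) (x : ℤ) :
    v ^ x * u * (v ^ x)⁻¹ = u * z ^ (k * x) := by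
  have c : ∀ m n : ℤ, v ^ m * z ^ n * (v ^ m)⁻¹ = z ^ n := fun m n => by
    rw [(Commute.zpow_zpow hz m n).eq, mul_inv_cancel_right]
  induction x using Int.induction_on with
  | zero => simp
  | succ n ih =>
    calc _ = v ^ (n : ℤ) * (v * u * v⁻¹) * (v ^ (n : ℤ))⁻¹ := by group
      _ = _ := by rw [h, ← conj_mul, ih, c]; group
  | pred n ih =>
    have h' : v⁻¹ * u * v = u * z ^ (-k) := by
      have := c (-1) (-k)
      calc v⁻¹ * u * v = v⁻¹ * (u * z ^ k) * v * (v ^ (-1 : ℤ) * z ^ (-k) * (v ^ (-1 : ℤ))⁻¹) := by group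
        _ = _ := by rw [← h, this]; group
    calc _ = v ^ (-(n : ℤ)) * (v⁻¹ * u * v) * (v ^ (-(n : ℤ)))⁻¹ := by group
      _ = _ := by rw [h', ← conj_mul, ih, c]; group

namespace Fo

variable {y a b : Γ} (f : Fo p E y a b z)
include f

theorem mul (i j k l i' j' k' l' : ℤ) : tau y a b z i j k l * tau y a b z i' j' k' l' =
    tau y a b z (i + i') (j + j') (k + k') (l + l') := by
  letI : CommGroup E := { (inferInstance : Group E) with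
    mul_comm := fun a b => Subtype.ext (f.ab a a.2 b b.2) }
  exact congrArg Subtype.val (show tau (⟨y, f.hy⟩ : E) ⟨a, f.ha⟩ ⟨b, f.hb⟩ ⟨z, f.hz⟩ i j k l *
    tau ⟨y, f.hy⟩ ⟨a, f.ha⟩ ⟨b, f.hb⟩ ⟨z, f.hz⟩ i' j' k' l' = tau ⟨y, f.hy⟩ ⟨a, f.ha⟩ ⟨b, f.hb⟩ ⟨z, f.hz⟩
      (i + i') (j + j') (k + k') (l + l') by
    simp only [tau, zpow_add, mul_comm, mul_left_comm, mul_assoc])

theorem zpow (i j k l n : ℤ) : tau y a b z i j k l ^ n =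
    tau y a b z (i * n) (j * n) (k * n) (l * n) := by
  letI : CommGroup E := { (inferInstance : Group E) with
    mul_comm := fun a b => Subtype.ext (f.ab a a.2 b b.2) }
  exact congrArg Subtype.val (show tau (⟨y, f.hy⟩ : E) ⟨a, f.ha⟩ ⟨b, f.hb⟩ ⟨z, f.hz⟩ i j k l ^ n =
    tau ⟨y, f.hy⟩ ⟨a, f.ha⟩ ⟨b, f.hb⟩ ⟨z, f.hz⟩ (i * n) (j * n) (k * n) (l * n) by
    simp only [tau, zpow_mul, mul_zpow])

theorem congr {i j k l i' j' k' l' : ℤ} (h1 : (i : ZMod p) = i') (h2 : (j : ZMod p) = j')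
    (h3 : (k : ZMod p) = k') (h4 : (l : ZMod p) = l') :
    tau y a b z i j k l = tau y a b z i' j' k' l' := by
  have c : ∀ u ∈ E, ∀ i i' : ℤ, (i : ZMod p) = i' → u ^ i = u ^ i' := fun u hu i i' e =>
    (zpow_congr (f.exp u hu) ((ZMod.intCast_eq_intCast_iff_dvd_sub _ _ _).1 e)).symm
  rw [tau, tau, c _ f.hy _ _ h1, c _ f.ha _ _ h2, c _ f.hb _ _ h3, c _ f.hz _ _ h4]

theorem conj {c : Γ} {i₁ j₁ k₁ l₁ i₂ j₂ k₂ l₂ i₃ j₃ k₃ l₃ i₄ j₄ k₄ l₄ : ℤ}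
    (h1 : c * y * c⁻¹ = tau y a b z i₁ j₁ k₁ l₁) (h2 : c * a * c⁻¹ = tau y a b z i₂ j₂ k₂ l₂)
    (h3 : c * b * c⁻¹ = tau y a b z i₃ j₃ k₃ l₃) (h4 : c * z * c⁻¹ = tau y a b z i₄ j₄ k₄ l₄)
    (i j k l : ℤ) : c * tau y a b z i j k l * c⁻¹ =
      tau y a b z (i₁ * i + i₂ * j + i₃ * k + i₄ * l) (j₁ * i + j₂ * j + j₃ * k + j₄ * l)
        (k₁ * i + k₂ * j + k₃ * k + k₄ * l) (l₁ * i + l₂ * j + l₃ * k + l₄ * l) := by
  rw [← f.mul, ← f.mul, ← f.mul, ← f.zpow, ← f.zpow, ← f.zpow, ← f.zpow, ← h1, ← h2, ← h3, ← h4,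
    conj_zpow, conj_zpow, conj_zpow, conj_zpow, conj_mul, conj_mul, conj_mul, tau]

end Fo

variable (h : Two p S Q E z g)
include h

theorem XZ {u : Γ} (hu : u ∈ XX E Q g) {k : ℤ} (e : u = z ^ k) : u = 1 := by
  have h1 := (mem_XX.1 hu).2
  rw [e, show g⁻¹ * z ^ k * g = (g⁻¹ * z * g) ^ k by
    have := conj_zpow (a := g⁻¹) (b := z) (i := k); rw [inv_inv] at this; exact this.symm] at h1
  have h2 : g⁻¹ * z * g ∈ E := by simpa using h.nm.inv z h.z_E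
  have := (h.zpow_mem_iff (h.E_le h2) h.z_notMem).1 h1
  rw [e, ← zpow_zero z]
  exact h.zinj.2 (by simpa using this)

theorem fo {u₁ u₂ : Γ} (h1 : u₁ ∈ XX E Q g) (h2 : u₂ ∈ XX E Q g) :
    Fo p E (g * z * g⁻¹) u₁ u₂ z :=
  ⟨h.ab, h.exp, h.y_mem, (mem_XX.1 h1).1.1, (mem_XX.1 h2).1.1, h.z_E⟩

theorem uniq {u u' : Γ} (hu : u ∈ XX E Q g) (hu' : u' ∈ XX E Q g) {k k' : ℤ}
    (e : u * z ^ k = u' * z ^ k') : u = u' := by
  have := XZ h (mul_mem (inv_mem hu') hu) (k := k' - k) (by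
    rw [← mul_inv_eq_iff_eq_mul] at e
    rw [← e]; group)
  exact (inv_mul_eq_one.1 this).symm

theorem lift (b : Beta p Q E z g) {u : Γ} (hu : u ∈ XX E Q g) : ∃ v ∈ Q, ∃ α : ℤ,
    dl (g * z * g⁻¹) v = u * z ^ α ∧ v * u * v⁻¹ = u * z ^ (2 * α) := by
  obtain ⟨v, hv, k, e⟩ := (h.mem_DV (h.E_le h.y_mem)).1 (b.eqD ▸ (mem_XX.1 hu).1 : u ∈ DV Q z _)
  obtain ⟨u', hu', α, e1, e2, -⟩ := b.half v hv
  obtain rfl := uniq h hu hu' (k := 0) (k' := α + k) (by rw [e, e1]; group)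
  exact ⟨v, hv, α, e1, e2⟩

theorem card_X (b : Beta p Q E z g) : Nat.card (XX E Q g) = p ^ 2 := by
  have h1 := h.card_CV_DV (h.E_le h.y_mem)
  rw [b.eqD, b.eqC, b.card, ← h.card_XX] at h1
  refine Nat.pow_left_injective (n := 2) two_ne_zero (Nat.eq_of_mul_eq_mul_left
    (pow_pos hp.out.pos 2) ?_)
  calc p ^ 2 * Nat.card (XX E Q g) ^ 2 = _ := by ring
    _ = _ := h1
    _ = _ := by ring

end B2A

open B2A

theorem Two.act (h : Two p S Q E z g) (b : Beta p Q E z g) {u₁ u₂ : Γ} (h1 : u₁ ∈ XX E Q g)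
    (h2 : u₂ ∈ XX E Q g) (hi : ∀ i j : ℤ, u₁ ^ i * u₂ ^ j = 1 → (p : ℤ) ∣ i ∧ (p : ℤ) ∣ j) :
    ∃ α β γ : ℤ, (∀ x y : ℤ, (p : ℤ) ∣ α * x ^ 2 + β * x * y + γ * y ^ 2 → (p : ℤ) ∣ x ∧ (p : ℤ) ∣ y) ∧
      ∀ x y : ℤ, ∃ v ∈ Q,
        dl (g * z * g⁻¹) v = u₁ ^ x * u₂ ^ y * z ^ (α * x ^ 2 + β * x * y + γ * y ^ 2) ∧
        v * u₁ * v⁻¹ = u₁ * z ^ (2 * α * x + β * y) ∧ v * u₂ * v⁻¹ = u₂ * z ^ (β * x + 2 * γ * y) := by
  have f := fo h h1 h2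
  have yS := h.E_le h.y_mem
  have zQ : ∀ v ∈ Q, v * z = z * v := fun v hv => h.zc v (h.le hv)
  have zc : ∀ v ∈ Q, ∀ k : ℤ, v * z ^ k * v⁻¹ = z ^ k := fun v hv k => by
    rw [(Commute.zpow_right (zQ v hv) k).eq, mul_inv_cancel_right]
  have ta : ∀ k : ℤ, u₁ * z ^ k = tau (g * z * g⁻¹) u₁ u₂ z 0 1 0 k := fun k => by simp [tau]
  have tb : ∀ k : ℤ, u₂ * z ^ k = tau (g * z * g⁻¹) u₁ u₂ z 0 0 1 k := fun k => by simp [tau]
  have tz : ∀ k : ℤ, z ^ k = tau (g * z * g⁻¹) u₁ u₂ z 0 0 0 k := fun k => by simp [tau]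
  have tt : ∀ i j k : ℤ, tau (g * z * g⁻¹) u₁ u₂ z 0 i j k = u₁ ^ i * u₂ ^ j * z ^ k := fun i j k => by
    simp [tau]
  obtain ⟨v₁, hv₁, α, a1, a2⟩ := lift h b h1
  obtain ⟨v₂, hv₂, γ, c1, c2⟩ := lift h b h2
  obtain ⟨β, b1⟩ := h.conj_eq hv₁ (mem_XX.1 h2).1.2
  obtain ⟨β', b2⟩ := h.conj_eq hv₂ (mem_XX.1 h1).1.2
  have e : z ^ β' = z ^ β := by
    obtain ⟨k, e⟩ := h.conj_eq hv₁ hv₂
    have e1 : v₁ * v₂ = v₂ * v₁ * z ^ k := by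
      rw [mul_assoc, (Commute.zpow_right (zQ v₁ hv₁) k).eq, ← mul_assoc, ← e, inv_mul_cancel_right]
    have e2 := h.dl_z yS (v₂ * v₁) k
    rw [← e1, dl_mul, dl_mul, a1, c1, ← conj_mul, ← conj_mul, b1, b2, zc _ hv₁, zc _ hv₂, ta, ta, tb, tb,
      tz γ, tz α, f.mul, f.mul, f.mul, f.mul] at e2
    simp only [add_zero, zero_add, tt] at e2
    have := h.zinj.1 (mul_left_cancel e2)
    exact (h.zinj.2 (by convert this using 1; ring)).symm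
  rw [e] at b2
  have key : ∀ x y : ℤ, ∃ v ∈ Q,
      dl (g * z * g⁻¹) v = u₁ ^ x * u₂ ^ y * z ^ (α * x ^ 2 + β * x * y + γ * y ^ 2) ∧
      (v * u₁ * v⁻¹ = u₁ * z ^ (2 * α * x + β * y) ∧ v * u₂ * v⁻¹ = u₂ * z ^ (β * x + 2 * γ * y)) ∧
      ((p : ℤ) ∣ α * x ^ 2 + β * x * y + γ * y ^ 2 → v ∈ E) := fun x y => by
    have m1 := zpow_mem hv₁ x
    have m2 := zpow_mem hv₂ y
    have cj : ∀ (u : Γ) (i j : ℤ), v₁ * u * v₁⁻¹ = u * z ^ i → v₂ * u * v₂⁻¹ = u * z ^ j →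
        v₁ ^ x * v₂ ^ y * u * (v₁ ^ x * v₂ ^ y)⁻¹ = u * z ^ (i * x + j * y) := fun u i j e1 e2 => by
      calc _ = v₁ ^ x * (v₂ ^ y * u * (v₂ ^ y)⁻¹) * (v₁ ^ x)⁻¹ := by group
        _ = _ := by rw [zconj (zQ _ hv₂) e2, ← conj_mul, zconj (zQ _ hv₁) e1, zc _ m1]; group
    have d1 := cj _ _ _ a2 b2
    have d2 := cj _ _ _ b1 c2
    obtain ⟨k, e0⟩ := h.dl_mul' yS m1 m2
    obtain ⟨k1, e1⟩ := h.dl_zpow yS hv₁ x
    obtain ⟨k2, e2⟩ := h.dl_zpow yS hv₂ y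
    rw [e1, e2, a1, c1, ta, tb, tz k, tz k1, tz k2, f.zpow, f.zpow, f.mul, f.mul, f.mul, f.mul] at e0
    simp only [add_zero, zero_add, zero_mul, one_mul, tt] at e0
    obtain ⟨u, hu, k', e3, e4, e5⟩ := b.half _ (mul_mem m1 m2)
    obtain rfl := uniq h (mul_mem (zpow_mem h1 x) (zpow_mem h2 y)) hu (e0.symm.trans e3)
    rw [← conj_mul, ← conj_zpow, ← conj_zpow, d1, d2, ta, tb, f.zpow, f.zpow, f.mul] at e4
    simp only [add_zero, zero_add, zero_mul, one_mul, tt] at e4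
    have e6 : (p : ℤ) ∣ α * x ^ 2 + β * x * y + γ * y ^ 2 - k' := by
      refine ((Nat.prime_iff_prime_int.1 hp.out).dvd_or_dvd (a := 2) ?_).resolve_left h.not_dvd_two
      have := h.zinj.1 (mul_left_cancel e4)
      rwa [show 2 * (α * x ^ 2 + β * x * y + γ * y ^ 2 - k') =
        (2 * α * x + β * y) * x + (β * x + 2 * γ * y) * y - 2 * k' by ring]
    refine ⟨_, mul_mem m1 m2, by rw [e3, h.zinj.2 e6], ⟨d1, d2⟩, fun e => e5 ?_⟩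
    simpa using dvd_sub e e6
  refine ⟨α, β, γ, fun x y e => ?_, fun x y => ?_⟩
  · obtain ⟨v, -, e1, -, e2⟩ := key x y
    rw [dl_eq_one.2 (h.ab _ (e2 e) _ h.y_mem), (h.zinj (j := 0)).2 (by simpa using e), zpow_zero,
      mul_one] at e1
    exact hi x y e1.symm
  · obtain ⟨v, hv, e1, e2, -⟩ := key x y
    exact ⟨v, hv, e1, e2⟩

/-- some element of `N(E)` normalises `⟨z⟩` and `E ∩ Q` but moves `⟨z, u⟩` -/
theorem Two.move (h : Two p S Q E z g) (b : Beta p Q E z g) (b' : Beta p Q E z g⁻¹) {u : Γ}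
    (hu : u ∈ E ⊓ Q) (hu' : u ∉ zpowers z) : ∃ k, Cj k E E ∧ k * z * k⁻¹ ∈ zpowers z ∧
      Cj k (E ⊓ Q) (E ⊓ Q) ∧ ¬ ∃ i j : ℤ, k * u * k⁻¹ = u ^ i * z ^ j := by
  obtain ⟨u₁, h1, m, rfl⟩ := h.dec u hu
  have u1 : u₁ ≠ 1 := fun e => hu' (by rw [e, one_mul]; exact zpow_mem_zpowers z m)
  have p1 := h.exp _ (mem_XX.1 h1).1.1
  have c1 : Nat.card (zpowers u₁) = p := by rw [Nat.card_zpowers, orderOf_eq_prime p1 u1]
  have XS : XX E Q g ≤ S := fun x hx => h.E_le (mem_XX.1 hx).1.1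
  obtain ⟨u₂, h2, h2'⟩ : ∃ u₂ ∈ XX E Q g, u₂ ∉ zpowers u₁ := by
    by_contra! e
    have := card_le_of_le (show XX E Q g ≤ zpowers u₁ from e)
    rw [card_X h b, c1] at this
    have := hp.out.two_le
    nlinarith
  have p2 := h.exp _ (mem_XX.1 h2).1.1
  have hi : ∀ i j : ℤ, u₁ ^ i * u₂ ^ j = 1 → (p : ℤ) ∣ i ∧ (p : ℤ) ∣ j := fun i j e => by
    have hj : (p : ℤ) ∣ j := by
      by_contra hj
      obtain ⟨n, e'⟩ := root p2 hj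
      rw [← e', eq_inv_of_mul_eq_one_right e] at h2'
      exact h2' (zpow_mem (inv_mem (zpow_mem_zpowers u₁ i)) n)
    refine ⟨by_contra fun hi => ?_, hj⟩
    obtain ⟨n, e'⟩ := root p1 hi
    rw [zpow_congr p2 (j := 0) (by simpa using hj), zpow_zero, mul_one] at e
    exact u1 (by rw [← e', e, one_zpow])
  have f := fo h h1 h2
  have tt : ∀ i j k : ℤ, tau (g * z * g⁻¹) u₁ u₂ z 0 i j k = u₁ ^ i * u₂ ^ j * z ^ k := fun i j k => by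
    simp [tau]
  have tQ : ∀ i j k : ℤ, tau (g * z * g⁻¹) u₁ u₂ z 0 i j k ∈ E ⊓ Q := fun i j k => by
    rw [tt]
    exact mul_mem (mul_mem (zpow_mem (mem_XX.1 h1).1 i) (zpow_mem (mem_XX.1 h2).1 j))
      (zpow_mem (show z ∈ E ⊓ Q from ⟨h.z_E, h.z_mem⟩) k)
  have ind : ∀ i j k i' j' k' : ℤ, tau (g * z * g⁻¹) u₁ u₂ z 0 i j k = tau (g * z * g⁻¹) u₁ u₂ z 0 i' j' k' →
      (i : ZMod p) = i' ∧ (j : ZMod p) = j' := fun i j k i' j' k' e => by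
    have e1 : tau (g * z * g⁻¹) u₁ u₂ z 0 i' j' k' * tau (g * z * g⁻¹) u₁ u₂ z 0 i j k ^ (-1 : ℤ) = 1 := by
      rw [e]; simp
    rw [f.zpow, f.mul, zero_mul, add_zero, tt, mul_eq_one_iff_eq_inv, ← zpow_neg] at e1
    have := hi _ _ (XZ h (mul_mem (zpow_mem h1 _) (zpow_mem h2 _)) e1)
    simp only [ZMod.intCast_eq_intCast_iff_dvd_sub]
    exact ⟨by convert this.1 using 1; ring, by convert this.2 using 1; ring⟩
  let T : ZMod p → ZMod p → ZMod p → ZMod p → Γ := fun i j k l =>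
    tau (g * z * g⁻¹) u₁ u₂ z i.val j.val k.val l.val
  have Ti : ∀ i j k l : ℤ, ∀ {i' j' k' l' : ZMod p}, i' = i → j' = j → k' = k → l' = l →
      T i' j' k' l' = tau (g * z * g⁻¹) u₁ u₂ z i j k l := fun i j k l _ _ _ _ e1 e2 e3 e4 =>
    f.congr (by simp [e1]) (by simp [e2]) (by simp [e3]) (by simp [e4])
  have T0 : ∀ j k l, T 0 j k l = tau (g * z * g⁻¹) u₁ u₂ z 0 j.val k.val l.val := fun j k l => by
    simp [T]
  have aniso : ∀ α β γ : ℤ, (∀ x y : ℤ, (p : ℤ) ∣ α * x ^ 2 + β * x * y + γ * y ^ 2 →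
      (p : ℤ) ∣ x ∧ (p : ℤ) ∣ y) → ∀ x y : ZMod p, (α : ZMod p) * x ^ 2 + β * x * y + γ * y ^ 2 = 0 →
      x = 0 ∧ y = 0 := fun α β γ e x y e' => by
    obtain ⟨x, rfl⟩ := ZMod.intCast_surjective x
    obtain ⟨y, rfl⟩ := ZMod.intCast_surjective y
    simp only [ZMod.intCast_zmod_eq_zero_iff_dvd]
    exact e x y ((ZMod.intCast_zmod_eq_zero_iff_dvd _ _).1 (by push_cast; exact e'))
  obtain ⟨α, β, γ, an, ac⟩ := h.act b h1 h2 hi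
  have sx : ∀ w ∈ XX E Q g, g⁻¹ * w * g⁻¹⁻¹ ∈ XX E Q g⁻¹ := fun w hw => mem_XX.2
    ⟨⟨h.nm.inv w (mem_XX.1 hw).1.1, by simpa using (mem_XX.1 hw).2⟩, by
      simpa [mul_assoc] using (mem_XX.1 hw).1.2⟩
  obtain ⟨α', β', γ', an', ac'⟩ := h.symm.act b' (sx _ h1) (sx _ h2) fun i j e => hi i j (by
    rwa [conj_zpow, conj_zpow, conj_mul, conj_eq_one_iff] at e)
  have two : (2 : ZMod p) ≠ 0 := fun e =>
    h.not_dvd_two ((ZMod.intCast_zmod_eq_zero_iff_dvd 2 p).1 (by exact_mod_cast e))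
  obtain ⟨k, hk, k1, k2, j₁, j₂, j₃, k3, k4⟩ := la_move two T (nS ⊤ E) (aniso _ _ _ an) (aniso _ _ _ an')
    (fun x y => by
      obtain ⟨x, rfl⟩ := ZMod.intCast_surjective x
      obtain ⟨y, rfl⟩ := ZMod.intCast_surjective y
      obtain ⟨v, hv, e1, e2, e3⟩ := ac x y
      refine ⟨v, mem_nS.2 ⟨trivial, h.cj_N ((h.mem_NV (h.E_le h.y_mem)
        (show z ∈ E ⊓ Q from ⟨h.z_E, h.z_mem⟩) inf_le_right).2 ⟨hv, by rw [e1, ← tt]; exact tQ _ _ _⟩)⟩, fun i j k l => ?_⟩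
      rw [f.conj (i₁ := 1) (j₁ := x) (k₁ := y) (l₁ := α * x ^ 2 + β * x * y + γ * y ^ 2)
        (i₂ := 0) (j₂ := 1) (k₂ := 0) (l₂ := 2 * α * x + β * y)
        (i₃ := 0) (j₃ := 0) (k₃ := 1) (l₃ := β * x + 2 * γ * y) (i₄ := 0) (j₄ := 0) (k₄ := 0) (l₄ := 1)
        (by rw [conj_eq_dl, e1]; simp [tau, mul_assoc]) (by rw [e2]; simp [tau]) (by rw [e3]; simp [tau])
        (by rw [h.zc v (h.le hv)]; simp [tau])]
      refine (Ti _ _ _ _ ?_ ?_ ?_ ?_).symm <;> simp <;> ring)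
    (fun x y => by
      obtain ⟨x, rfl⟩ := ZMod.intCast_surjective x
      obtain ⟨y, rfl⟩ := ZMod.intCast_surjective y
      obtain ⟨v, hv, e1, e2, e3⟩ := ac' x y
      have hs := h.symm
      have n1 : Cj v E E := hs.cj_N ((h.mem_NV (h.E_le hs.y_mem)
        (show z ∈ E ⊓ Q from ⟨h.z_E, h.z_mem⟩) inf_le_right).2
        ⟨hv, e1 ▸ mul_mem (mul_mem (zpow_mem (mem_XX.1 (sx _ h1)).1 x) (zpow_mem (mem_XX.1 (sx _ h2)).1 y))
          (zpow_mem (show z ∈ E ⊓ Q from ⟨h.z_E, h.z_mem⟩) _)⟩)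
      refine ⟨g * (v * g⁻¹), mem_nS.2 ⟨trivial, (h.nm.inv.mul n1).mul h.nm⟩, fun i j k l => ?_⟩
      have cj : ∀ w, g * (v * g⁻¹) * w * (g * (v * g⁻¹))⁻¹ = g * (v * (g⁻¹ * w * g⁻¹⁻¹) * v⁻¹) * g⁻¹ :=
        fun w => by group
      have ty : ∀ n : ℤ, g * z ^ n * g⁻¹ = tau (g * z * g⁻¹) u₁ u₂ z n 0 0 0 := fun n => by simp [tau]
      rw [f.conj (i₁ := 1) (j₁ := 0) (k₁ := 0) (l₁ := 0)
        (i₂ := 0 + (2 * α' * x + β' * y)) (j₂ := 1 + 0) (k₂ := 0 + 0) (l₂ := 0 + 0)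
        (i₃ := 0 + (β' * x + 2 * γ' * y)) (j₃ := 0 + 0) (k₃ := 1 + 0) (l₃ := 0 + 0)
        (i₄ := 0 + 0 + (α' * x ^ 2 + β' * x * y + γ' * y ^ 2)) (j₄ := 0 + x + 0) (k₄ := 0 + y + 0)
        (l₄ := 1 + 0 + 0)
        (by
          rw [cj, show g⁻¹ * (g * z * g⁻¹) * g⁻¹⁻¹ = z by group, h.zc v (h.le hv)]
          simp [tau])
        (by rw [cj, e2, ← conj_mul, ty, ← f.mul]; simp [tau, mul_assoc])
        (by rw [cj, e3, ← conj_mul, ty, ← f.mul]; simp [tau, mul_assoc])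
        (by
          rw [cj, conj_eq_dl (g⁻¹ * z * g⁻¹⁻¹) v, e1, ← mul_assoc (g⁻¹ * z * g⁻¹⁻¹), ← conj_mul, ty,
            ← f.mul, ← f.mul, conj_zpow, conj_zpow]
          simp [tau, mul_assoc])]
      refine (Ti _ _ _ _ ?_ ?_ ?_ ?_).symm <;> simp <;> ring)
    (fun k hk i j l e => by
      rw [Ti 1 0 0 0 (by simp) (by simp) (by simp) (by simp), T0] at e
      have e' : k * g * z * (k * g)⁻¹ = tau (g * z * g⁻¹) u₁ u₂ z 0 i.val j.val l.val := by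
        rw [← e]; simp [tau, mul_assoc]
      obtain ⟨n, e2⟩ := h.out (k * g) (h.nm.mul (mem_nS.1 hk).2) (e' ▸ (tQ _ _ _).2)
      have := ind _ _ _ 0 0 n (by rw [← e', ← e2, tt]; simp)
      simpa using this)
    (j₀ := 1) (k₀ := 0) (by simp)
  obtain ⟨l', e1⟩ := k1 1
  rw [Ti 0 0 0 1 (by simp) (by simp) (by simp) (by simp), T0, tt, tt] at e1
  simp only [ZMod.val_zero, Nat.cast_zero, zpow_zero, one_mul, zpow_one] at e1
  refine ⟨k, (mem_nS.1 hk).2, e1 ▸ zpow_mem_zpowers _ _, fun e he => ?_, fun ⟨i, j, e⟩ => k4 ?_⟩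
  · obtain ⟨w, hw, n, rfl⟩ := h.dec e he
    obtain ⟨_, ⟨i, rfl⟩, j, rfl⟩ := h.gen_of XS (zpowers_le.2 h1)
      (by rw [card_X h b, c1, sq]) h2 h2' w hw
    obtain ⟨j', k', l', e2⟩ := k2 i j n
    rw [Ti 0 i j n (by simp) rfl (by simp) rfl, T0, tt, zpow_natCast] at e2
    exact e2 ▸ tQ _ _ _
  · rw [Ti 0 1 0 0 (by simp) (by simp) (by simp) (by simp), T0, tt] at k3
    simp only [zpow_zero, mul_one, zpow_one] at k3
    have e2 : k * u₁ * k⁻¹ = (u₁ * z ^ m) ^ i * z ^ j * (z ^ (l'.val : ℤ)) ^ (-m) := by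
      rw [← e, ← e1, conj_zpow]; group
    rw [← zpow_mul, show u₁ * z ^ m = tau (g * z * g⁻¹) u₁ u₂ z 0 1 0 m by simp [tau],
      show z ^ j = tau (g * z * g⁻¹) u₁ u₂ z 0 0 0 j by simp [tau],
      show z ^ ((l'.val : ℤ) * -m) = tau (g * z * g⁻¹) u₁ u₂ z 0 0 0 (l'.val * -m) by simp [tau],
      f.zpow, f.mul, f.mul, k3] at e2
    simp only [zero_mul, add_zero] at e2
    have : j₂ = 0 := by simpa using (ind _ _ _ _ _ _ e2).2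
    rw [this]; simp

end H93.XP
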