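import Cfsg.Agent.Lib.XP.B2a

/-!
# The anisotropic subcase is of quadratic type
-/

set_option autoImplicit false

namespace H93.XP

open Subgroup H93.QW

variable {Γ : Type*} [Group Γ] [Finite Γ] {p : ℕ} [hp : Fact p.Prime] {S Q E : Subgroup Γ} {z g : Γ}

omit hp in
private theorem b2b_inv (M : Submonoid Γ) {x : Γ} (hx : x ∈ M) : x⁻¹ ∈ M :=
  (Submonoid.powers_le.2 hx) (mem_powers_iff_mem_zpowers.2 (inv_mem (mem_zpowers x)))

omit hp in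
private theorem b2b_cjZ {k : Γ} (e : k * z * k⁻¹ ∈ zpowers z) : Cj k (zpowers z) (zpowers z) := by
  rintro _ ⟨i, rfl⟩
  have := zpow_mem e i
  rwa [conj_zpow] at this

/-- the elements of `Q` of order dividing `p` -/
private theorem b2b_omega (h : XS p S Q z) : ∃ Q₁ : Subgroup Γ,
    (∀ v, v ∈ Q₁ ↔ v ∈ Q ∧ v ^ p = 1) ∧ Nat.card Q ≤ p * Nat.card Q₁ := by
  let f : Q →* zpowers z := MonoidHom.mk' (fun u => ⟨(u : Γ) ^ p, h.pow u u.2⟩) fun a b =>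
    Subtype.ext (h.mul_pow a.2 b.2)
  refine ⟨f.ker.map Q.subtype, fun v => ⟨?_, fun hv => ⟨⟨v, hv.1⟩, Subtype.ext hv.2, rfl⟩⟩, ?_⟩
  · rintro ⟨u, hu, rfl⟩
    exact ⟨u.2, congrArg Subtype.val (MonoidHom.mem_ker.1 hu)⟩
  · rw [card_map_of_injective Q.subtype_injective, ← f.ker.index_mul_card, index_ker]
    refine Nat.mul_le_mul_right _ ?_
    exact (card_le_card_group _).trans h.card_Z.le

/-- the subgroup used in the extension argument -/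
private theorem b2b_K (h : Two p S Q E z g) (b : Beta p Q E z g) : ∃ K : Subgroup Γ,
    (∀ c, c ∈ K ↔ Cj c E E ∧ c * z = z * c ∧ (∀ e ∈ E ⊓ Q, e⁻¹ * (c * e * c⁻¹) ∈ zpowers z) ∧
      ∀ e ∈ E, e⁻¹ * (c * e * c⁻¹) ∈ Q) ∧ S ≤ K := by
  have hx := h.toHyp.toXS
  have hyE := h.toHyp.y_mem
  have hyS := h.E_le hyE
  let M : Submonoid Γ :=
    { carrier := {c | Cj c E E ∧ c * z = z * c ∧
        (∀ e ∈ E ⊓ Q, e⁻¹ * (c * e * c⁻¹) ∈ zpowers z) ∧ ∀ e ∈ E, e⁻¹ * (c * e * c⁻¹) ∈ Q}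
      one_mem' := ⟨Cj.of_mem (one_mem _), by simp, fun e _ => by simp, fun e _ => by simp⟩
      mul_mem' := by
        rintro c d ⟨c1, c2, c3, c4⟩ ⟨d1, d2, d3, d4⟩
        have cz : Cj c (zpowers z) (zpowers z) := b2b_cjZ (by rw [c2]; simp)
        have key : ∀ e : Γ, e⁻¹ * (c * d * e * (c * d)⁻¹) =
            e⁻¹ * (c * e * c⁻¹) * (c * (e⁻¹ * (d * e * d⁻¹)) * c⁻¹) := fun e => by group
        refine ⟨d1.mul c1, by rw [mul_assoc, d2, ← mul_assoc, c2, mul_assoc], fun e he => ?_,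
          fun e he => ?_⟩
        · rw [key]; exact mul_mem (c3 e he) (cz _ (d3 e he))
        · rw [key]
          have m : e⁻¹ * (d * e * d⁻¹) ∈ E ⊓ Q :=
            mem_inf.2 ⟨mul_mem (inv_mem he) (d1 e he), d4 e he⟩
          refine mul_mem (c4 e he) ?_
          have := mul_mem m.2 (hx.Z_le (c3 _ m))
          rwa [mul_inv_cancel_left] at this }
  let K : Subgroup Γ := { M with inv_mem' := fun hc => b2b_inv M hc }
  refine ⟨K, fun c => Iff.rfl, fun s hs => ?_⟩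
  obtain ⟨i, q, hq, rfl⟩ := hx.gen hyS h.notMem hs
  refine mul_mem (pow_mem ?_ i) ?_
  · have e1 : ∀ e ∈ E, e⁻¹ * (g * z * g⁻¹ * e * (g * z * g⁻¹)⁻¹) = 1 := fun e he => by
      rw [h.ab _ hyE e he]; group
    exact ⟨Cj.of_mem hyE, hx.zc _ hyS, fun e he => by rw [e1 e he.1]; exact one_mem _,
      fun e he => by rw [e1 e he]; exact one_mem _⟩
  · refine ⟨h.cj_N ((hx.mem_NV hyS (mem_inf.2 ⟨h.z_E, hx.z_mem⟩) inf_le_right).2
      ⟨hq, b.eqD ▸ hx.dl_mem_DV hq⟩), hx.zc _ (hx.le hq), fun e he => ?_, fun e he => ?_⟩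
    · obtain ⟨k, hk⟩ := hx.conj_eq hq he.2
      rw [hk, inv_mul_cancel_left]
      exact zpow_mem (mem_zpowers z) k
    · have := mul_mem (hx.norm _ (inv_mem (h.E_le he)) q hq) (inv_mem hq)
      simpa [mul_assoc] using this

private theorem b2b_exp (h : Two p S Q E z g) (b : Beta p Q E z g) (b' : Beta p Q E z g⁻¹) :
    ∀ u ∈ Q, u ^ p = 1 := by
  by_contra hne
  push Not at hne
  obtain ⟨v₀, hv₀, hv₀'⟩ := hne
  have hx := h.toHyp.toXS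
  have hyE := h.toHyp.y_mem
  have hyS := h.E_le hyE
  have p1 := hp.out.one_lt
  have c0 : Nat.card (E ⊓ Q : Subgroup Γ) = p ^ 3 := by
    have := hx.card_CV_DV hyS
    rw [b.eqC, b.eqD, b.card] at this
    refine Nat.pow_left_injective (n := 2) (by norm_num) ?_
    simp only
    rw [pow_two, this]; ring
  obtain ⟨Q₁, m1, c1⟩ := b2b_omega hx
  have l1 : Q₁ ≤ Q := fun v hv => ((m1 v).1 hv).1
  have l0 : E ⊓ Q ≤ Q₁ := fun v hv => (m1 v).2 ⟨hv.2, h.exp v hv.1⟩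
  have c2 : Nat.card Q₁ ≤ p * Nat.card (E ⊓ Q : Subgroup Γ) := by
    have := hx.card_lt hx.le (lt_of_le_of_ne l1 fun e => hv₀' ((m1 v₀).1 (e ▸ hv₀)).2)
    rw [b.card] at this
    rw [c0]
    refine Nat.le_of_mul_le_mul_left (this.trans (le_of_eq (by ring))) hp.out.pos
  obtain ⟨v, hv, hv'⟩ : ∃ v ∈ Q₁, v ∉ E ⊓ Q := by
    by_contra hc
    push Not at hc
    have h1 : Nat.card Q₁ ≤ p ^ 3 := c0 ▸ card_le_of_le hc
    have h2 : p ^ 5 ≤ p ^ 4 := by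
      calc p ^ 5 = Nat.card Q := b.card.symm
        _ ≤ p * p ^ 3 := c1.trans (Nat.mul_le_mul_left _ h1)
        _ = p ^ 4 := by ring
    have := (Nat.pow_le_pow_iff_right p1).1 h2
    omega
  have hvQ := l1 hv
  have hu : dl (g * z * g⁻¹) v ∈ E ⊓ Q := b.eqD ▸ hx.dl_mem_DV hvQ
  have hu' : dl (g * z * g⁻¹) v ∉ zpowers z := fun e => hv' (b.eqC ▸ (hx.mem_CV hyS).2 ⟨hvQ, e⟩)
  obtain ⟨k, k1, k2, k3, k4⟩ := h.move b b' hu hu'
  obtain ⟨K, mK, lK⟩ := b2b_K h b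
  have kz := b2b_cjZ k2
  have kK : Cj k K K := fun c hc => by
    obtain ⟨d1, d2, d3, d4⟩ := (mK c).1 hc
    have key : ∀ e : Γ, e⁻¹ * (k * c * k⁻¹ * e * (k * c * k⁻¹)⁻¹) =
        k * ((k⁻¹ * e * k⁻¹⁻¹)⁻¹ * (c * (k⁻¹ * e * k⁻¹⁻¹) * c⁻¹)) * k⁻¹ := fun e => by group
    refine (mK _).2 ⟨?_, ?_, fun e he => ?_, fun e he => ?_⟩
    · rw [mul_assoc]
      exact (k1.inv.mul d1).mul k1
    · obtain ⟨i, hi⟩ := kz.inv z (mem_zpowers z)
      have e1 : c * z ^ i = z ^ i * c := ((show Commute c z from d2).zpow_right i).eq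
      simp only at hi
      rw [hi] at e1
      calc _ = k * (c * (k⁻¹ * z * k⁻¹⁻¹)) * k⁻¹ := by group
        _ = _ := by rw [e1]; group
    · rw [key]; exact kz _ (d3 _ (k3.inv e he))
    · rw [key]
      have he' := k1.inv e he
      exact (k3 _ (mem_inf.2 ⟨mul_mem (inv_mem he') (d1 _ he'), d4 _ he'⟩)).2
  obtain ⟨c, hc, t, t1, t2⟩ := h.toHyp.feN h.E_le (fun s hs => ((mK s).1 (lK hs)).1)
    (fun c hc => ((mK c).1 hc).1) lK k1 kK
  obtain ⟨d1, d2, d3, -⟩ := (mK c).1 hc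
  have tz : t * z * t⁻¹ ∈ zpowers z := by
    rw [t1 z h.z_E]
    have : k * c * z * (k * c)⁻¹ = k * z * k⁻¹ := by
      rw [mul_assoc k, d2]; group
    rwa [this]
  have tQ : Cj t Q Q := hx.char hyS h.notMem (by rw [b.eqC, c0, b.card]; exact le_of_eq (by ring)) t2 tz
  have tv : t * v * t⁻¹ ∈ Q₁ := (m1 _).2 ⟨tQ v hvQ, by rw [conj_pow, ((m1 v).1 hv).2]; simp⟩
  obtain ⟨e, he, i, hi⟩ := hx.gen_of (l1.trans hx.le) l0 c2 hv hv' _ tv
  have ty : t * (g * z * g⁻¹) * t⁻¹ ∈ E := by rw [t1 _ hyE]; exact (d1.mul k1) _ hyE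
  obtain ⟨e', he', j, hj⟩ := h.genE _ ty
  have hjE := pow_mem hyE j
  have hjS := h.E_le hjE
  obtain ⟨n1, e1⟩ := hx.dl_Q hjS he'.2 (mul_mem he.2 (pow_mem hvQ i))
  obtain ⟨n2, e2⟩ := hx.dl_mul' hjS he.2 (pow_mem hvQ i)
  obtain ⟨n3, e3⟩ := hx.dl_zpow hjS hvQ (i : ℤ)
  have e4 : dl ((g * z * g⁻¹) ^ j) e = 1 := dl_eq_one.2 (h.ab _ he.1 _ hjE)
  have e5 : dl ((g * z * g⁻¹) ^ j) v = dl (g * z * g⁻¹) v ^ j := by
    have a1 := conj_eq_dl ((g * z * g⁻¹) ^ j) v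
    rw [← conj_pow, conj_eq_dl,
      (show Commute (g * z * g⁻¹) (dl (g * z * g⁻¹) v) from h.ab _ hyE _ hu.1).mul_pow] at a1
    exact (mul_left_cancel a1).symm
  rw [zpow_natCast, e5] at e3
  rw [e4, e3, one_mul] at e2
  have e6 := conj_dl t (g * z * g⁻¹) v
  rw [hi, hj, h.ab _ he'.1 _ hjE, e1, e2, t1 _ hu.1] at e6
  obtain ⟨m, hm⟩ := kz _ (d3 _ hu)
  simp only at hm
  refine k4 ⟨j * i, n3 + n2 + n1 - m, ?_⟩
  generalize dl (g * z * g⁻¹) v = u at *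
  calc k * u * k⁻¹ = k * c * u * (k * c)⁻¹ * (k * (u⁻¹ * (c * u * c⁻¹)) * k⁻¹)⁻¹ := by group
    _ = _ := by rw [e6, ← hm, zpow_mul, zpow_natCast u j]; group

theorem Two.qt (h : Two p S Q E z g) (b : Beta p Q E z g) (b' : Beta p Q E z g⁻¹) :
    QT p S Q z (g * z * g⁻¹) where
  card := b.card
  exp := b2b_exp h b b'
  mem := h.E_le h.toHyp.y_mem
  notMem := h.notMem
  pow := by rw [conj_pow, h.toHyp.toXS.zp]; simp
  eq := b.eqD.trans b.eqC.symm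
  comm := fun v hv => by
    rw [b.eqC, h.inf_eq] at hv
    exact hv.2

end H93.XP
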