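import Cfsg.Agent.Lib.XP.Defs

/-! Basic facts on an extraspecial subgroup of index `p`. -/

set_option autoImplicit false
set_option linter.unusedSectionVars false

namespace H93.XP

open Subgroup H93.QW

variable {Γ : Type*} [Group Γ] [Finite Γ] {p : ℕ} [hp : Fact p.Prime] {S Q E : Subgroup Γ} {z g : Γ}

omit [Group Γ] [Finite Γ] in
theorem inv_mod {i : ℤ} (hi : ¬ (p : ℤ) ∣ i) : ∃ j : ℤ, (p : ℤ) ∣ i * j - 1 := by
  obtain ⟨a, b, e⟩ := (Nat.prime_iff_prime_int.1 hp.out).coprime_iff_not_dvd.2 hi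
  exact ⟨b, -a, by linear_combination e⟩

omit [Finite Γ] in
theorem zpow_congr {u : Γ} (hu : u ^ p = 1) {i j : ℤ} (e : (p : ℤ) ∣ i - j) : u ^ i = u ^ j := by
  obtain ⟨c, hc⟩ := e
  rw [show i = j + p * c by linear_combination hc, zpow_add, zpow_mul, zpow_natCast, hu, one_zpow,
    mul_one]

omit [Finite Γ] in
theorem root {u : Γ} (hu : u ^ p = 1) {i : ℤ} (hi : ¬ (p : ℤ) ∣ i) : ∃ j : ℤ, (u ^ i) ^ j = u := by
  obtain ⟨j, hj⟩ := inv_mod hi
  exact ⟨j, by rw [← zpow_mul, zpow_congr hu hj, zpow_one]⟩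

namespace Bas1

omit hp

theorem card_of {K A : Subgroup Γ} (h : K ≤ A) : Nat.card (K.subgroupOf A) = Nat.card K :=
  Nat.card_congr (subgroupOfEquivOfLe h).toEquiv

theorem card_rel (X Y : Subgroup Γ) :
    Y.relIndex X * Nat.card (X ⊓ Y : Subgroup Γ) = Nat.card X := by
  rw [← card_of (inf_le_left : X ⊓ Y ≤ X), inf_subgroupOf_left]
  exact (Y.subgroupOf X).index_mul_card

/-- the order of a subgroup through a homomorphism -/
theorem card_ker {B : Type*} [Group B] {A K : Subgroup Γ} (φ : A →* B) (hK : K ≤ A)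
    (h : ∀ a : A, φ a = 1 ↔ (a : Γ) ∈ K) : Nat.card A = Nat.card φ.range * Nat.card K := by
  have e : φ.ker = K.subgroupOf A := Subgroup.ext h
  rw [← card_of hK, ← e, ← index_ker, index_mul_card]

omit [Finite Γ] in
theorem mul_pow_cen {u v c : Γ} (h : v * u = u * v * c) (h1 : Commute c u) (h2 : Commute c v)
    (n : ℕ) : (u * v) ^ n = u ^ n * v ^ n * c ^ n.choose 2 := by
  have k : ∀ n : ℕ, v ^ n * u = u * v ^ n * c ^ n := fun n => by
    induction n with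
    | zero => simp
    | succ n ih =>
      rw [pow_succ', mul_assoc, ih, ← mul_assoc, ← mul_assoc, h, mul_assoc (u * v),
        (h2.pow_right n).eq, pow_succ' c]
      simp only [mul_assoc]
  induction n with
  | zero => simp
  | succ n ih =>
    rw [pow_succ, ih, Nat.choose_succ_succ' n 1, Nat.choose_one_right, pow_add c, mul_assoc,
      ((h1.mul_right h2).pow_left _).eq, ← mul_assoc, ← mul_assoc, mul_assoc (u ^ n), k,
      pow_succ u, pow_succ v, mul_assoc (u ^ n), mul_assoc (u * v ^ n), (h2.pow_left n).eq]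
    simp only [mul_assoc]

open Classical in
theorem card_cS_sum [Fintype Γ] (A : Subgroup Γ) (u : Γ) : Nat.card (cS A u) =
    ∑ a ∈ Finset.univ.filter (· ∈ A), if a * u = u * a then 1 else 0 := by
  rw [← Finset.card_filter, Finset.filter_filter, Nat.card_eq_fintype_card, Fintype.card_subtype]
  exact congrArg _ (Finset.filter_congr fun _ _ => mem_cS)

open Classical in
theorem card_filter [Fintype Γ] (A : Subgroup Γ) :
    (Finset.univ.filter (· ∈ A)).card = Nat.card A := by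
  rw [Nat.card_eq_fintype_card, Fintype.card_subtype]

end Bas1

open Bas1

namespace XS

variable (h : XS p S Q z) {P X Y : Subgroup Γ} {s u v x y : Γ}
include h

theorem zp : z ^ p = 1 := h.ord ▸ pow_orderOf_eq_one z
theorem z_ne : z ≠ 1 := fun e => hp.out.one_lt.ne (by rw [← h.ord, e, orderOf_one])
theorem zinj {i j : ℤ} : z ^ i = z ^ j ↔ (p : ℤ) ∣ i - j := by
  rw [zpow_eq_zpow_iff_modEq, h.ord, Int.modEq_iff_dvd, dvd_sub_comm]
theorem card_Z : Nat.card (zpowers z) = p := by rw [Nat.card_zpowers, h.ord]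
theorem Z_le : zpowers z ≤ Q := zpowers_le.2 h.z_mem
theorem not_dvd_two : ¬ (p : ℤ) ∣ 2 := fun e =>
  h.odd ((Nat.prime_dvd_prime_iff_eq hp.out Nat.prime_two).1 (by exact_mod_cast e))
theorem exists_card (hX : X ≤ S) : ∃ k, Nat.card X = p ^ k :=
  IsPGroup.iff_card.1 (h.pgrp.to_le hX)
theorem card_lt (hY : Y ≤ S) (e : X < Y) : p * Nat.card X ≤ Nat.card Y := by
  obtain ⟨a, ha⟩ := h.exists_card (e.le.trans hY)
  obtain ⟨b, hb⟩ := h.exists_card hY
  have : Nat.card X < Nat.card Y := lt_of_not_ge fun k => e.ne (eq_of_le_of_card_ge e.le k)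
  rw [ha, hb] at this ⊢
  rw [← pow_succ']
  exact Nat.pow_le_pow_right hp.out.pos ((Nat.pow_lt_pow_iff_right hp.out.one_lt).1 this)
theorem exists_norm (hY : Y ≤ S) (e : X < Y) : ∃ x ∈ Y, x ∉ X ∧ Cj x X X := by
  have hn := (h.pgrp.to_le hY).isNilpotent
  have hlt : X.subgroupOf Y < ⊤ := lt_top_iff_ne_top.2 fun k => e.not_ge (subgroupOf_eq_top.1 k)
  obtain ⟨x, hx, hx'⟩ := SetLike.exists_of_lt (Group.normalizerCondition_of_isNilpotent _ hlt)
  exact ⟨x, x.2, hx', fun y hy => (mem_normalizer_iff.1 hx ⟨y, e.le hy⟩).1 hy⟩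
theorem bas1_eq_of_lt (hY : Y ≤ S) (c : Nat.card Y ≤ p * Nat.card X) (e : X < P) (hP : P ≤ Y) :
    P = Y := eq_of_le_of_card_ge hP (c.trans (h.card_lt (hP.trans hY) e))
/-- a subgroup of index at most `p` together with one more element generates -/
theorem gen_of (hY : Y ≤ S) (e : X ≤ Y) (c : Nat.card Y ≤ p * Nat.card X) (hy : y ∈ Y) (hy' : y ∉ X) :
    ∀ x ∈ Y, ∃ u ∈ X, ∃ i : ℕ, x = u * y ^ i := by
  obtain ⟨w, hw, hw', n⟩ := h.exists_norm hY (lt_of_le_of_ne e fun k => hy' (k ▸ hy))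
  have h1 := h.bas1_eq_of_lt hY c (P := nS Y X)
    (lt_of_le_of_ne (le_nS e) fun k => hw' (k ▸ mem_nS.2 ⟨hw, n⟩)) nS_le
  have h2 := h.bas1_eq_of_lt hY c (P := X ⊔ zpowers y)
    (lt_of_le_of_ne le_sup_left fun k => hy' (k ▸ mem_sup_right (mem_zpowers y)))
    (sup_le e (zpowers_le.2 hy))
  intro x hx
  have : x ∈ ((X ⊔ zpowers y : Subgroup Γ) : Set Γ) := h2.ge hx
  rw [coe_mul_of_right_le_normalizer_left _ _ (zpowers_le.2 (h1.ge hy).2)] at this
  obtain ⟨a, ha, _, hb, rfl⟩ := this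
  obtain ⟨k, rfl⟩ := mem_powers_iff_mem_zpowers.2 hb
  exact ⟨a, ha, k, rfl⟩
theorem card_inf (hX : X ≤ P) (hY : Y ≤ P) (hP : P ≤ S) (c : Nat.card P ≤ p * Nat.card Y) :
    Nat.card X ≤ p * Nat.card (X ⊓ Y : Subgroup Γ) := by
  have h1 := card_rel P Y
  rw [inf_eq_right.2 hY] at h1
  rw [← h1] at c
  rw [← card_rel X Y]
  exact Nat.mul_le_mul_right _ ((relIndex_le_of_le_right hX (index_ne_zero_of_finite)).trans
    (Nat.le_of_mul_le_mul_right c Nat.card_pos))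
theorem gen (hs : s ∈ S) (hs' : s ∉ Q) (hx : x ∈ S) : ∃ i : ℕ, ∃ q ∈ Q, x = s ^ i * q := by
  obtain ⟨u, hu, i, rfl⟩ := h.gen_of le_rfl h.le h.idx.le hs hs' x hx
  exact ⟨i, _, h.norm _ (inv_mem (Subgroup.pow_mem S hs i)) u hu, by group⟩
theorem comm_mem (hx : x ∈ S) (hy : y ∈ S) : x * y * x⁻¹ * y⁻¹ ∈ Q := by
  by_cases e : x ∈ Q
  · simpa only [mul_assoc] using mul_mem e (h.norm y hy _ (inv_mem e))
  · obtain ⟨i, q, hq, rfl⟩ := h.gen hx e hy
    have := h.norm _ (Subgroup.pow_mem S hx i) _ (mul_mem (h.norm x hx q hq) (inv_mem hq))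
    convert this using 1
    group
theorem pow_mem (hx : x ∈ S) : x ^ p ∈ Q := by
  haveI : (Q.subgroupOf S).Normal := ⟨fun n hn g => h.norm g g.2 n hn⟩
  have h1 := (Q.subgroupOf S).index_mul_card
  rw [card_of h.le, h.idx] at h1
  have := (Q.subgroupOf S).pow_index_mem ⟨x, hx⟩
  rwa [Nat.eq_of_mul_eq_mul_right Nat.card_pos h1] at this
theorem zpow_mem_iff (hs : s ∈ S) (hs' : s ∉ Q) {i : ℤ} : s ^ i ∈ Q ↔ (p : ℤ) ∣ i := by
  have k : ∀ c : ℤ, s ^ (p * c) ∈ Q := fun c => by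
    rw [zpow_mul, zpow_natCast]; exact zpow_mem (h.pow_mem hs) c
  refine ⟨fun e => by_contra fun hi => hs' ?_, fun ⟨c, e⟩ => e ▸ k c⟩
  obtain ⟨j, c, hc⟩ := inv_mod hi
  have := mul_mem (zpow_mem e j) (inv_mem (k c))
  rwa [← zpow_mul, ← zpow_sub, ← hc, sub_sub_cancel, zpow_one] at this
theorem card_eq (hP : P ≤ S) (hs : s ∈ P) (hs' : s ∉ Q) :
    Nat.card P = p * Nat.card (P ⊓ Q : Subgroup Γ) :=
  le_antisymm (h.card_inf hP h.le le_rfl h.idx.le)
    (h.card_lt hP (lt_of_le_of_ne inf_le_left fun e => hs' (e.ge hs).2))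
theorem bas1_zc (hx : x ∈ S) (k : ℤ) : z ^ k * x = x * z ^ k :=
  (Commute.zpow_right (h.zc x hx) k).symm
theorem bas1_Zc (hx : x ∈ S) (hy : y ∈ zpowers z) : y * x = x * y := by
  obtain ⟨k, rfl⟩ := hy
  exact h.bas1_zc hx k
theorem conj_eq (hu : u ∈ Q) (hv : v ∈ Q) : ∃ k : ℤ, u * v * u⁻¹ = v * z ^ k := by
  obtain ⟨k, e⟩ := h.comm u hu v hv
  exact ⟨k, by rw [← h.bas1_zc (h.le hv), show z ^ k = _ from e, inv_mul_cancel_right]⟩
theorem normY (hz : z ∈ Y) (hY : Y ≤ Q) (hu : u ∈ Q) : Cj u Y Y := fun v hv => by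
  obtain ⟨k, e⟩ := h.conj_eq hu (hY hv)
  exact e ▸ mul_mem hv (zpow_mem hz k)
/-- the commutator map with a fixed element -/
theorem bas1_hom (hX : X ≤ Q) (hu : u ∈ Q) (hn : ∃ x ∈ X, x * u ≠ u * x) :
    p * Nat.card (cS X u) = Nat.card X ∧ ∀ k : ℤ, ∃ v ∈ X, v * u * v⁻¹ * u⁻¹ = z ^ k := by
  let f : X →* Γ := MonoidHom.mk' (fun v => v * u * (v : Γ)⁻¹ * u⁻¹) fun v w => by
    have := h.bas1_Zc (h.le (mul_mem (mul_mem hu (inv_mem (hX v.2))) (inv_mem hu)))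
      (h.comm w (hX w.2) u hu)
    calc _ = v * (w * u * (w : Γ)⁻¹ * u⁻¹ * (u * (v : Γ)⁻¹ * u⁻¹)) := by simp [mul_assoc]
      _ = _ := by rw [this]; simp [mul_assoc]
  have h1 : f.range ≤ zpowers z := by rintro _ ⟨v, rfl⟩; exact h.comm v (hX v.2) u hu
  have h2 : f.range = zpowers z := by
    refine eq_of_le_of_card_ge h1 ?_
    have := h.card_lt (h1.trans (h.Z_le.trans h.le)) (X := ⊥) (bot_lt_iff_ne_bot.2 fun e => by
      obtain ⟨x, hx, k⟩ := hn
      have : f ⟨x, hx⟩ ∈ (⊥ : Subgroup Γ) := e ▸ ⟨_, rfl⟩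
      exact k (mul_inv_eq_iff_eq_mul.1 (mul_inv_eq_one.1 (mem_bot.1 this))))
    rwa [card_bot, mul_one, ← h.card_Z] at this
  refine ⟨?_, fun k => ?_⟩
  · rw [card_ker f (cS_le X u) fun a => ⟨fun e => ⟨a.2, mul_inv_eq_iff_eq_mul.1 (mul_inv_eq_one.1 e)⟩,
      fun e => mul_inv_eq_one.2 (mul_inv_eq_iff_eq_mul.2 e.2)⟩, h2, h.card_Z]
  · obtain ⟨v, e⟩ := h2.ge (zpow_mem (mem_zpowers z) k)
    exact ⟨v, v.2, e⟩
theorem bas1_nc (hu : u ∈ Q) (hu' : u ∉ zpowers z) : ∃ x ∈ Q, x * u ≠ u * x := by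
  by_contra e
  push Not at e
  exact hu' (h.cen u hu fun v hv => (e v hv).symm)
theorem card_cS (hu : u ∈ Q) (hu' : u ∉ zpowers z) : p * Nat.card (cS Q u) = Nat.card Q :=
  (h.bas1_hom le_rfl hu (h.bas1_nc hu hu')).1
/-- conjugation by `Q` moves a noncentral `u` onto every `u * z ^ k` -/
theorem exists_conj (hu : u ∈ Q) (hu' : u ∉ zpowers z) (k : ℤ) :
    ∃ v ∈ Q, v * u * v⁻¹ = u * z ^ k := by
  obtain ⟨v, hv, e⟩ := (h.bas1_hom le_rfl hu (h.bas1_nc hu hu')).2 k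
  exact ⟨v, hv, by rw [← h.bas1_zc (h.le hu), ← e, inv_mul_cancel_right]⟩
open Classical in
theorem bas1_sum [Fintype Γ] (hX : X ≤ Q) (hY : Y ≤ Q) :
    p * ∑ y ∈ Finset.univ.filter (· ∈ Y), Nat.card (cS X y) =
      Nat.card Y * Nat.card X + (p - 1) * (Nat.card X * Nat.card (cQ Y X)) := by
  have k : ∀ y ∈ Finset.univ.filter (· ∈ Y), p * Nat.card (cS X y) =
      Nat.card X + if y ∈ centralizer (X : Set Γ) then (p - 1) * Nat.card X else 0 := fun y hy => by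
    split_ifs with e
    · rw [show cS X y = X from le_antisymm (cS_le X y) fun x hx => ⟨hx, e x hx⟩]
      obtain ⟨q, rfl⟩ := Nat.exists_eq_succ_of_ne_zero hp.out.ne_zero
      rw [Nat.succ_sub_one, Nat.succ_mul, add_comm]
    · refine (h.bas1_hom hX (hY (Finset.mem_filter.1 hy).2) ?_).1
      by_contra k
      push Not at k
      exact e k
  rw [Finset.mul_sum, Finset.sum_congr rfl k, Finset.sum_add_distrib, Finset.sum_const, card_filter,
    ← Finset.sum_filter, Finset.sum_const, Finset.filter_filter, smul_eq_mul, smul_eq_mul,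
    ← card_filter (cQ Y X), mul_comm (Nat.card X) (Finset.card _), mul_left_comm]
  congr 4
  exact Finset.filter_congr fun _ _ => Iff.rfl
theorem bas1_dual (hX : X ≤ Q) (hY : Y ≤ Q) :
    Nat.card X * Nat.card (cQ Y X) = Nat.card Y * Nat.card (cQ X Y) := by
  classical
  haveI := Fintype.ofFinite Γ
  have h1 := h.bas1_sum hX hY
  have h2 := h.bas1_sum hY hX
  simp only [card_cS_sum] at h1 h2
  rw [Finset.sum_comm, Finset.sum_congr rfl fun a _ => Finset.sum_congr rfl fun b _ =>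
    if_congr eq_comm rfl rfl, h2, mul_comm, Nat.add_left_cancel_iff] at h1
  exact (Nat.eq_of_mul_eq_mul_left (Nat.sub_pos_of_lt hp.out.one_lt) h1).symm
theorem card_cQ (hz : z ∈ X) (hX : X ≤ Q) :
    Nat.card X * Nat.card (cQ Q X) = p * Nat.card Q := by
  rw [h.bas1_dual hX le_rfl, mul_comm, ← h.card_Z]
  congr 2
  exact congrArg _ (le_antisymm (fun x hx => h.cen x (hX hx.1) fun v hv => (hx.2 v hv).symm)
    (zpowers_le.2 ⟨hz, fun v hv => h.zc v (h.le hv)⟩))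
theorem cQ_cQ (hz : z ∈ X) (hX : X ≤ Q) : cQ Q (cQ Q X) = X := by
  refine (eq_of_le_of_card_ge (fun x hx => mem_cQ.2 ⟨hX hx, fun v hv => (hv.2 x hx).symm⟩) ?_).symm
  have h1 := h.card_cQ (X := cQ Q X) ⟨h.z_mem, fun v hv => h.zc v (h.le (hX hv))⟩ inf_le_left
  rw [← h.card_cQ hz hX, mul_comm] at h1
  exact (Nat.eq_of_mul_eq_mul_right Nat.card_pos h1).le
theorem ab_le (hX : X ≤ Q) (c : ∀ a ∈ X, ∀ b ∈ X, a * b = b * a) :
    Nat.card X ^ 2 ≤ p * Nat.card Q := by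
  have h1 : X ≤ cQ Q X := fun x hx => ⟨hX hx, fun v hv => c v hv x hx⟩
  have h2 : cQ X Q ≤ zpowers z := fun x hx => h.cen x (hX hx.1) fun v hv => (hx.2 v hv).symm
  calc _ ≤ Nat.card X * Nat.card (cQ Q X) := by
        rw [sq]; exact Nat.mul_le_mul_left _ (card_le_of_le h1)
    _ ≤ _ := by
        rw [h.bas1_dual hX le_rfl, mul_comm, ← h.card_Z]
        exact Nat.mul_le_mul_right _ (card_le_of_le h2)
theorem mul_pow (hu : u ∈ Q) (hv : v ∈ Q) : (u * v) ^ p = u ^ p * v ^ p := by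
  obtain ⟨k, e⟩ := h.conj_eq hv hu
  obtain ⟨c, hc⟩ := hp.out.dvd_choose_self two_ne_zero (lt_of_le_of_ne hp.out.two_le h.odd.symm)
  rw [mul_pow_cen (c := z ^ k) (by rw [mul_assoc, ← h.bas1_zc (h.le hv), ← mul_assoc, ← e]; simp)
    (h.bas1_zc (h.le hu) k) (h.bas1_zc (h.le hv) k), hc, pow_mul, ← zpow_natCast (z ^ k), ← zpow_mul,
    mul_comm k, zpow_mul, zpow_natCast, h.zp, one_zpow, one_pow, mul_one]
theorem conj_pow (hs : s ∈ S) (hu : u ∈ Q) : (s * u * s⁻¹) ^ p = u ^ p := by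
  rw [_root_.conj_pow, ← h.bas1_Zc hs (h.pow u hu), mul_inv_cancel_right]

end XS

end H93.XP
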