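import Cfsg.Agent.Lib.XP.Bas1

/-! The commutator map `dl s` on an extraspecial subgroup of index `p`. -/

set_option autoImplicit false
set_option linter.unusedSectionVars false

namespace H93.XP

open Subgroup H93.QW

variable {Γ : Type*} [Group Γ] [Finite Γ] {p : ℕ} [hp : Fact p.Prime] {S Q E : Subgroup Γ} {z g : Γ}

namespace Bas2

omit [Finite Γ] hp

theorem dl_one (s : Γ) : dl s 1 = 1 := by unfold dl; group
theorem dl_left (a b v : Γ) : dl (a * b) v = b⁻¹ * dl a v * b * dl b v := by unfold dl; group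

theorem mem_cl {T : Set Γ} (h1 : (1 : Γ) ∈ T) (h2 : ∀ a ∈ T, ∀ b ∈ T, a * b ∈ T)
    (h3 : ∀ a ∈ T, a⁻¹ ∈ T) {x : Γ} : x ∈ closure T ↔ x ∈ T :=
  ⟨fun hx => closure_induction (fun _ h => h) h1 (fun a b _ _ ha hb => h2 a ha b hb)
    (fun a _ ha => h3 a ha) hx, fun hx => subset_closure hx⟩

end Bas2

open Bas1 Bas2

namespace XS

variable (h : XS p S Q z) {P X Y : Subgroup Γ} {s u v x y : Γ}
include h

theorem bas2_cj (hs : s ∈ S) (hv : v ∈ Q) : s⁻¹ * v * s ∈ Q := by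
  simpa using h.norm _ (inv_mem hs) v hv
theorem dl_mem (hs : s ∈ S) (hv : v ∈ Q) : dl s v ∈ Q := mul_mem (h.bas2_cj hs hv) (inv_mem hv)
theorem dl_pow (hs : s ∈ S) (hv : v ∈ Q) : dl s v ^ p = 1 := by
  have := h.conj_pow (inv_mem hs) hv
  rw [inv_inv] at this
  rw [dl, h.mul_pow (h.bas2_cj hs hv) (inv_mem hv), this, inv_pow, mul_inv_cancel]
theorem dl_mul' (hs : s ∈ S) (hu : u ∈ Q) (hv : v ∈ Q) :
    ∃ k : ℤ, dl s (u * v) = dl s u * dl s v * z ^ k := by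
  obtain ⟨k, e⟩ := h.conj_eq hu (h.dl_mem hs hv)
  exact ⟨k, by rw [dl_mul, e, mul_assoc]⟩
theorem dl_zpow (hs : s ∈ S) (hu : u ∈ Q) (i : ℤ) :
    ∃ k : ℤ, dl s (u ^ i) = dl s u ^ i * z ^ k := by
  have hd := h.le (h.dl_mem hs hu)
  induction i using Int.induction_on with
  | zero => exact ⟨0, by simp [dl_one]⟩
  | succ i ih =>
    obtain ⟨k, e⟩ := ih
    obtain ⟨l, e'⟩ := h.dl_mul' hs (zpow_mem hu i) hu
    exact ⟨k + l, by
      rw [zpow_add_one, e', e, mul_assoc (dl s u ^ (i : ℤ)), h.bas1_zc hd, zpow_add_one, zpow_add]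
      simp only [mul_assoc]⟩
  | pred i ih =>
    obtain ⟨k, e⟩ := ih
    obtain ⟨l, e'⟩ := h.dl_mul' hs (zpow_mem hu (-i - 1)) hu
    rw [← zpow_add_one, sub_add_cancel, e] at e'
    refine ⟨k - l, ?_⟩
    rw [zpow_sub_one (dl s u), mul_assoc, ← h.bas1_zc (inv_mem hd), zpow_sub z, ← mul_assoc,
      ← mul_assoc, e']
    group
theorem dl_z (hs : s ∈ S) (u : Γ) (k : ℤ) : dl s (u * z ^ k) = dl s u := by
  rw [dl_mul, dl_eq_one.2 (h.bas1_zc hs k)]; group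
theorem dl_Q (hs : s ∈ S) (hu : u ∈ Q) (hv : v ∈ Q) :
    ∃ k : ℤ, dl (s * u) v = dl s v * z ^ k := by
  obtain ⟨k, e⟩ := h.conj_eq (inv_mem hu) (h.bas2_cj hs hv)
  refine ⟨k, ?_⟩
  rw [dl, dl, mul_assoc _ v⁻¹, ← h.bas1_zc (h.le (inv_mem hv)), ← mul_assoc _ (z ^ k), ← e]
  group
theorem bas2_inv (hs : s ∈ S) (hu : u ∈ Q) : ∃ k : ℤ, dl s u⁻¹ = (dl s u)⁻¹ * z ^ k := by
  simpa using h.dl_zpow hs hu (-1)
theorem mem_NV (hs : s ∈ S) (hz : z ∈ Y) (hY : Y ≤ Q) :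
    v ∈ NV Q Y s ↔ v ∈ Q ∧ dl s v ∈ Y :=
  mem_cl (T := {v | v ∈ Q ∧ dl s v ∈ Y}) ⟨one_mem _, by rw [dl_one]; exact one_mem _⟩
    (fun a ha b hb => ⟨mul_mem ha.1 hb.1, by
      obtain ⟨k, e⟩ := h.dl_mul' hs ha.1 hb.1
      exact e ▸ mul_mem (mul_mem ha.2 hb.2) (zpow_mem hz k)⟩)
    fun a ha => ⟨inv_mem ha.1, by
      obtain ⟨k, e⟩ := h.bas2_inv hs ha.1
      exact e ▸ mul_mem (inv_mem ha.2) (zpow_mem hz k)⟩
theorem mem_CV (hs : s ∈ S) : v ∈ CV Q z s ↔ v ∈ Q ∧ dl s v ∈ zpowers z :=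
  h.mem_NV hs (mem_zpowers z) h.Z_le
theorem mem_DV (hs : s ∈ S) : u ∈ DV Q z s ↔ ∃ v ∈ Q, ∃ k : ℤ, u = dl s v * z ^ k := by
  refine mem_cl (T := {d | ∃ v ∈ Q, ∃ k : ℤ, d = dl s v * z ^ k}) ⟨1, one_mem _, 0, by simp [dl_one]⟩ ?_ ?_
  · rintro _ ⟨a, ha, k, rfl⟩ _ ⟨b, hb, l, rfl⟩
    obtain ⟨m, e⟩ := h.dl_mul' hs ha hb
    refine ⟨_, mul_mem ha hb, -m + (k + l), ?_⟩
    rw [e, mul_assoc, ← mul_assoc (z ^ k), h.bas1_zc (h.le (h.dl_mem hs hb))]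
    group
  · rintro _ ⟨a, ha, k, rfl⟩
    obtain ⟨m, e⟩ := h.bas2_inv hs ha
    refine ⟨_, inv_mem ha, -m + -k, ?_⟩
    rw [e, mul_inv_rev, ← zpow_neg, h.bas1_zc (h.le (inv_mem (h.dl_mem hs ha)))]
    group
theorem NV_le (Y : Subgroup Γ) (s : Γ) : NV Q Y s ≤ Q := (closure_le _).2 fun _ hv => hv.1
theorem CV_le (s : Γ) : CV Q z s ≤ Q := h.NV_le _ s
theorem DV_le (hs : s ∈ S) : DV Q z s ≤ Q := (closure_le _).2 (by
  rintro _ ⟨a, ha, k, rfl⟩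
  exact mul_mem (h.dl_mem hs ha) (zpow_mem h.z_mem k))
theorem z_mem_CV (hs : s ∈ S) : z ∈ CV Q z s :=
  subset_closure ⟨h.z_mem, by rw [dl_eq_one.2 (h.zc s hs).symm]; exact one_mem _⟩
theorem z_mem_DV (s : Γ) : z ∈ DV Q z s := subset_closure ⟨1, one_mem _, 1, by simp [dl_one]⟩
theorem dl_mem_DV (hv : v ∈ Q) : dl s v ∈ DV Q z s := subset_closure ⟨v, hv, 0, by simp⟩
theorem cS_le_CV (s : Γ) : cS Q s ≤ CV Q z s := fun v hv =>
  subset_closure ⟨hv.1, by rw [dl_eq_one.2 hv.2]; exact one_mem _⟩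
theorem card_CV_le (hs : s ∈ S) : Nat.card (CV Q z s) ≤ p * Nat.card (cS Q s) := by
  let f : CV Q z s →* Γ := MonoidHom.mk' (fun v => dl s v) fun v w => by
    rw [coe_mul, dl_mul, ← h.bas1_Zc (h.le (h.CV_le s v.2)) ((h.mem_CV hs).1 w.2).2,
      mul_inv_cancel_right]
  have h1 : f.range ≤ zpowers z := by rintro _ ⟨v, rfl⟩; exact ((h.mem_CV hs).1 v.2).2
  rw [card_ker f (h.cS_le_CV s) fun a => ⟨fun e => ⟨h.CV_le s a.2, dl_eq_one.1 e⟩,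
    fun e => dl_eq_one.2 e.2⟩, ← h.card_Z]
  exact Nat.mul_le_mul_right _ (card_le_of_le h1)
theorem card_NV (hs : s ∈ S) (hz : z ∈ Y) (hY : Y ≤ Q) :
    p * Nat.card (NV Q Y s) = Nat.card (CV Q z s) * Nat.card (Y ⊓ DV Q z s : Subgroup Γ) := by
  haveI : ((zpowers z).subgroupOf S).Normal := ⟨fun n hn g => by
    rw [mem_subgroupOf] at hn ⊢
    rwa [coe_mul, coe_mul, ← h.bas1_Zc g.2 hn, coe_inv, mul_inv_cancel_right]⟩
  let π := QuotientGroup.mk' ((zpowers z).subgroupOf S)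
  have hπ : ∀ a : S, π a = 1 ↔ (a : Γ) ∈ zpowers z := fun a => QuotientGroup.eq_one_iff a
  have hπ' : ∀ (a b : S) (k : ℤ), (a : Γ) = b * z ^ k → π a = π b := fun a b k e => by
    rw [show a = b * ⟨z ^ k, h.le (zpow_mem h.z_mem k)⟩ from Subtype.ext e, map_mul,
      (hπ ⟨z ^ k, _⟩).2 ⟨k, rfl⟩, mul_one]
  let f : NV Q Y s →* _ := MonoidHom.mk'
    (fun v => π ⟨dl s v, h.le (h.dl_mem hs (h.NV_le Y s v.2))⟩) fun v w => by
      obtain ⟨k, e⟩ := h.dl_mul' hs (h.NV_le Y s v.2) (h.NV_le Y s w.2)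
      rw [← map_mul]
      exact hπ' _ _ k e
  let f2 : (Y ⊓ DV Q z s : Subgroup Γ) →* _ := π.comp (inclusion (inf_le_left.trans (hY.trans h.le)))
  have e : f.range = f2.range := by
    refine le_antisymm ?_ ?_
    · rintro _ ⟨v, rfl⟩
      exact ⟨⟨_, ((h.mem_NV hs hz hY).1 v.2).2, h.dl_mem_DV (h.NV_le Y s v.2)⟩, rfl⟩
    · rintro _ ⟨⟨d, d1, d2⟩, rfl⟩
      obtain ⟨v, hv, k, rfl⟩ := (h.mem_DV hs).1 d2
      exact ⟨⟨v, (h.mem_NV hs hz hY).2 ⟨hv, (mul_mem_cancel_right (zpow_mem hz k)).1 d1⟩⟩,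
        (hπ' _ _ k rfl).symm⟩
  rw [card_ker f (K := CV Q z s) (fun v hv => (h.mem_NV hs hz hY).2 ⟨((h.mem_CV hs).1 hv).1,
      zpowers_le.2 hz ((h.mem_CV hs).1 hv).2⟩)
      (fun a => (hπ _).trans ⟨fun k => (h.mem_CV hs).2 ⟨h.NV_le Y s a.2, k⟩,
        fun k => ((h.mem_CV hs).1 k).2⟩),
    card_ker f2 (K := zpowers z) (zpowers_le.2 ⟨hz, h.z_mem_DV s⟩) fun a => hπ _, e, h.card_Z]
  ring
theorem card_CV_DV (hs : s ∈ S) :
    Nat.card (CV Q z s) * Nat.card (DV Q z s) = p * Nat.card Q := by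
  have := h.card_NV hs h.z_mem le_rfl
  rwa [inf_eq_right.2 (h.DV_le hs), show NV Q Q s = Q from le_antisymm (h.NV_le Q s)
    fun v hv => subset_closure ⟨hv, h.dl_mem hs hv⟩, eq_comm] at this
theorem DV_eq (hs : s ∈ S) : DV Q z s = cQ Q (CV Q z s) := by
  refine eq_of_le_of_card_ge (fun d hd => mem_cQ.2 ⟨h.DV_le hs hd, fun c hc => ?_⟩) ?_
  · obtain ⟨v, hv, l, rfl⟩ := (h.mem_DV hs).1 hd
    obtain ⟨c1, c2⟩ := (h.mem_CV hs).1 hc
    obtain ⟨k, e⟩ := h.conj_eq c1 hv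
    have e1 : c * s * c⁻¹ = dl s c * s := by rw [conj_eq_dl, h.bas1_Zc hs c2]
    have e2 : c * dl s v * c⁻¹ = dl s v := by
      rw [conj_dl, e1, e, dl_left, dl_eq_one.2 (h.bas1_Zc (h.le (mul_mem hv (zpow_mem h.z_mem k)))
        c2).symm, h.dl_z hs]
      group
    rw [← mul_assoc, mul_inv_eq_iff_eq_mul.1 e2, mul_assoc, ← h.bas1_zc (h.le c1), mul_assoc]
  · have h1 := h.card_cQ (h.z_mem_CV hs) (h.CV_le s)
    rw [← h.card_CV_DV hs] at h1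
    exact (Nat.eq_of_mul_eq_mul_left Nat.card_pos h1).le
theorem CV_eq (hs : s ∈ S) : CV Q z s = cQ Q (DV Q z s) := by
  rw [h.DV_eq hs, h.cQ_cQ (h.z_mem_CV hs) (h.CV_le s)]
theorem bas2_le (hs : s ∈ S) (hs' : s ∉ Q) (hx : x ∈ S) : CV Q z s ≤ CV Q z x := fun v hv => by
  obtain ⟨v1, v2⟩ := (h.mem_CV hs).1 hv
  have k : ∀ a, ∀ b ∈ S, dl a v ∈ zpowers z → dl b v ∈ zpowers z → dl (a * b) v ∈ zpowers z :=
    fun a b hb h1 h2 => by
      rw [dl_left, mul_assoc b⁻¹, h.bas1_Zc hb h1, inv_mul_cancel_left]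
      exact mul_mem h1 h2
  obtain ⟨i, q, hq, rfl⟩ := h.gen hs hs' hx
  refine (h.mem_CV hx).2 ⟨v1, k _ q (h.le hq) ?_ (by simpa [dl] using h.comm _ (inv_mem hq) v v1)⟩
  induction i with
  | zero => simp [dl]
  | succ i ih => rw [pow_succ]; exact k _ s hs (ih (mul_mem (Subgroup.pow_mem S hs i) (h.le hq))) v2
theorem CV_indep (hs : s ∈ S) (hs' : s ∉ Q) (hx : x ∈ S) (hx' : x ∉ Q) :
    CV Q z x = CV Q z s := le_antisymm (h.bas2_le hx hx' hs) (h.bas2_le hs hs' hx)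
theorem DV_indep (hs : s ∈ S) (hs' : s ∉ Q) (hx : x ∈ S) (hx' : x ∉ Q) :
    DV Q z x = DV Q z s := by rw [h.DV_eq hs, h.DV_eq hx, h.CV_indep hs hs' hx hx']
theorem bas2_cjs (hs : s ∈ S) (hx : x ∈ S) (hv : v ∈ Q) :
    ∃ k : ℤ, x * dl s v * x⁻¹ = dl s (x * v * x⁻¹) * z ^ k := by
  have := h.comm_mem (inv_mem hs) hx
  obtain ⟨k, e⟩ := h.dl_Q hs this (h.norm x hx v hv)
  exact ⟨k, by rw [conj_dl, ← e]; congr 1; group⟩
theorem cj_CV (hs : s ∈ S) (hx : x ∈ S) : Cj x (CV Q z s) (CV Q z s) := fun v hv => by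
  obtain ⟨v1, v2⟩ := (h.mem_CV hs).1 hv
  obtain ⟨k, e⟩ := h.bas2_cjs hs hx v1
  rw [← h.bas1_Zc hx v2, mul_inv_cancel_right] at e
  exact (h.mem_CV hs).2 ⟨h.norm x hx v v1,
    (mul_mem_cancel_right (zpow_mem (mem_zpowers z) k)).1 (e ▸ v2)⟩
theorem cj_DV (hs : s ∈ S) (hx : x ∈ S) : Cj x (DV Q z s) (DV Q z s) := fun d hd => by
  obtain ⟨v, hv, l, rfl⟩ := (h.mem_DV hs).1 hd
  obtain ⟨k, e⟩ := h.bas2_cjs hs hx hv
  rw [← conj_mul, e, ← h.bas1_zc hx, mul_inv_cancel_right]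
  exact mul_mem (mul_mem (h.dl_mem_DV (h.norm x hx v hv)) (zpow_mem (h.z_mem_DV s) k))
    (zpow_mem (h.z_mem_DV s) l)
theorem comm_mem_DV (hs : s ∈ S) (hs' : s ∉ Q) (hx : x ∈ S) (hy : y ∈ S) :
    x * y * x⁻¹ * y⁻¹ ∈ DV Q z s := by
  have k : ∀ x ∈ S, ∀ y ∈ S, x ∉ Q → x * y * x⁻¹ * y⁻¹ ∈ DV Q z s := fun x hx y hy e => by
    obtain ⟨i, q, hq, rfl⟩ := h.gen hx e hy
    have := h.cj_DV hs (Subgroup.pow_mem S hx i) _
      (h.DV_indep hs hs' (inv_mem hx) (mt inv_mem_iff.1 e) ▸ h.dl_mem_DV (s := x⁻¹) hq)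
    convert this using 1
    unfold dl; group
  by_cases e : x ∈ Q
  · by_cases e' : y ∈ Q
    · exact zpowers_le.2 (h.z_mem_DV s) (h.comm x e y e')
    · simpa [mul_assoc] using inv_mem (k y hy x hx e')
  · exact k x hx y hy e
/-- `s` fixes a coset -/
theorem fix (hs : s ∈ S) (hz : z ∈ X) (e : X < Y) (hY : Y ≤ Q) (n1 : Cj s X X) (n2 : Cj s Y Y) :
    ∃ v ∈ Y, v ∉ X ∧ dl s v ∈ X := by
  by_contra hn
  push Not at hn
  obtain ⟨n, h1⟩ := h.pgrp.isNilpotent.nilpotent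
  have key : ∀ n, ∀ w ∈ Subgroup.upperCentralSeries S n, (w : Γ) ∈ Y → (w : Γ) ∈ X := fun n => by
    induction n with
    | zero => intro w hw _; rw [mem_bot.1 hw]; exact one_mem _
    | succ n ih =>
      intro w hw hy
      by_contra k
      refine hn w hy k ?_
      have := ih _ (inv_mem (Subgroup.mem_upperCentralSeries_succ_iff.1 hw ⟨s, hs⟩⁻¹)) (by
        simpa [mul_assoc, commutatorElement_def] using mul_mem (n2.inv _ hy) (inv_mem hy))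
      simpa [dl, mul_assoc, commutatorElement_def] using this
  exact e.not_ge fun w hw => key n ⟨w, h.le (hY hw)⟩ (h1 ▸ mem_top _) hw
theorem Z_lt_CV (hs : s ∈ S) : zpowers z < CV Q z s := by
  have h1 : zpowers z < Q := lt_of_le_of_ne h.Z_le fun e => by
    have := h.big
    rw [← e, h.card_Z] at this
    exact absurd (Nat.pow_lt_pow_right hp.out.one_lt (by decide : 1 < 5)) (by simpa using this)
  obtain ⟨v, v1, v2, v3⟩ := h.fix hs (mem_zpowers z) h1 le_rfl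
    (fun u hu => by rwa [← h.bas1_Zc hs hu, mul_inv_cancel_right]) (h.norm s hs)
  exact lt_of_le_of_ne (zpowers_le.2 (h.z_mem_CV hs)) fun e => v2 (e ▸ (h.mem_CV hs).2 ⟨v1, v3⟩)
theorem eq_of_sup (hs : s ∈ S) (hz : z ∈ Y) (hY : Y ≤ Q) (n : Cj s Y Y) (e : Q ≤ Y ⊔ DV Q z s) :
    Y = Q := by
  have h1 : zpowers z ≤ cQ Q Y := zpowers_le.2 ⟨h.z_mem, fun v hv => h.zc v (h.le (hY hv))⟩
  have h2 : zpowers z = cQ Q Y := by
    by_contra k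
    obtain ⟨v, v1, v2, v3⟩ := h.fix hs (mem_zpowers z) (lt_of_le_of_ne h1 k) inf_le_left
      (fun u hu => by rwa [← h.bas1_Zc hs hu, mul_inv_cancel_right])
      fun u hu => mem_cQ.2 ⟨h.norm s hs u hu.1, fun w hw => by
        have := hu.2 _ (n.inv w hw)
        calc _ = s * (s⁻¹ * w * s⁻¹⁻¹ * u) * s⁻¹ := by group
          _ = _ := by rw [this]; group⟩
    have v4 := (h.CV_eq hs).le ((h.mem_CV hs).2 ⟨v1.1, v3⟩)
    have v5 : Y ⊔ DV Q z s ≤ cS ⊤ v :=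
      sup_le (fun w hw => mem_cS_top.2 (v1.2 w hw)) fun w hw => mem_cS_top.2 (v4.2 w hw)
    exact v2 (h.cen v v1.1 fun w hw => (mem_cS_top.1 (v5 (e hw))).symm)
  have h3 := h.card_cQ hz hY
  rw [← h2, h.card_Z, mul_comm] at h3
  exact eq_of_le_of_card_ge hY (Nat.eq_of_mul_eq_mul_left hp.out.pos h3).ge
/-- `Q` is characteristic unless `s` is a transvection -/
theorem char (hs : s ∈ S) (hs' : s ∉ Q) (c : p ^ 2 * Nat.card (CV Q z s) ≤ Nat.card Q) {k : Γ}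
    (h1 : Cj k S S) (h2 : k * z * k⁻¹ ∈ zpowers z) : Cj k Q Q := fun u hu => by
  by_contra e
  have h3 := h.card_inf (P := S) (X := Q) (Y := Q.map (MulAut.conj k).toMonoidHom) h.le
    (by rintro _ ⟨w, hw, rfl⟩; exact h1 w (h.le hw)) le_rfl
    (by rw [card_map_of_injective (MulAut.conj k).injective]; exact h.idx.le)
  have h4 : Q ⊓ Q.map (MulAut.conj k).toMonoidHom ≤ CV Q z s := by
    rw [← h.CV_indep hs hs' (h1 u (h.le hu)) e]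
    rintro _ ⟨v1, w, hw, rfl⟩
    refine (h.mem_CV (h1 u (h.le hu))).2 ⟨v1, ?_⟩
    obtain ⟨i, hi⟩ := h.comm _ (inv_mem hu) w hw
    have : dl (k * u * k⁻¹) (k * w * k⁻¹) = (k * z * k⁻¹) ^ i := by
      rw [← conj_dl, conj_zpow, show z ^ i = _ from hi, inv_inv, dl]
    exact this ▸ zpow_mem h2 i
  have h5 := c.trans (h3.trans (Nat.mul_le_mul_left p (card_le_of_le h4)))
  have h6 := Nat.le_of_mul_le_mul_right h5 Nat.card_pos
  exact absurd (Nat.pow_lt_pow_right hp.out.one_lt (by decide : 1 < 2)) (by simpa using h6)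

end XS

end H93.XP
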