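import Cfsg.Agent.Lib.XP.Bas2

/-! Case I: the structure of `E = C_S(y)` when `y = g z g⁻¹` lies in `Q`. -/

set_option autoImplicit false

namespace H93.XP

open Subgroup H93.QW

variable {Γ : Type*} [Group Γ] [Finite Γ] {p : ℕ} [hp : Fact p.Prime] {S Q E : Subgroup Γ} {z g : Γ}

namespace C1a

/-- the subgroup generated by two commuting elements -/
def W {z y : Γ} (c : Commute z y) : Subgroup Γ where
  carrier := {x | ∃ i j : ℤ, x = z ^ i * y ^ j}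
  one_mem' := ⟨0, 0, by simp⟩
  mul_mem' := by
    rintro _ _ ⟨i, j, rfl⟩ ⟨k, l, rfl⟩
    exact ⟨i + k, j + l, by rw [zpow_add, zpow_add, (c.zpow_zpow k j).symm.mul_mul_mul_comm]⟩
  inv_mem' := by
    rintro _ ⟨i, j, rfl⟩
    exact ⟨-i, -j, by rw [mul_inv_rev, (c.zpow_zpow (-i) (-j)).eq, zpow_neg, zpow_neg]⟩

/-- the conjugate of `E ⊓ Q` -/
def E1 (E Q : Subgroup Γ) (g : Γ) : Subgroup Γ := E ⊓ Q.comap (MulAut.conj g⁻¹).toMonoidHom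

omit [Finite Γ] in
theorem mem_E1 {x : Γ} : x ∈ E1 E Q g ↔ x ∈ E ∧ g⁻¹ * x * g ∈ Q := by simp [E1]

omit [Finite Γ] in
theorem XX_eq : XX E Q g = E ⊓ Q ⊓ E1 E Q g := by
  ext x
  rw [mem_XX, mem_inf, mem_inf, mem_E1]
  tauto

end C1a

open C1a

namespace One

variable (h : One p S Q E z g) {a c s x : Γ}
include h

theorem memE : x ∈ E ↔ x ∈ S ∧ x * (g * z * g⁻¹) = g * z * g⁻¹ * x := by
  rw [← mem_cS, h.E_eq]

theorem inf_eq : E ⊓ Q = cS Q (g * z * g⁻¹) := by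
  ext x
  rw [mem_inf, h.memE, mem_cS]
  exact ⟨fun a => ⟨a.2, a.1.2⟩, fun a => ⟨⟨h.le a.1, a.2⟩, a.1⟩⟩

theorem zy : Commute z (g * z * g⁻¹) := (h.zc _ (h.le h.inn)).symm

theorem yp : (g * z * g⁻¹) ^ p = 1 := by rw [conj_pow, h.zp]; group

theorem y_dvd {i : ℤ} (m : (g * z * g⁻¹) ^ i ∈ zpowers z) : (p : ℤ) ∣ i := by
  by_contra hi
  obtain ⟨j, hj⟩ := root h.yp hi
  exact h.mv (hj ▸ zpow_mem m j)

theorem one_of (h1 : x ∈ zpowers z) (h2 : g⁻¹ * x * g ∈ zpowers z) : x = 1 := by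
  obtain ⟨i, hi⟩ := mem_zpowers_iff.1 h2
  have e : x = (g * z * g⁻¹) ^ i := by rw [conj_zpow, hi]; group
  rw [e, zpow_congr h.yp (j := 0) (by simpa using h.y_dvd (e ▸ h1)), zpow_zero]

theorem card0' : p * Nat.card (E ⊓ Q : Subgroup Γ) = Nat.card Q :=
  h.inf_eq ▸ h.card_cS h.inn h.mv

theorem cjE (hx : x ∈ E) : g⁻¹ * x * g ∈ E := by simpa using h.nm.inv x hx

theorem nab : ∃ a ∈ E1 E Q g, ∃ b ∈ E1 E Q g, ∃ i : ℤ, ¬ (p : ℤ) ∣ i ∧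
    a * b * a⁻¹ * b⁻¹ = (g * z * g⁻¹) ^ i := by
  have : ¬ ∀ a ∈ E ⊓ Q, ∀ b ∈ E ⊓ Q, a * b = b * a := fun c => by
    have h1 := h.ab_le inf_le_right c
    have h2 := h.big
    have h3 := hp.out.two_le
    rw [← h.card0'] at h1 h2
    have h4 : Nat.card (E ⊓ Q : Subgroup Γ) ≤ p * p :=
      Nat.le_of_mul_le_mul_right (by nlinarith) (Nat.card_pos (α := (E ⊓ Q : Subgroup Γ)))
    have h5 : p ^ 5 ≤ p ^ 3 := h2.trans ((Nat.mul_le_mul_left p h4).trans (by ring_nf; rfl))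
    exact absurd ((Nat.pow_le_pow_iff_right hp.out.one_lt).1 h5) (by decide)
  push Not at this
  obtain ⟨a, ha, b, hb, n⟩ := this
  obtain ⟨i, hi⟩ := mem_zpowers_iff.1 (h.comm a ha.2 b hb.2)
  refine ⟨g * a * g⁻¹, mem_E1.2 ⟨h.nm a ha.1, by simpa [mul_assoc] using ha.2⟩, g * b * g⁻¹,
    mem_E1.2 ⟨h.nm b hb.1, by simpa [mul_assoc] using hb.2⟩, i, fun d => n ?_, by
      rw [conj_zpow, hi]; group⟩
  rw [h.zinj.2 (by simpa using d : (p : ℤ) ∣ i - 0), zpow_zero] at hi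
  exact commutatorElement_eq_one_iff_mul_comm.1 hi.symm

theorem N : ¬ ∀ a ∈ E, ∀ b ∈ E, a * b * a⁻¹ * b⁻¹ ∈ zpowers z := fun c => by
  obtain ⟨a, ha, b, hb, i, hi, e⟩ := h.nab
  exact hi (h.y_dvd (e ▸ c a ha.1 b hb.1))

theorem not_le : ¬ E ≤ Q := fun l => h.N fun a ha b hb => h.comm a (l ha) b (l hb)

theorem cardE' : Nat.card E = p * Nat.card (E ⊓ Q : Subgroup Γ) := by
  obtain ⟨s, hs, hs'⟩ := SetLike.not_le_iff_exists.1 h.not_le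
  exact h.card_eq h.E_le hs hs'

theorem card1' : Nat.card (E1 E Q g) = Nat.card (E ⊓ Q : Subgroup Γ) :=
  le_antisymm (Cj.card_le (g := g⁻¹) fun u hu => by
    simpa using ⟨h.cjE hu.1, (mem_E1.1 hu).2⟩) (Cj.card_le (g := g) fun u hu =>
      mem_E1.2 ⟨h.nm u hu.1, by simpa [mul_assoc] using hu.2⟩)

theorem comm1 {a b : Γ} (ha : a ∈ E1 E Q g) (hb : b ∈ E1 E Q g) :
    g⁻¹ * (a * b * a⁻¹ * b⁻¹) * g ∈ zpowers z := by
  convert h.comm _ (mem_E1.1 ha).2 _ (mem_E1.1 hb).2 using 1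
  group

theorem X_comm : ∀ a ∈ XX E Q g, ∀ b ∈ XX E Q g, a * b = b * a := fun a ha b hb => by
  rw [XX_eq] at ha hb
  exact commutatorElement_eq_one_iff_mul_comm.1
    (h.one_of (h.comm a ha.1.2 b hb.1.2) (h.comm1 ha.2 hb.2))

theorem cardX' : Nat.card (E ⊓ Q : Subgroup Γ) ≤ p * Nat.card (XX E Q g) := by
  rw [XX_eq]
  exact h.card_inf inf_le_left inf_le_left h.E_le (by rw [h.card1', h.cardE'])

theorem card : Nat.card Q = p ^ 5 := by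
  refine le_antisymm (Nat.le_of_mul_le_mul_right ?_ (Nat.card_pos (α := Q))) h.big
  have h1 := h.ab_le (X := XX E Q g) (inf_le_left.trans inf_le_right) h.X_comm
  have h2 : Nat.card Q ≤ p * (p * Nat.card (XX E Q g)) :=
    h.card0'.ge.trans (Nat.mul_le_mul_left p h.cardX')
  calc _ ≤ p * (p * Nat.card (XX E Q g)) * (p * (p * Nat.card (XX E Q g))) := Nat.mul_le_mul h2 h2
    _ = p ^ 4 * Nat.card (XX E Q g) ^ 2 := by ring
    _ ≤ p ^ 4 * (p * Nat.card Q) := Nat.mul_le_mul_left _ h1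
    _ = _ := by ring

theorem card0 : Nat.card (E ⊓ Q : Subgroup Γ) = p ^ 4 :=
  Nat.eq_of_mul_eq_mul_left hp.out.pos (by rw [h.card0', h.card]; ring)

theorem cardE : Nat.card E = p ^ 5 := by rw [h.cardE', h.card0]; ring

theorem cardX : Nat.card (XX E Q g) ≤ p ^ 3 := by
  have h1 := h.ab_le (X := XX E Q g) (inf_le_left.trans inf_le_right) h.X_comm
  rw [h.card, show p * p ^ 5 = (p ^ 3) ^ 2 by ring] at h1
  exact (Nat.pow_le_pow_iff_left two_ne_zero).1 h1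

theorem exists_a : ∃ a ∈ Q, a ∉ E := SetLike.not_le_iff_exists.1 fun l => by
  have := h.card0
  rw [inf_eq_right.2 l, h.card] at this
  exact absurd (Nat.pow_right_injective hp.out.two_le this) (by decide)

theorem genS (ha : a ∈ S) (ha' : a ∉ E) : ∀ x ∈ S, ∃ u ∈ E, ∃ i : ℕ, x = u * a ^ i :=
  h.gen_of le_rfl h.E_le (by rw [h.idx, h.card, h.cardE]) ha ha'

theorem normE (hs : s ∈ S) : Cj s E E := by
  obtain ⟨a, ha, ha'⟩ := h.exists_a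
  obtain ⟨x, hx, hx', n⟩ := h.exists_norm le_rfl (h.E_le.lt_of_ne fun e => ha' (e ▸ h.le ha))
  obtain ⟨u, hu, i, rfl⟩ := h.genS hx hx' s hs
  exact (n.pow i).mul (.of_mem hu)

theorem zW : z ∈ W h.zy := ⟨1, 0, by simp⟩

theorem yW : g * z * g⁻¹ ∈ W h.zy := ⟨0, 1, by simp⟩

theorem WQ : W h.zy ≤ Q := by
  rintro _ ⟨i, j, rfl⟩
  exact mul_mem (zpow_mem h.z_mem i) (zpow_mem h.inn j)

theorem cW (hx : x ∈ E) {w : Γ} (hw : w ∈ W h.zy) : w * x = x * w := by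
  obtain ⟨i, j, rfl⟩ := hw
  exact ((Commute.zpow_right (h.zc x (h.E_le hx)) i).mul_right
    (Commute.zpow_right (h.memE.1 hx).2 j)).symm

theorem cQW : cQ Q (W h.zy) = E ⊓ Q := by
  ext x
  exact ⟨fun a => ⟨h.memE.2 ⟨h.le a.1, (a.2 _ h.yW).symm⟩, a.1⟩, fun a => ⟨a.2, fun _ => h.cW a.1⟩⟩

theorem cardW : Nat.card (W h.zy) = p ^ 2 := by
  have := h.card_cQ h.zW h.WQ
  rw [h.cQW, h.card0, h.card] at this
  exact Nat.eq_of_mul_eq_mul_right (pow_pos hp.out.pos 4) (by rw [this]; ring)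

theorem cen0 (hx : x ∈ Q) (c : ∀ e ∈ E, e ∈ Q → x * e = e * x) :
    ∃ i j : ℤ, x = z ^ i * (g * z * g⁻¹) ^ j := by
  have := h.cQ_cQ h.zW h.WQ
  rw [h.cQW] at this
  exact this.le (mem_cQ.2 ⟨hx, fun u hu => (c u hu.1 hu.2).symm⟩)

theorem gen0 (hs : s ∈ E) (hs' : s ∉ Q) : ∀ x ∈ E, ∃ u ∈ E ⊓ Q, ∃ i : ℕ, x = u * s ^ i :=
  h.gen_of h.E_le inf_le_left h.cardE'.le hs fun e => hs' e.2

theorem cenE (hx : x ∈ E) :
    (∀ e ∈ E, x * e = e * x) ↔ ∃ i j : ℤ, x = z ^ i * (g * z * g⁻¹) ^ j := by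
  refine ⟨fun c => h.cen0 ?_ fun e he _ => c e he, fun m e he => h.cW he m⟩
  by_contra hq
  refine h.N fun a ha b hb => ?_
  obtain ⟨u, hu, i, rfl⟩ := h.gen0 hx hq a ha
  obtain ⟨v, hv, j, rfl⟩ := h.gen0 hx hq b hb
  have c1 : Commute (x ^ i) (v * x ^ j) := Commute.pow_left (c _ hb) i
  have c2 : Commute (x ^ j) u⁻¹ := Commute.pow_left (c _ (inv_mem hu.1)) j
  convert h.comm u hu.2 v hv.2 using 1
  calc _ = u * (x ^ i * (v * x ^ j) * (x ^ i)⁻¹) * u⁻¹ * (v * x ^ j)⁻¹ := by group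
    _ = u * v * (x ^ j * u⁻¹) * (v * x ^ j)⁻¹ := by rw [c1.eq]; group
    _ = _ := by rw [c2.eq]; group

theorem cj_cen (hx : x ∈ E) (c : ∀ e ∈ E, x * e = e * x) {k : Γ} (hk : Cj k E E) :
    ∃ i j : ℤ, k * x * k⁻¹ = z ^ i * (g * z * g⁻¹) ^ j := (h.cenE (hk x hx)).1 fun e he => by
  calc _ = k * (x * (k⁻¹ * e * k⁻¹⁻¹)) * k⁻¹ := by group
    _ = _ := by rw [c _ (hk.inv e he)]; group

theorem act1 (ha : a ∈ Q) (ha' : a ∉ E) : ∃ l : ℤ, ¬ (p : ℤ) ∣ l ∧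
    a * (g * z * g⁻¹) * a⁻¹ = g * z * g⁻¹ * z ^ l := by
  obtain ⟨l, hl⟩ := h.conj_eq ha h.inn
  refine ⟨l, fun d => ha' (h.memE.2 ⟨h.le ha, ?_⟩), hl⟩
  rwa [h.zinj.2 (by simpa using d : (p : ℤ) ∣ l - 0), zpow_zero, mul_one,
    mul_inv_eq_iff_eq_mul] at hl

theorem act (ha : a ∈ Q) (ha' : a ∉ E) : ∃ l m : ℤ, ¬ (p : ℤ) ∣ l ∧ ¬ (p : ℤ) ∣ m ∧
    a * (g * z * g⁻¹) * a⁻¹ = g * z * g⁻¹ * z ^ l ∧
    g * a * g⁻¹ * z * (g * a * g⁻¹)⁻¹ = z * (g * z * g⁻¹) ^ m := by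
  obtain ⟨l, hl, e⟩ := h.act1 ha ha'
  obtain ⟨i, j, e1⟩ := h.cj_cen h.z_E (fun e he => (h.zc e (h.E_le he)).symm) h.nm.inv
  have hj : ¬ (p : ℤ) ∣ j := fun d => h.symm.mv (by
    rw [e1, zpow_congr h.yp (j := 0) (by simpa using d), zpow_zero, mul_one]
    exact zpow_mem (mem_zpowers z) i)
  refine ⟨l, l * j, hl, fun d => ((Nat.prime_iff_prime_int.1 hp.out).dvd_or_dvd d).elim hl hj, e, ?_⟩
  have c : Commute a (z ^ i) := Commute.zpow_right (h.zc a (h.le ha)) i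
  calc _ = g * (a * (g⁻¹ * z * g⁻¹⁻¹) * a⁻¹) * g⁻¹ := by group
    _ = g * (z ^ i * (a * (g * z * g⁻¹) * a⁻¹) ^ j) * g⁻¹ := by
        rw [e1, ← mul_assoc a, c.eq, conj_zpow (a := a)]; group
    _ = g * (g⁻¹ * z * g⁻¹⁻¹ * z ^ (l * j)) * g⁻¹ := by
        rw [e, (h.zy.symm.zpow_right l).mul_zpow, e1, ← zpow_mul, mul_assoc (z ^ i)]
    _ = _ := by rw [conj_zpow]; group

theorem actS (hs : s ∈ S) : ∃ l : ℤ, s * (g * z * g⁻¹) * s⁻¹ = g * z * g⁻¹ * z ^ l := by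
  obtain ⟨a, ha, ha'⟩ := h.exists_a
  obtain ⟨u, hu, i, rfl⟩ := h.genS (h.le ha) ha' s hs
  obtain ⟨l, hl⟩ := h.conj_eq (pow_mem ha i) h.inn
  refine ⟨l, ?_⟩
  calc _ = u * (a ^ i * (g * z * g⁻¹) * (a ^ i)⁻¹) * u⁻¹ := by group
    _ = _ := by
      rw [hl, ← h.cW hu (mul_mem h.yW (zpow_mem h.zW l)), mul_inv_cancel_right]

theorem W_le (i j : ℤ) : z ^ i * (g * z * g⁻¹) ^ j ∈ XX E Q g := by
  refine mul_mem (zpow_mem (mem_XX.2 ⟨⟨h.z_E, h.z_mem⟩, ?_⟩) i)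
    (zpow_mem (mem_XX.2 ⟨⟨h.y_mem, h.inn⟩, by simpa [mul_assoc] using h.z_mem⟩) j)
  simpa using h.WQ (h.cj_cen h.z_E (fun e he => (h.zc e (h.E_le he)).symm) h.nm.inv)

theorem WX : W h.zy ≤ XX E Q g := by
  rintro _ ⟨i, j, rfl⟩
  exact h.W_le i j

theorem X_pow : ∀ a ∈ XX E Q g, a ^ p = 1 := fun a ha => h.one_of (h.pow a (mem_XX.1 ha).1.2) (by
  have := h.pow _ (mem_XX.1 ha).2
  rwa [show g⁻¹ * a * g = g⁻¹ * a * g⁻¹⁻¹ by group, conj_pow, inv_inv] at this)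

theorem comm_X : ∀ a ∈ E, ∀ b ∈ E, a * b * a⁻¹ * b⁻¹ ∈ XX E Q g := fun a ha b hb => by
  refine mem_XX.2 ⟨⟨mul_mem (mul_mem (mul_mem ha hb) (inv_mem ha)) (inv_mem hb),
    h.comm_mem (h.E_le ha) (h.E_le hb)⟩, ?_⟩
  convert h.comm_mem (h.E_le (h.cjE ha)) (h.E_le (h.cjE hb)) using 1
  group

theorem exists_x : ∃ x ∈ XX E Q g, ¬ ∃ i j : ℤ, x = z ^ i * (g * z * g⁻¹) ^ j :=
  SetLike.not_le_iff_exists.1 fun l : XX E Q g ≤ W h.zy => by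
    have := h.cardX'.trans (Nat.mul_le_mul_left p (card_le_of_le l))
    rw [h.card0, h.cardW, ← pow_succ'] at this
    exact absurd ((Nat.pow_le_pow_iff_right hp.out.one_lt).1 this) (by decide)

theorem exists_s : ∃ s ∈ E, s ∉ Q ∧ g⁻¹ * s * g ∈ Q := by
  obtain ⟨s, hs, hs'⟩ := SetLike.not_le_iff_exists.1 fun l : E1 E Q g ≤ Q => by
    have : Nat.card (E1 E Q g) ≤ p ^ 3 := (card_le_of_le ((le_inf (le_inf inf_le_left l)
      le_rfl).trans XX_eq.ge : E1 E Q g ≤ XX E Q g)).trans h.cardX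
    rw [h.card1', h.card0] at this
    exact absurd ((Nat.pow_le_pow_iff_right hp.out.one_lt).1 this) (by decide)
  exact ⟨s, hs.1, hs', (mem_E1.1 hs).2⟩

theorem genX (hc : c ∈ E ⊓ Q) (hc' : c ∉ XX E Q g) :
    ∀ e ∈ E ⊓ Q, ∃ x ∈ XX E Q g, ∃ i : ℕ, e = x * c ^ i :=
  h.gen_of (inf_le_left.trans h.E_le) inf_le_left h.cardX' hc hc'

theorem dl_a (ha : a ∈ Q) (ha' : a ∉ E) (hs : s ∈ E) (hs' : s ∉ Q) :
    dl s a ∈ E ⊓ Q ∧ dl s a ∉ XX E Q g := by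
  refine ⟨⟨?_, h.dl_mem (h.E_le hs) ha⟩, fun hc => ?_⟩
  · have := mul_mem (inv_mem hs) (h.normE (h.le ha) s hs)
    rwa [← mul_assoc, ← mul_assoc] at this
  have XE : XX E Q g ≤ E1 E Q g := XX_eq.le.trans inf_le_right
  have n1 : ∀ f ∈ E, Cj f (E1 E Q g) (E1 E Q g) := fun f hf u hu => mem_E1.2
    ⟨Cj.of_mem hf u hu.1, by
      convert h.norm _ (h.E_le (h.cjE hf)) _ (mem_E1.1 hu).2 using 1
      group⟩
  have ml : ∀ {e f}, f ∈ E → dl e a ∈ E1 E Q g → dl f a ∈ E1 E Q g → dl (e * f) a ∈ E1 E Q g :=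
    fun {e f} hf h1 h2 => by
      convert mul_mem (n1 _ (inv_mem hf) _ h1) h2 using 1
      unfold dl
      group
  have k : ∀ i : ℕ, dl (s ^ i) a ∈ E1 E Q g := fun i => by
    induction i with
    | zero => simp [dl]
    | succ i ih => rw [pow_succ]; exact ml hs ih (XE hc)
  have n2 : Cj a (E1 E Q g) (E1 E Q g) := fun e he => by
    rw [conj_eq_dl]
    refine mul_mem he ?_
    obtain ⟨u, hu, i, rfl⟩ := h.gen0 hs hs' e he.1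
    refine ml (pow_mem hs i) (XE (h.WX (zpowers_le.2 h.zW ?_))) (k i)
    simpa [dl] using h.comm _ (inv_mem hu.2) a ha
  obtain ⟨u, hu, v, hv, i, hi, e⟩ := h.nab
  obtain ⟨l, hl, e1⟩ := h.act1 ha ha'
  have m := h.comm1 (n2 u hu) (n2 v hv)
  have e2 : a * u * a⁻¹ * (a * v * a⁻¹) * (a * u * a⁻¹)⁻¹ * (a * v * a⁻¹)⁻¹ =
      (g * z * g⁻¹) ^ i * z ^ (l * i) := by
    calc _ = a * (u * v * u⁻¹ * v⁻¹) * a⁻¹ := by group
      _ = _ := by rw [e, ← conj_zpow (a := a), e1, (h.zy.symm.zpow_right l).mul_zpow, ← zpow_mul]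
  rw [e2, conj_zpow] at m
  have m1 : g⁻¹ * z ^ (l * i) * g ∈ zpowers z := by
    convert mul_mem (inv_mem (zpow_mem (mem_zpowers z) i)) m using 1
    group
  have := h.zinj.1 ((h.one_of (zpow_mem (mem_zpowers z) _) m1).trans (zpow_zero z).symm)
  exact ((Nat.prime_iff_prime_int.1 hp.out).dvd_or_dvd (by simpa using this)).elim hl hi

theorem dl_x (hs : s ∈ E) (hs' : s ∉ Q) (h1 : g⁻¹ * s * g ∈ Q) (hx : x ∈ XX E Q g)
    (hx' : ¬ ∃ i j : ℤ, x = z ^ i * (g * z * g⁻¹) ^ j) :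
    ∃ i : ℤ, ¬ (p : ℤ) ∣ i ∧ dl s x = (g * z * g⁻¹) ^ i := by
  have XE : XX E Q g ≤ E1 E Q g := XX_eq.le.trans inf_le_right
  have s1 : s ∈ E1 E Q g := mem_E1.2 ⟨hs, h1⟩
  obtain ⟨i, hi⟩ := mem_zpowers_iff.1 (h.comm1 (inv_mem s1) (XE hx))
  have e : dl s x = (g * z * g⁻¹) ^ i := by rw [conj_zpow, hi, dl]; group
  refine ⟨i, fun d => hx' ?_, e⟩
  rw [zpow_congr h.yp (j := 0) (by simpa using d), zpow_zero, dl_eq_one] at e
  have c : ∀ f ∈ E1 E Q g, x * f = f * x := fun f hf => by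
    obtain ⟨u, hu, j, rfl⟩ := h.gen_of (inf_le_left.trans h.E_le) XE (h.card1' ▸ h.cardX') s1
      (fun m => hs' (mem_XX.1 m).1.2) f hf
    exact Commute.mul_right (h.X_comm x hx u hu) (Commute.pow_right e j)
  have xE := h.cjE (mem_XX.1 hx).1.1
  have := h.cj_cen xE ((h.cenE xE).2 (h.cen0 (mem_XX.1 hx).2 fun f hf hf' => by
    calc _ = g⁻¹ * (x * (g * f * g⁻¹)) * g := by group
      _ = _ := by
        rw [c _ (mem_E1.2 ⟨h.nm f hf, by simpa [mul_assoc] using hf'⟩)]; group)) h.nm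
  simpa [mul_assoc] using this

theorem exp0 : ∀ e ∈ E ⊓ Q, e ^ p = 1 := fun e he => by
  obtain ⟨a, ha, ha'⟩ := h.exists_a
  obtain ⟨s, hs, hs', -⟩ := h.exists_s
  obtain ⟨h1, h2⟩ := h.dl_a ha ha' hs hs'
  obtain ⟨x, hx, i, rfl⟩ := h.genX h1 h2 e he
  rw [h.mul_pow (mem_XX.1 hx).1.2 (pow_mem h1.2 i), h.X_pow x hx, one_mul, pow_right_comm,
    h.dl_pow (h.E_le hs) ha, one_pow]

theorem card_DV (hs : s ∈ S) (hs' : s ∉ Q) : p ^ 3 ≤ Nat.card (DV Q z s) := by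
  obtain ⟨a, ha, ha'⟩ := h.exists_a
  obtain ⟨t, ht, ht', ht1⟩ := h.exists_s
  obtain ⟨x, hx, hx'⟩ := h.exists_x
  obtain ⟨i, hi, e⟩ := h.dl_x ht ht' ht1 hx hx'
  obtain ⟨j, hj⟩ := root h.yp hi
  rw [h.DV_indep (h.E_le ht) ht' hs hs', pow_succ', ← h.cardW]
  have l : W h.zy ≤ DV Q z t := by
    rintro _ ⟨k, l, rfl⟩
    exact mul_mem (zpow_mem (h.z_mem_DV t) k)
      (zpow_mem (hj ▸ zpow_mem (e ▸ h.dl_mem_DV (mem_XX.1 hx).1.2) j) l)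
  exact h.card_lt ((h.DV_le (h.E_le ht)).trans h.le) (l.lt_of_ne fun c =>
    (h.dl_a ha ha' ht ht').2 (h.WX (c.ge (h.dl_mem_DV ha))))

theorem card_CV (hs : s ∈ S) (hs' : s ∉ Q) : p ^ 2 * Nat.card (CV Q z s) ≤ Nat.card Q := by
  refine Nat.le_of_mul_le_mul_right ?_ (pow_pos hp.out.pos 3)
  calc _ ≤ p ^ 2 * Nat.card (CV Q z s) * Nat.card (DV Q z s) :=
        Nat.mul_le_mul_left _ (h.card_DV hs hs')
    _ = _ := by rw [mul_assoc, h.card_CV_DV hs]; ring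

end One

end H93.XP
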