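import Cfsg.Agent.Lib.XP.Bas1

set_option autoImplicit false

namespace H93.XP

open Subgroup H93.QW

variable {Γ : Type*} [Group Γ] {p : ℕ} [hp : Fact p.Prime]

/-- the action of `k` on three commuting elements -/
structure SL2Ac (z y u k : Γ) (a1 a2 a3 b1 b2 b3 : ℤ) : Prop where
  hz : k * z * k⁻¹ = z ^ a1 * y ^ a2 * u ^ a3
  hy : k * y * k⁻¹ = z ^ b1 * y ^ b2 * u ^ b3
  hu : k * u * k⁻¹ = u

section
variable {z y u k k' : Γ} (c1 : z * y = y * z) (c2 : z * u = u * z) (c3 : y * u = u * y)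
include c1 c2 c3

theorem sl2_W_mul (α β γ α' β' γ' : ℤ) : z ^ α * y ^ β * u ^ γ * (z ^ α' * y ^ β' * u ^ γ') =
    z ^ (α + α') * y ^ (β + β') * u ^ (γ + γ') := by
  have h1 := (Commute.zpow_zpow c1 α' β).eq
  have h2 := (Commute.zpow_zpow c2 α' γ).eq
  have h3 := (Commute.zpow_zpow c3 β' γ).eq
  calc _ = z ^ α * y ^ β * (u ^ γ * z ^ α') * y ^ β' * u ^ γ' := by simp only [mul_assoc]
    _ = z ^ α * (y ^ β * z ^ α') * (u ^ γ * y ^ β') * u ^ γ' := by rw [← h2]; simp only [mul_assoc]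
    _ = _ := by rw [← h1, ← h3]; simp only [zpow_add, mul_assoc]

theorem sl2_W_zpow (α β γ n : ℤ) :
    (z ^ α * y ^ β * u ^ γ) ^ n = z ^ (α * n) * y ^ (β * n) * u ^ (γ * n) := by
  rw [((Commute.zpow_zpow c2 α γ).mul_left (Commute.zpow_zpow c3 β γ)).mul_zpow,
    (Commute.zpow_zpow c1 α β).mul_zpow, ← zpow_mul, ← zpow_mul, ← zpow_mul]

theorem SL2Ac.conj {a1 a2 a3 b1 b2 b3 : ℤ} (h : SL2Ac z y u k a1 a2 a3 b1 b2 b3) (α β γ : ℤ) :
    k * (z ^ α * y ^ β * u ^ γ) * k⁻¹ =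
      z ^ (a1 * α + b1 * β) * y ^ (a2 * α + b2 * β) * u ^ (a3 * α + b3 * β + γ) := by
  rw [← conj_mul, ← conj_mul, ← conj_zpow, ← conj_zpow, ← conj_zpow, h.hz, h.hy, h.hu,
    sl2_W_zpow c1 c2 c3, sl2_W_zpow c1 c2 c3, sl2_W_mul c1 c2 c3, mul_assoc, ← zpow_add]

theorem SL2Ac.mul {a1 a2 a3 b1 b2 b3 a1' a2' a3' b1' b2' b3' : ℤ}
    (h : SL2Ac z y u k a1 a2 a3 b1 b2 b3) (h' : SL2Ac z y u k' a1' a2' a3' b1' b2' b3') :
    SL2Ac z y u (k' * k) (a1' * a1 + b1' * a2) (a2' * a1 + b2' * a2) (a3' * a1 + b3' * a2 + a3)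
      (a1' * b1 + b1' * b2) (a2' * b1 + b2' * b2) (a3' * b1 + b3' * b2 + b3) := by
  have e : ∀ x, k' * k * x * (k' * k)⁻¹ = k' * (k * x * k⁻¹) * k'⁻¹ := fun x => by group
  exact ⟨by rw [e, h.hz, h'.conj c1 c2 c3], by rw [e, h.hy, h'.conj c1 c2 c3], by rw [e, h.hu, h'.hu]⟩

theorem SL2Ac.powA {l i : ℤ} (h : SL2Ac z y u k 1 0 0 l 1 i) (n : ℕ) :
    SL2Ac z y u (k ^ n) 1 0 0 (l * n) 1 (i * n) := by
  induction n with
  | zero => exact ⟨by simp, by simp, by simp⟩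
  | succ n ih =>
    have := ih.mul c1 c2 c3 h
    rw [← pow_succ'] at this
    convert this using 1 <;> push_cast <;> ring

theorem SL2Ac.powB {l i : ℤ} (h : SL2Ac z y u k 1 l i 0 1 0) (n : ℕ) :
    SL2Ac z y u (k ^ n) 1 (l * n) (i * n) 0 1 0 := by
  induction n with
  | zero => exact ⟨by simp, by simp, by simp⟩
  | succ n ih =>
    have := ih.mul c1 c2 c3 h
    rw [← pow_succ'] at this
    convert this using 1 <;> push_cast <;> ring

end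

theorem sl2_nat {l : ℤ} (hl : ¬ (p : ℤ) ∣ l) (c : ℤ) : ∃ n : ℕ, ((l : ZMod p) * n) = c := by
  have : (l : ZMod p) ≠ 0 := fun e => hl ((ZMod.intCast_zmod_eq_zero_iff_dvd l p).1 e)
  exact ⟨((l : ZMod p)⁻¹ * c).val, by rw [ZMod.natCast_zmod_val, mul_inv_cancel_left₀ this]⟩

theorem sl2_congr {u : Γ} (hu : u ^ p = 1) {i j : ℤ} (e : (i : ZMod p) = j) : u ^ i = u ^ j :=
  zpow_congr hu ((ZMod.intCast_zmod_eq_zero_iff_dvd _ p).1 (by push_cast; rw [e, sub_self]))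

theorem sl2_torus {z y a b : Γ} (hz : z ^ p = 1) (hy : y ^ p = 1) (c : z * y = y * z)
    (az : a * z = z * a) {l m : ℤ} (ay : a * y * a⁻¹ = y * z ^ l) (hl : ¬ (p : ℤ) ∣ l)
    (by' : b * y = y * b) (bz : b * z * b⁻¹ = z * y ^ m) (hm : ¬ (p : ℤ) ∣ m) {θ θ' : ℤ}
    (hθ : (p : ℤ) ∣ θ * θ' - 1) :
    ∃ k ∈ Subgroup.closure {a, b}, k * z * k⁻¹ = z ^ θ ∧ k * y * k⁻¹ = y ^ θ' := by
  have c2 : z * 1 = 1 * z := by simp
  have c3 : y * 1 = 1 * y := by simp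
  have A : SL2Ac z y 1 a 1 0 0 l 1 0 :=
    ⟨by simp [az], by simp [ay, (Commute.zpow_left c l).eq], by simp⟩
  have B : SL2Ac z y 1 b 1 m 0 0 1 0 := ⟨by simp [bz], by simp [by'], by simp⟩
  have e0 : (θ : ZMod p) * θ' = 1 := by
    have := (ZMod.intCast_zmod_eq_zero_iff_dvd _ p).2 hθ
    push_cast at this
    exact sub_eq_zero.1 this
  obtain ⟨n1, e1⟩ := sl2_nat hm 1
  obtain ⟨n2, e2⟩ := sl2_nat hl (θ - 1)
  obtain ⟨n3, e3⟩ := sl2_nat hm (-θ')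
  obtain ⟨n4, e4⟩ := sl2_nat hl (-θ * (θ - 1))
  have ha : a ∈ Subgroup.closure ({a, b} : Set Γ) := subset_closure (by simp)
  have hb : b ∈ Subgroup.closure ({a, b} : Set Γ) := subset_closure (by simp)
  obtain ⟨h1, h2, -⟩ := (((B.powB c c2 c3 n1).mul c c2 c3 (A.powA c c2 c3 n2)).mul c c2 c3
    (B.powB c c2 c3 n3)).mul c c2 c3 (A.powA c c2 c3 n4)
  push_cast at e1 e2 e3 e4
  refine ⟨_, mul_mem (pow_mem ha n4) (mul_mem (pow_mem hb n3) (mul_mem (pow_mem ha n2) (pow_mem hb n1))),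
    ?_, ?_⟩
  · rw [h1, one_zpow, mul_one, sl2_congr hz (j := θ), sl2_congr hy (j := 0), zpow_zero, mul_one] <;>
      push_cast <;> simp only [e1, e2, e3, e4]
    · linear_combination -e0
    · linear_combination (θ : ZMod p) * (θ - 1) * e0
  · rw [h2, one_zpow, mul_one, sl2_congr hz (j := 0), sl2_congr hy (j := θ'), zpow_zero, one_mul] <;>
      push_cast <;> simp only [e2, e3, e4]
    · linear_combination -e0
    · linear_combination ((θ : ZMod p) - 1) * (θ - 1) * e0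

theorem sl2_out (h2 : p ≠ 2) {z y u a b : Γ} (hy : y ^ p = 1) (c1 : z * y = y * z)
    (c2 : z * u = u * z) (c3 : y * u = u * y) (az : a * z = z * a) (au : a * u = u * a) {i l m n : ℤ}
    (ay : a * y * a⁻¹ = y * (u ^ i * z ^ l)) (hi : ¬ (p : ℤ) ∣ i) (by' : b * y = y * b)
    (bu : b * u = u * b) (bz : b * z * b⁻¹ = z * (u ^ m * y ^ n)) (hn : ¬ (p : ℤ) ∣ n)
    (hu : u ^ p = 1) :
    ∃ k ∈ Subgroup.closure {a, b}, ∃ r t : ℤ, k * z * k⁻¹ = u ^ r * z ^ t ∧ ¬ (p : ℤ) ∣ r := by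
  have A : SL2Ac z y u a 1 0 0 l 1 i := ⟨by simp [az], by
    rw [ay, zpow_one, ← (Commute.zpow_zpow c2 l i).eq, ← mul_assoc, (Commute.zpow_left c1 l).eq],
    by simp [au]⟩
  have B : SL2Ac z y u b 1 n m 0 1 0 := ⟨by
    rw [bz, zpow_one, ← (Commute.zpow_zpow c3 n m).eq, mul_assoc], by simp [by'], by simp [bu]⟩
  have ha : a ∈ Subgroup.closure ({a, b} : Set Γ) := subset_closure (by simp)
  have hb : b ∈ Subgroup.closure ({a, b} : Set Γ) := subset_closure (by simp)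
  have cast : ∀ {x : ℤ}, (p : ℤ) ∣ x ↔ (x : ZMod p) = 0 := (ZMod.intCast_zmod_eq_zero_iff_dvd _ p).symm
  have t2 : ((2 : ℕ) : ZMod p) ≠ 0 := fun e =>
    h2 ((Nat.prime_dvd_prime_iff_eq hp.out Nat.prime_two).1 ((ZMod.natCast_eq_zero_iff 2 p).1 e))
  obtain ⟨r, r0, hr⟩ : ∃ r : ℕ, (r : ZMod p) ≠ 0 ∧ ¬ (p : ℤ) ∣ 1 + l * r * n := by
    by_cases e : (p : ℤ) ∣ 1 + l * (1 : ℕ) * n
    · refine ⟨2, t2, fun e' => ?_⟩
      rw [cast] at e e'
      push_cast at e e'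
      exact one_ne_zero (α := ZMod p) (by linear_combination 2 * e - e')
    · exact ⟨1, by simp, e⟩
  obtain ⟨t, ht⟩ := sl2_nat hr (-1)
  obtain ⟨h1, -⟩ := (B.mul c1 c2 c3 (A.powA c1 c2 c3 r)).mul c1 c2 c3 (B.powB c1 c2 c3 t)
  push_cast at ht
  rw [sl2_congr hy (j := 0) (by push_cast; linear_combination (n : ZMod p) * ht), zpow_zero, mul_one,
    (Commute.zpow_zpow c2 _ _).eq] at h1
  refine ⟨_, mul_mem (pow_mem hb t) (mul_mem (pow_mem ha r) hb), _, _, h1, fun e => ?_⟩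
  rw [cast] at e hi hn
  push_cast at e
  exact mul_ne_zero (mul_ne_zero hi r0) hn (by linear_combination e - (m : ZMod p) * ht)

end H93.XP
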