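import Cfsg.Agent.Lib.XP.C1a
import Cfsg.Agent.Lib.XP.SL2

/-! Case I: `Q` has exponent `p`. -/

set_option autoImplicit false

namespace H93.XP

open Subgroup H93.QW

variable {Γ : Type*} [Group Γ] [Finite Γ] {p : ℕ} [hp : Fact p.Prime] {S Q E : Subgroup Γ} {z g : Γ}

namespace C1b

/-- the elements normalising `E`, centralising `z` and `y` modulo `z` -/
def K (E : Subgroup Γ) (z y : Γ) : Subgroup Γ where
  carrier := {k | Cj k E E ∧ Commute k z ∧ ∃ l : ℤ, k * y * k⁻¹ = y * z ^ l}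
  one_mem' := ⟨.of_mem (one_mem _), .one_left _, 0, by simp⟩
  mul_mem' := by
    rintro a b ⟨a1, a2, l, a3⟩ ⟨b1, b2, m, b3⟩
    refine ⟨b1.mul a1, a2.mul_left b2, l + m, ?_⟩
    calc _ = a * (b * y * b⁻¹) * a⁻¹ := by group
      _ = a * y * (z ^ m * a⁻¹) := by rw [b3]; group
      _ = a * y * a⁻¹ * z ^ m := by rw [← (a2.inv_left.zpow_right m).eq]; group
      _ = _ := by rw [a3]; group
  inv_mem' := by
    rintro a ⟨a1, a2, l, a3⟩
    refine ⟨a1.inv, a2.inv_left, -l, ?_⟩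
    calc _ = a⁻¹ * (y * z ^ l) * (z ^ (-l) * a) := by group
      _ = _ := by rw [← a3, ← (a2.zpow_right (-l)).eq]; group

end C1b

theorem One.exp (h : One p S Q E z g) : ∀ u ∈ Q, u ^ p = 1 := fun a ha => by
  by_cases ha' : a ∈ E
  · exact h.exp0 a ⟨ha', ha⟩
  obtain ⟨l, m, hl, hm, e1, e2⟩ := h.act ha ha'
  have az := h.zc a (h.le ha)
  obtain ⟨j, hj, jz, jy⟩ := sl2_torus h.zp h.yp h.zy az e1 hl (by rw [conj_mul, conj_mul, az]) e2 hm
    (θ := -1) (θ' := -1) (by simp)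
  rw [zpow_neg_one] at jz jy
  have jE : Cj j E E := (mem_nS.1 ((closure_le (nS ⊤ E)).2 (by
    rintro _ (rfl | rfl)
    · exact mem_nS.2 ⟨mem_top _, h.normE (h.le ha)⟩
    · exact mem_nS.2 ⟨mem_top _, h.nm.inv.mul ((h.normE (h.le ha)).mul h.nm)⟩) hj)).2
  set y := g * z * g⁻¹ with hy
  have kk : ∀ {x : Γ}, j * x * j⁻¹ = x⁻¹ → j⁻¹ * x * j = x⁻¹ := fun {x} e => by
    calc _ = (j⁻¹ * x⁻¹ * j)⁻¹ := by group
      _ = _ := by rw [← e]; nth_rewrite 2 [e]; group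
  have jz' := kk jz
  have jy' := kk jy
  have zy : Commute z y := h.zy
  obtain ⟨k, ⟨-, k2, n, k3⟩, t, ht, tS⟩ := h.feN h.E_le (fun s hs => h.normE hs) (K := C1b.K E z y)
    (fun k hk => hk.1) (fun s hs => ⟨h.normE hs, h.zc s hs, h.actS hs⟩) jE (by
      rintro k ⟨k1, k2, n, k3⟩
      refine ⟨jE.inv.mul (k1.mul jE), mul_inv_eq_iff_eq_mul.1 ?_, n, ?_⟩
      · calc _ = j * (k * (j⁻¹ * z * j) * k⁻¹) * j⁻¹ := by group
          _ = (j * z * j⁻¹)⁻¹ := by rw [jz', k2.inv_right.eq]; group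
          _ = z := by rw [jz, inv_inv]
      · calc _ = j * (k * (j⁻¹ * y * j) * k⁻¹) * j⁻¹ := by group
          _ = (j * (k * y * k⁻¹) * j⁻¹)⁻¹ := by rw [jy']; group
          _ = (j * y * j⁻¹ * (j * z * j⁻¹) ^ n)⁻¹ := by rw [k3, conj_zpow]; group
          _ = _ := by rw [jy, jz, ← (zy.zpow_left n).eq]; group)
  have tz : t * z * t⁻¹ = z⁻¹ := by
    rw [ht z h.z_E, ← jz]
    calc _ = j * (k * z) * k⁻¹ * j⁻¹ := by group
      _ = _ := by rw [k2.eq]; group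
  have ty : t * y * t⁻¹ = (z ^ n * y)⁻¹ := by
    rw [ht y h.y_mem]
    calc _ = j * (k * y * k⁻¹) * j⁻¹ := by group
      _ = j * y * j⁻¹ * (j * z * j⁻¹) ^ n := by rw [k3, conj_zpow]; group
      _ = _ := by rw [jy, jz]; group
  obtain ⟨s, hs, hs', -⟩ := h.exists_s
  have tQ := h.char (h.E_le hs) hs' (h.card_CV (h.E_le hs) hs') tS (tz ▸ inv_mem (mem_zpowers z))
  have a'Q := tQ a ha
  have c : Commute (t * a * t⁻¹) z := h.zc _ (h.le a'Q)
  have e3 : t * a * t⁻¹ * y * (t * a * t⁻¹)⁻¹ = y * z ^ l := by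
    have e4 : t * a * t⁻¹ * (t * y * t⁻¹) * (t * a * t⁻¹)⁻¹ = t * y * t⁻¹ * (t * z * t⁻¹) ^ l := by
      calc _ = t * (a * y * a⁻¹) * t⁻¹ := by group
        _ = _ := by rw [e1, conj_zpow]; group
    rw [ty, tz] at e4
    generalize t * a * t⁻¹ = b at *
    calc _ = (z ^ n)⁻¹ * (z ^ n * b) * y * b⁻¹ := by group
      _ = (z ^ n)⁻¹ * (b * (z ^ n * y)⁻¹ * b⁻¹)⁻¹ := by rw [← (c.zpow_right n).eq]; group
      _ = z ^ l * y := by rw [e4]; group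
      _ = _ := (zy.zpow_left l).eq
  have m0 : a⁻¹ * (t * a * t⁻¹) ∈ E ⊓ Q := by
    have := mul_mem (inv_mem ha) a'Q
    refine ⟨h.memE.2 ⟨h.le this, mul_inv_eq_iff_eq_mul.1 ?_⟩, this⟩
    rw [← hy]
    calc _ = a⁻¹ * (t * a * t⁻¹ * y * (t * a * t⁻¹)⁻¹) * a := by group
      _ = _ := by rw [e3, ← e1]; group
  have e5 := h.mul_pow ha m0.2
  rw [h.exp0 _ m0, mul_one, mul_inv_cancel_left, conj_pow] at e5
  obtain ⟨i, hi⟩ := mem_zpowers_iff.1 (h.pow a ha)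
  rw [← hi, ← conj_zpow, tz, inv_zpow', h.zinj, show -i - i = 2 * -i by ring] at e5
  have d := ((Nat.prime_iff_prime_int.1 hp.out).dvd_or_dvd e5).resolve_left h.not_dvd_two
  rw [← hi, h.zinj.2 (by simpa using d : (p : ℤ) ∣ i - 0), zpow_zero]

end H93.XP
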