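import Cfsg.Agent.Lib.XP.C1a

/-! Case I: quadratic or regular type. -/

set_option autoImplicit false

namespace H93.XP

open Subgroup H93.QW

variable {Γ : Type*} [Group Γ] [Finite Γ] {p : ℕ} [hp : Fact p.Prime] {S Q E : Subgroup Γ} {z g : Γ}

theorem One.split (h : One p S Q E z g) (he : ∀ u ∈ Q, u ^ p = 1) :
    (∃ s, QT p S Q z s) ∨ ∃ s a, RT p S Q z s a := by
  have pr := Nat.prime_iff_prime_int.1 hp.out
  obtain ⟨a, ha, ha'⟩ := h.exists_a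
  obtain ⟨s, hs, hs', hs1⟩ := h.exists_s
  obtain ⟨x, hx, hx'⟩ := h.exists_x
  have pw : ∀ {t : Γ}, g⁻¹ * t * g ∈ Q → t ^ p = 1 := fun {t} ht => by
    have := he _ ht
    rwa [show g⁻¹ * t * g = g⁻¹ * t * g⁻¹⁻¹ by group, conj_pow, conj_eq_one_iff] at this
  obtain ⟨c1, c2⟩ := h.dl_a ha ha' hs hs'
  have dX : dl s (dl s a) ∈ XX E Q g := by simpa [dl] using h.comm_X _ (inv_mem hs) _ c1.1
  by_cases hd : ∃ i j : ℤ, dl s (dl s a) = z ^ i * (g * z * g⁻¹) ^ j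
  swap
  · obtain ⟨i, hi, e⟩ := h.dl_x hs hs' hs1 dX hd
    exact Or.inr ⟨s, a, h.card, he, h.E_le hs, pw hs1, ha, fun m => hi (h.y_dvd (e ▸ m)),
      e ▸ (Commute.zpow_right (h.memE.1 hs).2 i).symm⟩
  left
  obtain ⟨i, k, hd⟩ := hd
  set c := dl s a with hc
  have zc : ∀ n : ℤ, Commute c (z ^ n) := fun n => Commute.zpow_right (h.zc c (h.le c1.2)) n
  have hd' : dl s c = z ^ i := by
    obtain ⟨l, hl, e⟩ := h.act1 ha ha'
    obtain ⟨ν, hν⟩ := h.conj_eq ha c1.2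
    have az : Commute a (z ^ i) := Commute.zpow_right (h.zc a (h.le ha)) i
    have sz : Commute s (z ^ ν) := Commute.zpow_right (h.zc s (h.E_le hs)) ν
    have e1 : a * dl s c * a⁻¹ = dl s c * z ^ (l * k) := by
      calc _ = z ^ i * (a * (g * z * g⁻¹) * a⁻¹) ^ k := by
            rw [hd, ← mul_assoc a, az.eq, conj_zpow (a := a)]; group
        _ = _ := by rw [e, (h.zy.symm.zpow_right l).mul_zpow, hd, ← zpow_mul, mul_assoc (z ^ i)]
    have dc : dl s c * c = c * dl s c := h.cW c1.1 ⟨i, k, hd⟩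
    have e2 : dl s c * c * z ^ ν = dl s c * c * z ^ ν * z ^ (l * k) := by
      calc _ = s⁻¹ * (c * z ^ ν) * s := by rw [← conj_eq_dl', mul_assoc _ s, sz.eq]; group
        _ = s⁻¹ * a * s * (s⁻¹ * c * s) * (s⁻¹ * a * s)⁻¹ := by rw [← hν]; group
        _ = c * (a * dl s c * a⁻¹) * (a * c * a⁻¹) * c⁻¹ := by
          rw [conj_eq_dl', conj_eq_dl', ← hc]; group
        _ = c * dl s c * z ^ (l * k) * (c * z ^ ν) * c⁻¹ := by rw [e1, hν]; group
        _ = _ := by rw [← dc, (zc ν).eq]; group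
    have d := h.zinj.1 ((left_eq_mul.1 e2).trans (zpow_zero z).symm)
    rw [hd, zpow_congr h.yp (j := 0) (by
      simpa using (pr.dvd_or_dvd (by simpa using d)).resolve_left hl), zpow_zero, mul_one]
  have xQ := (mem_XX.1 hx).1.2
  obtain ⟨μ, hμ⟩ := h.conj_eq xQ c1.2
  have hμ' : ¬ (p : ℤ) ∣ μ := fun d => hx' (h.cen0 xQ fun e h1 h2 => by
    obtain ⟨u, hu, n, rfl⟩ := h.genX c1 c2 e ⟨h1, h2⟩
    rw [h.zinj.2 (by simpa using d : (p : ℤ) ∣ μ - 0), zpow_zero, mul_one,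
      mul_inv_eq_iff_eq_mul] at hμ
    exact Commute.mul_right (h.X_comm x hx u hu) (Commute.pow_right hμ n))
  obtain ⟨m, hm⟩ : ∃ m : ℕ, x ^ m * c * (x ^ m)⁻¹ = c * z ^ i := by
    have k1 : ∀ m : ℕ, x ^ m * c * (x ^ m)⁻¹ = c * z ^ (μ * m) := fun m => by
      induction m with
      | zero => simp
      | succ m ih =>
        have xz : Commute x (z ^ (μ * m)) := Commute.zpow_right (h.zc x (h.le xQ)) _
        calc _ = x * (x ^ m * c * (x ^ m)⁻¹) * x⁻¹ := by group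
          _ = x * c * x⁻¹ * (x * z ^ (μ * m) * x⁻¹) := by rw [ih]; group
          _ = _ := by rw [hμ, xz.eq]; push_cast; group
    obtain ⟨j, hj⟩ := inv_mod hμ'
    have p0 : (p : ℤ) ≠ 0 := pr.ne_zero
    refine ⟨(j * i % p).toNat, (k1 _).trans (congrArg _ (h.zinj.2 ?_))⟩
    rw [Int.toNat_of_nonneg (Int.emod_nonneg _ p0), Int.emod_def]
    obtain ⟨r, hr⟩ := hj
    exact ⟨r * i - μ * (j * i / p), by linear_combination i * hr⟩
  have xm := pow_mem hx m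
  have tE : s * x ^ m ∈ E := mul_mem hs (mem_XX.1 xm).1.1
  have tQ : s * x ^ m ∉ Q := fun e => hs' ((mul_mem_cancel_right (mem_XX.1 xm).1.2).1 e)
  have t1 : g⁻¹ * (s * x ^ m) * g ∈ Q := by
    convert mul_mem hs1 (mem_XX.1 xm).2 using 1
    group
  have tS := h.E_le tE
  have tc : Commute c (s * x ^ m) := by
    change _ = _
    calc c * (s * x ^ m) = s * (s⁻¹ * c * s) * x ^ m := by group
      _ = s * (c * z ^ i) * x ^ m := by rw [conj_eq_dl', hd', (zc i).eq]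
      _ = _ := by rw [← hm]; group
  obtain ⟨κ, hκ⟩ := h.dl_Q (h.E_le hs) (mem_XX.1 xm).1.2 ha
  obtain ⟨n, hn, e⟩ := h.dl_x tE tQ t1 hx hx'
  obtain ⟨j, hj⟩ := root h.yp hn
  have l : C1a.W h.zy ≤ cS Q (s * x ^ m) ⊓ DV Q z (s * x ^ m) := fun w hw => by
    refine mem_inf.2 ⟨⟨h.WQ hw, h.cW tE hw⟩, ?_⟩
    obtain ⟨k, l, rfl⟩ := hw
    exact mul_mem (zpow_mem (h.z_mem_DV _) k) (zpow_mem (hj ▸ zpow_mem (e ▸ h.dl_mem_DV xQ) j) l)
  have l1 : cS Q (s * x ^ m) ⊓ DV Q z (s * x ^ m) ≤ CV Q z (s * x ^ m) :=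
    inf_le_left.trans (h.cS_le_CV _)
  have n1 := h.card_lt (l1.trans ((h.CV_le _).trans h.le)) (l.lt_of_ne fun c =>
    (h.dl_a ha ha' tE tQ).2 (h.WX (c.ge ⟨⟨h.dl_mem tS ha, by
      rw [hκ]
      exact tc.mul_left (Commute.zpow_left (h.zc _ tS).symm κ)⟩, h.dl_mem_DV ha⟩)))
  have n2 := h.card_CV tS tQ
  rw [h.cardW, ← pow_succ'] at n1
  rw [h.card, show p ^ 5 = p ^ 2 * p ^ 3 by ring] at n2
  replace n2 := Nat.le_of_mul_le_mul_left n2 (pow_pos hp.out.pos 2)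
  have e1 := eq_of_le_of_card_ge l1 (n2.trans n1)
  refine ⟨_, h.card, he, tS, tQ, pw t1, (eq_of_le_of_card_ge (e1.ge.trans inf_le_right) ?_).symm,
    fun v hv => (e1.ge hv).1.2⟩
  have n3 := h.card_CV_DV tS
  rw [h.card, show p * p ^ 5 = p ^ 3 * p ^ 3 by ring] at n3
  rw [e1] at n1
  exact (Nat.le_of_mul_le_mul_left ((Nat.mul_le_mul_right _ n1).trans n3.le)
    (pow_pos hp.out.pos 3)).trans n1

end H93.XP
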