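import Cfsg.Agent.Lib.XP.Defs

set_option autoImplicit false

namespace H93.XP

open Subgroup H93.QW

theorem qf_quad {K : Type*} [Field K] [Finite K] (h2 : (2 : K) ≠ 0) {a b : K} (ha : a ≠ 0) (hb : b ≠ 0)
    (c : K) : ∃ x y, a * x ^ 2 + b * y ^ 2 + c = 0 := by
  classical
  have := Fintype.ofFinite K
  have hc : ringChar K ≠ 2 := fun e => h2 (by exact_mod_cast (ringChar.spec K 2).2 (e ▸ dvd_rfl))
  obtain ⟨x, y, e⟩ := FiniteField.exists_root_sum_quadratic (f := Polynomial.C a * Polynomial.X ^ 2)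
    (g := Polynomial.C b * Polynomial.X ^ 2 + Polynomial.C c) (Polynomial.degree_C_mul_X_pow 2 ha)
    (by rw [Polynomial.degree_add_C (by rw [Polynomial.degree_C_mul_X_pow 2 hb]; norm_num),
      Polynomial.degree_C_mul_X_pow 2 hb]; rfl) (FiniteField.odd_card_of_char_ne_two hc)
  exact ⟨x, y, by simpa [add_assoc] using e⟩

theorem qf_index {N A : Type*} [Group N] [Finite N] [AddGroup A] [Finite A] (D : Subgroup N) (f : N → A)
    (hf : ∀ v w, f (v * w) = f v + f w) (h : ∀ v, f v = 0 → v ∈ D) : D.index ≤ Nat.card A := by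
  let φ : N →* Multiplicative A := MonoidHom.mk' (fun v => Multiplicative.ofAdd (f v)) fun v w => by
    rw [hf, ofAdd_add]
  have h1 : φ.ker ≤ D := fun v hv => h v hv
  calc D.index ≤ φ.ker.index := Nat.le_of_dvd (Nat.pos_of_ne_zero index_ne_zero_of_finite) (index_dvd_of_le h1)
    _ = Nat.card φ.range := index_ker φ
    _ ≤ Nat.card (Multiplicative A) := card_le_card_group _
    _ = _ := Nat.card_congr Multiplicative.toAdd

theorem qf_pow {N K : Type*} [Group N] [Ring K] {f : N → K} (hf : ∀ v w, f (v * w) = f v + f w) (v : N)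
    (t : ℕ) : f (v ^ t) = t * f v := by
  induction t with
  | zero =>
    have := hf 1 1
    rw [mul_one] at this
    rw [pow_zero, Nat.cast_zero, zero_mul]
    exact left_eq_add.1 this
  | succ t ih => rw [pow_succ, hf, ih, Nat.cast_succ, add_mul, one_mul]

theorem qf_abs {p : ℕ} [Fact p.Prime] (h2 : p ≠ 2) {N : Type*} [Group N] [Finite N] (D : Subgroup N)
    (Λ : N → ZMod p) (B : N → N → ZMod p) (h1 : ∀ v w, Λ (v * w) = Λ v + Λ w + B v w)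
    (b1 : ∀ u v w, B (u * v) w = B u w + B v w) (b2 : ∀ u v w, B u (v * w) = B u v + B u w)
    (b3 : ∀ v w, B v w = B w v) (h5 : ∀ v, Λ v = 0 ↔ v ∈ D) (h6 : ∀ d ∈ D, ∀ w, B d w = 0) :
    (D.index ≤ p ∧ ∀ v, B v v = 0) ∨ (D.index ≤ p ^ 2 ∧ ∀ v, B v v = 2 * Λ v) := by
  have t2 : (2 : ZMod p) ≠ 0 := fun e => h2 ((Nat.prime_dvd_prime_iff_eq Fact.out Nat.prime_two).1
    ((ZMod.natCast_eq_zero_iff 2 p).1 (by exact_mod_cast e)))
  obtain ⟨ℓ, hℓ⟩ : ∃ ℓ : N → ZMod p, ∀ v, ℓ v = 2 * Λ v - B v v := ⟨_, fun _ => rfl⟩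
  have lm : ∀ v w, ℓ (v * w) = ℓ v + ℓ w := fun v w => by
    rw [hℓ, hℓ, hℓ, h1, b1, b2, b2, b3 w v]; ring
  have p1 : ∀ v w (t : ℕ), B (v ^ t) w = t * B v w := fun v w t =>
    qf_pow (f := fun v => B v w) (fun u v => b1 u v w) v t
  have p2 : ∀ v w (t : ℕ), B w (v ^ t) = t * B w v := fun v w t => by rw [b3, p1, b3]
  have lp := qf_pow lm
  have z : ∀ v, ℓ v + B v v = 0 → v ∈ D := fun v e =>
    (h5 v).1 ((mul_eq_zero.1 (by rw [hℓ] at e; linear_combination e)).resolve_left t2)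
  have alt : ∀ v, ℓ v ≠ 0 → B v v = 0 := fun v hv => by
    by_contra e
    have := h6 _ (z (v ^ (-ℓ v / B v v).val) (by
      rw [lp, p1, p2, ZMod.natCast_zmod_val]; field_simp; ring)) v
    rw [p1, ZMod.natCast_zmod_val, div_mul_cancel₀ _ e, neg_eq_zero] at this
    exact hv this
  by_cases e : ∀ v, ℓ v = 0
  · refine Or.inr ⟨?_, fun v => by have := e v; rw [hℓ] at this; linear_combination -this⟩
    obtain ⟨v1, v2, h⟩ : ∃ v1 v2, ∀ v, B v v1 = 0 → B v v2 = 0 → v ∈ D := by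
      by_contra h
      push Not at h
      obtain ⟨v1, -, -, n1⟩ := h 1 1
      obtain ⟨v2, e21, -, n2⟩ := h v1 v1
      obtain ⟨v3, e31, e32, n3⟩ := h v1 v2
      have nz : ∀ v, v ∉ D → B v v ≠ 0 := fun v hv e' => hv (z v (by rw [e, e', add_zero]))
      obtain ⟨x, y, hxy⟩ := qf_quad t2 (nz v1 n1) (nz v2 n2) (B v3 v3)
      have := h6 _ (z (v1 ^ x.val * v2 ^ y.val * v3) (by
        simp only [e, b1, b2, p1, p2, ZMod.natCast_zmod_val, b3 v1 v2, b3 v1 v3, b3 v2 v3, e21, e31, e32]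
        linear_combination hxy)) v3
      simp only [b1, p1, b3 v1 v3, b3 v2 v3, e31, e32, mul_zero, zero_add] at this
      exact nz v3 n3 this
    have := qf_index D (fun v => (B v v1, B v v2)) (fun v w => by rw [b1, b1]; rfl)
      fun v hv => h v (congrArg Prod.fst hv) (congrArg Prod.snd hv)
    rwa [Nat.card_prod, Nat.card_zmod, ← pow_two] at this
  · push Not at e
    obtain ⟨v0, h0⟩ := e
    have k : ∀ w, ℓ w = 0 → B w w = 0 := fun w hw => by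
      have a1 := alt (v0 * w) (by rwa [lm, hw, add_zero])
      have a2 := alt (v0 * w * w) (by rwa [lm, lm, hw, add_zero, add_zero])
      simp only [b1, b2, alt v0 h0, b3 w v0] at a1 a2
      exact (mul_eq_zero.1 (by linear_combination a2 - 2 * a1)).resolve_left t2
    refine Or.inl ⟨?_, fun v => by_cases (k v) (alt v)⟩
    have := qf_index D ℓ lm fun v hv => z v (by rw [hv, k v hv, add_zero])
    rwa [Nat.card_zmod] at this

theorem qf_rep {K : Type*} [Field K] [Finite K] (h2 : (2 : K) ≠ 0) {α β γ : K}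
    (an : ∀ x y, α * x ^ 2 + β * x * y + γ * y ^ 2 = 0 → x = 0 ∧ y = 0) (c : K) :
    ∃ x y, α * x ^ 2 + β * x * y + γ * y ^ 2 = c := by
  have a0 : α ≠ 0 := fun e => one_ne_zero (an 1 0 (by rw [e]; ring)).1
  have d0 : 4 * α * γ - β ^ 2 ≠ 0 := fun e =>
    mul_ne_zero h2 a0 (an (-β) (2 * α) (by linear_combination α * e)).2
  obtain ⟨X, Y, e⟩ := qf_quad h2 one_ne_zero d0 (-(4 * α * c))
  refine ⟨(X - β * Y) / (2 * α), Y, ?_⟩
  field_simp
  linear_combination e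

theorem la_move {K : Type*} [Field K] [Finite K] (h2 : (2 : K) ≠ 0) {Γ : Type*} [Group Γ]
    (T : K → K → K → K → Γ) (H : Subgroup Γ) {α β γ α' β' γ' : K}
    (an : ∀ x y, α * x ^ 2 + β * x * y + γ * y ^ 2 = 0 → x = 0 ∧ y = 0)
    (an' : ∀ x y, α' * x ^ 2 + β' * x * y + γ' * y ^ 2 = 0 → x = 0 ∧ y = 0)
    (ha : ∀ x y, ∃ a ∈ H, ∀ i j k l, a * T i j k l * a⁻¹ = T i (j + i * x) (k + i * y)
      (l + i * (α * x ^ 2 + β * x * y + γ * y ^ 2) + (2 * α * x + β * y) * j + (β * x + 2 * γ * y) * k))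
    (hb : ∀ x y, ∃ b ∈ H, ∀ i j k l, b * T i j k l * b⁻¹ = T
      (i + l * (α' * x ^ 2 + β' * x * y + γ' * y ^ 2) + (2 * α' * x + β' * y) * j +
        (β' * x + 2 * γ' * y) * k) (j + l * x) (k + l * y) l)
    (om : ∀ g ∈ H, ∀ j k l, g * T 1 0 0 0 * g⁻¹ = T 0 j k l → j = 0 ∧ k = 0)
    {j₀ k₀ : K} (h0 : ¬ (j₀ = 0 ∧ k₀ = 0)) :
    ∃ g ∈ H, (∀ l, ∃ l', g * T 0 0 0 l * g⁻¹ = T 0 0 0 l') ∧
      (∀ j k l, ∃ j' k' l', g * T 0 j k l * g⁻¹ = T 0 j' k' l') ∧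
      ∃ j k l, g * T 0 j₀ k₀ 0 * g⁻¹ = T 0 j k l ∧ j * k₀ ≠ k * j₀ := by
  have cj : ∀ a b x : Γ, a * b * x * (a * b)⁻¹ = a * (b * x * b⁻¹) * a⁻¹ := fun a b x => by group
  have eq : ∀ x y, ¬ (x = 0 ∧ y = 0) →
      α' * x ^ 2 + β' * x * y + γ' * y ^ 2 = α * x ^ 2 + β * x * y + γ * y ^ 2 := fun x y hxy => by
    obtain ⟨Q, hQ⟩ : ∃ Q, Q = α * x ^ 2 + β * x * y + γ * y ^ 2 := ⟨_, rfl⟩
    have Q0 : Q ≠ 0 := fun e => hxy (an x y (hQ ▸ e))
    obtain ⟨s, t, e⟩ := qf_rep h2 an' (((α' * x ^ 2 + β' * x * y + γ' * y ^ 2) / Q - 1) / Q)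
    obtain ⟨a, aH, e1⟩ := ha x y
    obtain ⟨b, bH, e2⟩ := hb (s - x / Q) (t - y / Q)
    obtain ⟨s0, t0⟩ := om (b * a) (mul_mem bH aH) (Q * s) (Q * t) Q (by
      rw [cj, e1, e2, ← hQ]
      congr 1
      · field_simp at e ⊢; linear_combination Q * e
      · field_simp; ring
      · field_simp; ring
      · ring)
    rw [(mul_eq_zero.1 s0).resolve_left Q0, (mul_eq_zero.1 t0).resolve_left Q0] at e
    rw [← hQ]
    field_simp at e
    linear_combination -e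
  obtain rfl : α' = α := by simpa using eq 1 0 (by simp)
  obtain rfl : γ' = γ := by simpa using eq 0 1 (by simp)
  obtain rfl : β' = β := by simpa using eq 1 1 (by simp)
  have nn : ∀ x y Q, ¬ (x = 0 ∧ y = 0) → Q = α' * x ^ 2 + β' * x * y + γ' * y ^ 2 → Q ≠ 0 ∧ ∃ n ∈ H,
      ∀ i j k l, n * T i j k l * n⁻¹ = T (l / Q)
        (j - ((2 * α' * x + β' * y) * j + (β' * x + 2 * γ' * y) * k) * x / Q)
        (k - ((2 * α' * x + β' * y) * j + (β' * x + 2 * γ' * y) * k) * y / Q) (i * Q) :=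
    fun x y Q hxy hQ => by
    have Q0 : Q ≠ 0 := fun e => hxy (an x y (hQ ▸ e))
    obtain ⟨a, aH, e1⟩ := ha x y
    obtain ⟨b, bH, e2⟩ := hb (-x / Q) (-y / Q)
    refine ⟨Q0, a * (b * a), mul_mem aH (mul_mem bH aH), fun i j k l => ?_⟩
    rw [cj, cj, e1, e2, e1, ← hQ]
    congr 1 <;> field_simp <;> rw [hQ] <;> ring
  obtain ⟨x, y, n1, n2⟩ : ∃ x y, x * k₀ - y * j₀ ≠ 0 ∧
      (2 * α' * x + β' * y) * j₀ + (β' * x + 2 * γ' * y) * k₀ ≠ 0 := by
    obtain ⟨x, y, n1⟩ : ∃ x y, x * k₀ - y * j₀ ≠ 0 := by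
      by_cases e : j₀ = 0
      · exact ⟨1, 0, by simpa using fun e' => h0 ⟨e, e'⟩⟩
      · exact ⟨0, 1, by simpa using e⟩
    by_cases e : (2 * α' * x + β' * y) * j₀ + (β' * x + 2 * γ' * y) * k₀ = 0
    · exact ⟨x + j₀, y + k₀, fun e' => n1 (by linear_combination e'), fun e' =>
        h0 (an _ _ ((mul_eq_zero.1 (by linear_combination e' - e)).resolve_left h2))⟩
    · exact ⟨x, y, n1, e⟩
  obtain ⟨Q, hQ⟩ : ∃ Q, Q = α' * x ^ 2 + β' * x * y + γ' * y ^ 2 := ⟨_, rfl⟩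
  obtain ⟨R, hR⟩ : ∃ R, R = α' * j₀ ^ 2 + β' * j₀ * k₀ + γ' * k₀ ^ 2 := ⟨_, rfl⟩
  obtain ⟨Q0, n, nH, e1⟩ := nn x y Q (fun e => n1 (by rw [e.1, e.2]; ring)) hQ
  obtain ⟨R0, m, mH, e2⟩ := nn j₀ k₀ R h0 hR
  refine ⟨n * m, mul_mem nH mH, fun l => ⟨l / R * Q, ?_⟩, fun j k l => ?_, ?_⟩
  · rw [cj, e2, e1]; congr 1 <;> simp
  · rw [cj, e2, e1, zero_mul, zero_div]; exact ⟨_, _, _, rfl⟩
  · have e3 : m * T 0 j₀ k₀ 0 * m⁻¹ = T 0 (-j₀) (-k₀) 0 := by
      rw [e2]; congr 1 <;> field_simp <;> first | (rw [hR]; ring) | simp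
    rw [cj, e3, e1, zero_div]
    refine ⟨_, _, _, rfl, fun e => mul_ne_zero n1 n2 ?_⟩
    field_simp at e
    linear_combination e

end H93.XP
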