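import Cfsg.Agent.Lib.XP.Bas2
import Cfsg.Agent.Lib.XP.QF

/-! Case II: the structure of `E` and the quadratic form. -/

set_option autoImplicit false
set_option linter.unusedSectionVars false

namespace H93.XP

open Subgroup H93.QW

variable {Γ : Type*} [Group Γ] [Finite Γ] {p : ℕ} [hp : Fact p.Prime] {S Q E : Subgroup Γ} {z g : Γ}

namespace Two

variable (h : Two p S Q E z g) {k v : Γ}
include h

theorem notMem : g * z * g⁻¹ ∉ Q := fun e => h.mv (h.out g h.nm e)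

theorem c2a_yS : g * z * g⁻¹ ∈ S := h.E_le h.y_mem

theorem c2a_yc {e : Γ} (he : e ∈ E) : e * (g * z * g⁻¹) = g * z * g⁻¹ * e :=
  (mem_cS.1 (h.E_eq.ge he)).2

theorem c2a_yp : (g * z * g⁻¹) ^ p = 1 := by rw [conj_pow, h.zp, mul_one, mul_inv_cancel]

theorem inf_eq : E ⊓ Q = cS Q (g * z * g⁻¹) := le_antisymm (fun _ hx => ⟨hx.2, h.c2a_yc hx.1⟩)
  fun _ hx => ⟨h.E_eq.le ⟨h.le hx.1, hx.2⟩, hx.1⟩

theorem genE : ∀ e ∈ E, ∃ u ∈ E ⊓ Q, ∃ i : ℕ, e = u * (g * z * g⁻¹) ^ i := fun e he => by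
  obtain ⟨i, q, hq, rfl⟩ := h.gen h.c2a_yS h.notMem (h.E_le he)
  have := (mul_mem_cancel_left (pow_mem h.y_mem i)).1 he
  exact ⟨q, ⟨this, hq⟩, i, (Commute.pow_right (h.c2a_yc this) i).eq.symm⟩

theorem c2a_yQ {x : Γ} (h1 : x ∈ zpowers (g * z * g⁻¹)) (h2 : x ∈ Q) : x = 1 := by
  obtain ⟨j, rfl⟩ := mem_zpowers_iff.1 h1
  rw [zpow_congr h.c2a_yp (j := 0) (by simpa using (h.zpow_mem_iff h.c2a_yS h.notMem).1 h2), zpow_zero]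

theorem c2a_zy {x : Γ} (h1 : x ∈ zpowers z) (h2 : g⁻¹ * x * g⁻¹⁻¹ ∈ zpowers z) : x = 1 := by
  obtain ⟨j, e⟩ := mem_zpowers_iff.1 h2
  exact h.c2a_yQ ⟨j, by simp only [conj_zpow, e]; group⟩ (h.Z_le h1)

theorem ab : ∀ a ∈ E, ∀ b ∈ E, a * b = b * a := by
  have k : ∀ a ∈ E, ∀ b ∈ E, a * b * a⁻¹ * b⁻¹ ∈ zpowers z := fun a ha b hb => by
    obtain ⟨u, hu, i, rfl⟩ := h.genE a ha
    obtain ⟨w, hw, j, rfl⟩ := h.genE b hb
    have c1 := (Commute.pow_right (h.c2a_yc hb) i).eq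
    have c2 := (Commute.pow_right (h.c2a_yc hu.1) j).eq
    have := h.comm u hu.2 w hw.2
    generalize g * z * g⁻¹ = y at *
    rwa [mul_assoc u, ← c1, show u * (w * y ^ j * y ^ i) * (u * y ^ i)⁻¹ * (w * y ^ j)⁻¹ =
      u * w * (y ^ j * u⁻¹) * (w * y ^ j)⁻¹ by group, ← (Commute.inv_left c2).eq,
      show u * w * (u⁻¹ * y ^ j) * (w * y ^ j)⁻¹ = u * w * u⁻¹ * w⁻¹ by group]
  intro a ha b hb
  have := h.c2a_zy (k a ha b hb) (by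
    convert k _ (h.nm.inv a ha) _ (h.nm.inv b hb) using 1; group)
  rwa [mul_inv_eq_one, mul_inv_eq_iff_eq_mul] at this

theorem exp : ∀ a ∈ E, a ^ p = 1 := by
  have k : ∀ a ∈ E, a ^ p ∈ zpowers z := fun a ha => by
    obtain ⟨u, hu, i, rfl⟩ := h.genE a ha
    rw [(Commute.pow_right (h.c2a_yc hu.1) i).mul_pow, ← pow_mul, mul_comm i, pow_mul, h.c2a_yp, one_pow,
      mul_one]
    exact h.pow u hu.2
  exact fun a ha => h.c2a_zy (k a ha) (by rw [← conj_pow]; exact k _ (h.nm.inv a ha))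

theorem one (hk : Cj k E E) (h1 : g⁻¹ * (k * z * k⁻¹) * g ∈ Q) :
    k * z * k⁻¹ ∈ zpowers (g * z * g⁻¹) := by
  have e : g⁻¹ * k * z * (g⁻¹ * k)⁻¹ = g⁻¹ * (k * z * k⁻¹) * g := by group
  obtain ⟨j, e'⟩ := mem_zpowers_iff.1 (h.out _ (hk.mul h.nm.inv) (e ▸ h1))
  exact ⟨j, by simp only [conj_zpow, e', e]; group⟩

theorem z_notMem : g⁻¹ * z * g ∉ Q := by simpa only [inv_inv] using h.symm.notMem

theorem dec : ∀ e ∈ E ⊓ Q, ∃ u ∈ XX E Q g, ∃ k : ℤ, e = u * z ^ k := fun e he => by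
  obtain ⟨u, hu, i, k⟩ := h.symm.genE _ (h.nm.inv e he.1)
  have e1 : e = g * u * g⁻¹ * z ^ (i : ℤ) := by
    rw [conj_pow] at k
    calc e = g * (g⁻¹ * e * g⁻¹⁻¹) * g⁻¹ := by group
      _ = _ := by rw [k, zpow_natCast]; group
  refine ⟨_, mem_XX.2 ⟨⟨h.nm u hu.1, ?_⟩, by simpa [mul_assoc] using hu.2⟩, i, e1⟩
  exact (mul_mem_cancel_right (zpow_mem h.z_mem i)).1 (e1 ▸ he.2)

theorem c2a_XZ {u : Γ} (h1 : u ∈ XX E Q g) (h2 : u ∈ zpowers z) : u = 1 := by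
  obtain ⟨j, rfl⟩ := mem_zpowers_iff.1 h2
  have := h.symm.c2a_yQ (x := g⁻¹ * z ^ j * g) ⟨j, by simp only [conj_zpow]; rw [inv_inv]⟩ (mem_XX.1 h1).2
  rwa [mul_assoc, inv_mul_eq_one, eq_comm, mul_eq_right] at this

theorem c2a_zE : z ∈ E ⊓ Q := ⟨h.z_E, h.z_mem⟩

theorem card_XX : p * Nat.card (XX E Q g) = Nat.card (E ⊓ Q : Subgroup Γ) := by
  refine le_antisymm (h.card_lt (inf_le_left.trans h.E_le) (lt_of_le_of_ne inf_le_left fun e =>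
    h.z_ne (h.c2a_XZ (e.ge h.c2a_zE) (mem_zpowers z)))) ?_
  refine (h.card_inf (X := E ⊓ Q) (Y := E ⊓ Q.comap (MulAut.conj g⁻¹).toMonoidHom) inf_le_left inf_le_left
    h.E_le ?_).trans (Nat.mul_le_mul_left _ (card_le_of_le fun x hx => ⟨hx.1, hx.2.2⟩))
  rw [h.card_eq h.E_le h.y_mem h.notMem]
  exact Nat.mul_le_mul_left _ (Cj.card_le (g := g) fun u hu => ⟨h.nm u hu.1, by
    simpa [mul_assoc] using hu.2⟩)

theorem c2a_N : v ∈ NV Q (E ⊓ Q) (g * z * g⁻¹) ↔ v ∈ Q ∧ dl (g * z * g⁻¹) v ∈ E ⊓ Q :=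
  h.mem_NV h.c2a_yS h.c2a_zE inf_le_right

theorem cj_N (hv : v ∈ NV Q (E ⊓ Q) (g * z * g⁻¹)) : Cj v E E := fun e he => by
  obtain ⟨h1, h2⟩ := h.c2a_N.1 hv
  obtain ⟨u, hu, i, rfl⟩ := h.genE e he
  rw [← conj_mul, ← conj_pow (a := v), conj_eq_dl (g * z * g⁻¹)]
  exact mul_mem (h.normY h.c2a_zE inf_le_right h1 u hu).1 (pow_mem (mul_mem h.y_mem h2.1) i)

theorem star (hv : v ∈ NV Q (E ⊓ Q) (g * z * g⁻¹)) (h1 : g⁻¹ * dl (g * z * g⁻¹) v * g ∈ Q) :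
    v ∈ E := by
  obtain ⟨h2, h3⟩ := h.c2a_N.1 hv
  have e : v * g * z * (v * g)⁻¹ = g * z * g⁻¹ * dl (g * z * g⁻¹) v := by rw [← conj_eq_dl]; group
  have := h.one (h.nm.mul (h.cj_N hv)) (by
    rw [e, show ∀ d, g⁻¹ * (g * z * g⁻¹ * d) * g = z * (g⁻¹ * d * g) from fun d => by group]
    exact mul_mem h.z_mem h1)
  rw [e, mul_mem_cancel_left (mem_zpowers _)] at this
  exact h.E_eq.le ⟨h.le h2, dl_eq_one.1 (h.c2a_yQ this h3.2)⟩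

theorem c2a_cast {i j : ℤ} (e : z ^ i = z ^ j) : (i : ZMod p) = j :=
  (ZMod.intCast_eq_intCast_iff_dvd_sub _ _ _).2 (h.zinj.1 e.symm)

theorem c2a_cast' {i j : ℤ} (e : (i : ZMod p) = j) : z ^ i = z ^ j :=
  (h.zinj.2 ((ZMod.intCast_eq_intCast_iff_dvd_sub _ _ _).1 e)).symm

theorem qf : (Nat.card (NV Q (E ⊓ Q) (g * z * g⁻¹)) ≤ p * Nat.card (E ⊓ Q : Subgroup Γ) ∧
      ∀ v ∈ NV Q (E ⊓ Q) (g * z * g⁻¹), v * dl (g * z * g⁻¹) v = dl (g * z * g⁻¹) v * v) ∨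
    (Nat.card (NV Q (E ⊓ Q) (g * z * g⁻¹)) ≤ p ^ 2 * Nat.card (E ⊓ Q : Subgroup Γ) ∧
      ∀ v ∈ NV Q (E ⊓ Q) (g * z * g⁻¹), ∃ u ∈ XX E Q g, ∃ k : ℤ, dl (g * z * g⁻¹) v = u * z ^ k ∧
        v * u * v⁻¹ = u * z ^ (2 * k) ∧ ((p : ℤ) ∣ k → v ∈ E)) := by
  have hN := fun v : NV Q (E ⊓ Q) (g * z * g⁻¹) => h.c2a_N.1 v.2
  have star := fun v : NV Q (E ⊓ Q) (g * z * g⁻¹) => h.star v.2
  have yS := h.c2a_yS
  have yc := @c2a_yc _ _ _ _ _ _ _ _ _ _ h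
  generalize g * z * g⁻¹ = y at *
  choose U hU L hL using fun v : NV Q (E ⊓ Q) y => h.dec _ (hN v).2
  choose B hB using fun v w : NV Q (E ⊓ Q) y => h.conj_eq (hN v).1 (hN w).2.2
  have zc : ∀ u ∈ Q, ∀ i : ℤ, z ^ i * u = u * z ^ i := fun u hu i =>
    (Commute.zpow_right (h.zc u (h.le hu)) i).eq.symm
  have uL : ∀ v : NV Q (E ⊓ Q) y, ∀ u ∈ XX E Q g, ∀ k : ℤ, dl y v = u * z ^ k → (L v : ZMod p) = k :=
    fun v u hu k e => h.c2a_cast (by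
      have e1 : u⁻¹ * U v = z ^ k * (z ^ L v)⁻¹ := by
        rw [inv_mul_eq_iff_eq_mul, ← mul_assoc, ← e, hL, mul_inv_cancel_right]
      have := h.c2a_XZ (mul_mem (inv_mem hu) (hU v)) (e1 ▸ mul_mem ⟨k, rfl⟩ (inv_mem ⟨_, rfl⟩))
      exact (mul_inv_eq_one.1 (e1 ▸ this)).symm)
  have uB : ∀ v w : NV Q (E ⊓ Q) y, ∀ k : ℤ, v * dl y w * (v : Γ)⁻¹ = dl y w * z ^ k → (B v w : ZMod p) = k :=
    fun v w k e => h.c2a_cast (mul_left_cancel ((hB v w).symm.trans e))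
  have dm : ∀ v w : NV Q (E ⊓ Q) y, dl y (v * w : NV Q (E ⊓ Q) y) = dl y v * dl y w * z ^ B v w :=
    fun v w => by rw [coe_mul, dl_mul, hB, mul_assoc]
  have h1 : ∀ v w, (L (v * w) : ZMod p) = L v + L w + B v w := fun v w => by
    rw [uL _ _ (mul_mem (hU v) (hU w)) (L v + L w + B v w) (by
      rw [dm, hL, hL, zpow_add, zpow_add, mul_assoc (U v), ← mul_assoc (z ^ _), zc _ (mem_XX.1 (hU w)).1.2]
      simp only [mul_assoc])]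
    push_cast; rfl
  have h5 : ∀ v, (L v : ZMod p) = 0 ↔ v ∈ E.subgroupOf (NV Q (E ⊓ Q) y) := fun v =>
    ⟨fun e => star v (by
      rw [hL, h.c2a_cast' (j := 0) (by simpa using e), zpow_zero, mul_one]; exact (mem_XX.1 (hU v)).2),
      fun e => by simpa using uL v 1 (one_mem _) 0 (by simpa using dl_eq_one.2 (yc e))⟩
  have cd : ∀ n, (E.subgroupOf (NV Q (E ⊓ Q) y)).index ≤ n →
      Nat.card (NV Q (E ⊓ Q) y) ≤ n * Nat.card (E ⊓ Q : Subgroup Γ) := fun n hn => by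
    rw [← (E.subgroupOf (NV Q (E ⊓ Q) y)).index_mul_card]
    exact Nat.mul_le_mul hn (Nat.card_le_card_of_injective
      (fun d => (⟨d.1.1, d.2, (hN d.1).1⟩ : (E ⊓ Q : Subgroup Γ)))
      fun a b e => Subtype.ext (Subtype.ext (congrArg (fun x : (E ⊓ Q : Subgroup Γ) => (x : Γ)) e)))
  refine (qf_abs h.odd (E.subgroupOf (NV Q (E ⊓ Q) y)) (fun v => (L v : ZMod p)) (fun v w => (B v w : ZMod p))
    h1 (fun u v w => ?_) (fun u v w => ?_) (fun v w => ?_) h5 fun d hd w => ?_).imp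
    (fun c => ⟨cd _ c.1, fun v hv => ?_⟩) fun c => ⟨cd _ c.1, fun v hv => ⟨_, hU ⟨v, hv⟩, _, hL ⟨v, hv⟩, ?_,
      fun e => (h5 ⟨v, hv⟩).1 ((ZMod.intCast_zmod_eq_zero_iff_dvd _ _).2 e)⟩⟩
  · rw [uB _ _ (B u w + B v w) (by
      rw [coe_mul, show (u : Γ) * v * dl y w * ((u : Γ) * v)⁻¹ = u * (v * dl y w * (v : Γ)⁻¹) * (u : Γ)⁻¹ by group,
        hB, ← mul_assoc, mul_assoc _ (z ^ _), zc _ (inv_mem (hN u).1), ← mul_assoc, hB, zpow_add, mul_assoc])]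
    push_cast; rfl
  · rw [uB _ _ (B u v + B u w) (by
      rw [dm, ← mul_assoc, mul_assoc _ (z ^ _), zc _ (inv_mem (hN u).1), ← mul_assoc, ← conj_mul, hB, hB,
        mul_assoc (dl y v), ← mul_assoc (z ^ _), zc _ (hN w).2.2]
      simp only [mul_assoc, ← zpow_add]
      congr 3; ring)]
    push_cast; rfl
  · obtain ⟨m, e⟩ := h.conj_eq (hN v).1 (hN w).1
    have e1 : dl y (v * w : NV Q (E ⊓ Q) y) = dl y (w * v : NV Q (E ⊓ Q) y) := by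
      rw [coe_mul, coe_mul, mul_inv_eq_iff_eq_mul.1 e, mul_assoc, zc _ (hN v).1, ← mul_assoc, h.dl_z yS]
    rw [dm, dm, h.ab _ (hN v).2.1 _ (hN w).2.1] at e1
    exact h.c2a_cast (mul_left_cancel e1)
  · simpa using uB d w 0 (by rw [h.ab d hd _ (hN w).2.1]; simp)
  · have := hB ⟨v, hv⟩ ⟨v, hv⟩
    rwa [h.c2a_cast' (j := 0) (by simpa using c.2 ⟨v, hv⟩), zpow_zero, mul_one, mul_inv_eq_iff_eq_mul] at this
  · have := hB ⟨v, hv⟩ ⟨v, hv⟩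
    rw [h.c2a_cast' (j := 2 * L ⟨v, hv⟩) (by simpa using c.2 ⟨v, hv⟩), hL, ← mul_assoc, mul_assoc _ (z ^ _),
      zc _ (inv_mem (hN ⟨v, hv⟩).1), ← mul_assoc, mul_assoc (U _), ← zpow_add, add_comm, zpow_add,
      ← mul_assoc] at this
    exact mul_right_cancel this

end Two

end H93.XP
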