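import Cfsg.Agent.Lib.XP.C2a
import Cfsg.Agent.Lib.XP.SL2

/-! Case II: the dichotomy. -/

set_option autoImplicit false
set_option linter.unusedSectionVars false

namespace H93.XP

open Subgroup H93.QW

variable {Γ : Type*} [Group Γ] [Finite Γ] {p : ℕ} [hp : Fact p.Prime] {S Q E : Subgroup Γ} {z g : Γ}

namespace Two

variable (h : Two p S Q E z g)
include h

theorem c2b_le : E ⊓ Q ≤ CV Q z (g * z * g⁻¹) := h.inf_eq ▸ h.cS_le_CV _

theorem c2b_le' : CV Q z (g * z * g⁻¹) ≤ NV Q (E ⊓ Q) (g * z * g⁻¹) := fun _ hv =>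
  let ⟨h1, h2⟩ := (h.mem_CV h.c2a_yS).1 hv
  h.c2a_N.2 ⟨h1, zpowers_le.2 h.c2a_zE h2⟩

theorem c2b_D (e : CV Q z (g * z * g⁻¹) = E ⊓ Q) : E ⊓ Q ≤ DV Q z (g * z * g⁻¹) := fun x hx => by
  rw [h.DV_eq h.c2a_yS, e]
  exact mem_cQ.2 ⟨hx.2, fun u hu => h.ab u hu.1 x hx.1⟩

theorem c2b_beta (c : Nat.card (NV Q (E ⊓ Q) (g * z * g⁻¹)) ≤ p ^ 2 * Nat.card (E ⊓ Q : Subgroup Γ))
    (k : ∀ v ∈ NV Q (E ⊓ Q) (g * z * g⁻¹), ∃ u ∈ XX E Q g, ∃ k : ℤ, dl (g * z * g⁻¹) v = u * z ^ k ∧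
        v * u * v⁻¹ = u * z ^ (2 * k) ∧ ((p : ℤ) ∣ k → v ∈ E)) : Beta p Q E z g := by
  have yS := h.c2a_yS
  have k' : ∀ v ∈ NV Q (E ⊓ Q) (g * z * g⁻¹), (∀ u ∈ XX E Q g, ∀ k : ℤ,
      dl (g * z * g⁻¹) v = u * z ^ k → u * v = v * u) → v ∈ E ⊓ Q := fun v hv c => by
    obtain ⟨u, hu, i, e1, e2, e3⟩ := k v hv
    rw [← c u hu i e1, mul_inv_cancel_right, eq_comm, mul_eq_left, ← zpow_zero z, h.zinj, sub_zero] at e2
    exact ⟨e3 (((Nat.prime_iff_prime_int.1 hp.out).dvd_or_dvd e2).resolve_left h.not_dvd_two),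
      h.NV_le _ _ hv⟩
  have eC : CV Q z (g * z * g⁻¹) = E ⊓ Q := le_antisymm (fun v hv => k' v (h.c2b_le' hv) fun u hu i e => by
    have := ((h.mem_CV yS).1 hv).2
    rw [e, mul_mem_cancel_right (zpow_mem (mem_zpowers z) i)] at this
    rw [h.c2a_XZ hu this, mul_one, one_mul]) h.c2b_le
  have eD : DV Q z (g * z * g⁻¹) = E ⊓ Q := by
    by_contra n
    obtain ⟨v, h1, h2, h3⟩ := h.fix yS h.c2a_zE (lt_of_le_of_ne (h.c2b_D eC) (Ne.symm n)) (h.DV_le yS)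
      (fun u hu => by rwa [← h.c2a_yc hu.1, mul_inv_cancel_right]) (h.cj_DV yS yS)
    refine h2 (k' v (h.c2a_N.2 ⟨h.DV_le yS h1, h3⟩) fun u hu _ _ => ?_)
    rw [h.DV_eq yS, eC] at h1
    exact (mem_cQ.1 h1).2 u (mem_XX.1 hu).1
  have c1 := h.card_NV yS h.c2a_zE inf_le_right
  have c2 := h.card_CV_DV yS
  rw [eC, eD] at c2
  rw [eC, eD, inf_idem, c2, Nat.mul_right_inj hp.out.ne_zero] at c1
  have eN := eq_of_le_of_card_ge (h.NV_le _ _) c1.ge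
  refine ⟨le_antisymm ?_ h.big, eD, eC, fun v hv => k v (eN.ge hv)⟩
  rw [c1] at c
  have p0 := hp.out.pos
  have e0 : 0 < Nat.card (E ⊓ Q : Subgroup Γ) := Nat.card_pos
  generalize Nat.card (E ⊓ Q : Subgroup Γ) = a at *
  generalize Nat.card Q = b at *
  have c3 : a ≤ p ^ 3 := Nat.le_of_mul_le_mul_right (calc
    a * a = p * b := c2
    _ ≤ p * (p ^ 2 * a) := Nat.mul_le_mul_left _ c
    _ = p ^ 3 * a := by ring) e0
  calc b ≤ p ^ 2 * a := c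
    _ ≤ p ^ 2 * p ^ 3 := Nat.mul_le_mul_left _ c3
    _ = _ := by ring

theorem c2b_C (n : E ⊓ Q ≠ zpowers z)
    (c : Nat.card (NV Q (E ⊓ Q) (g * z * g⁻¹)) ≤ p * Nat.card (E ⊓ Q : Subgroup Γ)) :
    CV Q z (g * z * g⁻¹) = E ⊓ Q := by
  by_contra n1
  have yS := h.c2a_yS
  have p0 := hp.out.pos
  have CS : CV Q z (g * z * g⁻¹) ≤ S := (h.CV_le _).trans h.le
  have c0 := h.card_lt CS (lt_of_le_of_ne h.c2b_le (Ne.symm n1))
  have c3 := card_le_of_le h.c2b_le'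
  have c1 := h.card_NV yS h.c2a_zE inf_le_right
  rw [le_antisymm (c.trans c0) c3, mul_comm, Nat.mul_right_inj Nat.card_pos.ne'] at c1
  have eZ : zpowers z = E ⊓ Q ⊓ DV Q z (g * z * g⁻¹) := eq_of_le_of_card_ge
    (zpowers_le.2 ⟨h.c2a_zE, h.z_mem_DV _⟩) (by rw [h.card_Z, ← c1])
  have nD : zpowers z ≠ DV Q z (g * z * g⁻¹) := fun e => by
    have c2 := h.card_CV_DV yS
    have c4 := h.ab_le (X := E ⊓ Q) inf_le_right fun a ha b hb => h.ab a ha.1 b hb.1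
    have c5 := h.big
    rw [← e, h.card_Z, mul_comm, Nat.mul_right_inj p0.ne'] at c2
    rw [c2] at c3
    have e0 : 0 < Nat.card (E ⊓ Q : Subgroup Γ) := Nat.card_pos
    replace c := c3.trans c
    generalize Nat.card (E ⊓ Q : Subgroup Γ) = a at *
    generalize Nat.card Q = b at *
    have c6 : a ≤ p ^ 2 := Nat.le_of_mul_le_mul_right (calc
      a * a = a ^ 2 := by ring
      _ ≤ p * (p * a) := c4.trans (Nat.mul_le_mul_left _ c)
      _ = p ^ 2 * a := by ring) e0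
    have c7 : p ^ 5 ≤ p ^ 3 := calc
      _ ≤ p * p ^ 2 := c5.trans (c.trans (Nat.mul_le_mul_left _ c6))
      _ = _ := by ring
    exact absurd ((Nat.pow_le_pow_iff_right hp.out.one_lt).1 c7) (by decide)
  obtain ⟨v, h1, h2, h3⟩ := h.fix yS (mem_zpowers z) (lt_of_le_of_ne (eZ.le.trans inf_le_right) nD)
    (h.DV_le yS) (by
      rintro _ ⟨i, rfl⟩
      rw [(Commute.zpow_right (h.zc _ yS) i).eq, mul_inv_cancel_right]; exact ⟨i, rfl⟩) (h.cj_DV yS yS)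
  have k := h.gen_of CS h.c2b_le (c3.trans c) ((h.mem_CV yS).2 ⟨h.DV_le yS h1, h3⟩)
    fun e => h2 (eZ.ge ⟨e, h1⟩)
  refine n (le_antisymm (fun e he => eZ.ge ⟨he, ?_⟩) (zpowers_le.2 h.c2a_zE))
  rw [h.DV_eq yS] at h1 ⊢
  refine mem_cQ.2 ⟨he.2, fun x hx => ?_⟩
  obtain ⟨u, hu, i, rfl⟩ := k x hx
  exact (Commute.mul_left (h.ab u hu.1 e he.1)
    (Commute.pow_left ((mem_cQ.1 h1).2 e (h.c2b_le he)).symm i)).eq

theorem c2b_Z (c : Nat.card (NV Q (E ⊓ Q) (g * z * g⁻¹)) ≤ p * Nat.card (E ⊓ Q : Subgroup Γ))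
    (k : ∀ v ∈ NV Q (E ⊓ Q) (g * z * g⁻¹), v * dl (g * z * g⁻¹) v = dl (g * z * g⁻¹) v * v) :
    E ⊓ Q = zpowers z := by
  by_contra n
  have yS := h.c2a_yS
  have p0 := hp.out.pos
  have eC := h.c2b_C n c
  have c1 := h.card_NV yS h.c2a_zE inf_le_right
  rw [eC, inf_eq_left.2 (h.c2b_D eC)] at c1
  have c2 := h.card_lt (inf_le_left.trans h.E_le) (lt_of_le_of_ne (zpowers_le.2 h.c2a_zE) (Ne.symm n))
  have c3 := h.card_XX
  rw [h.card_Z] at c2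
  have e0 : 0 < Nat.card (E ⊓ Q : Subgroup Γ) := Nat.card_pos
  have c4 : Nat.card (E ⊓ Q : Subgroup Γ) ≤ p * p := Nat.le_of_mul_le_mul_right
    (c1.ge.trans ((Nat.mul_le_mul_left _ c).trans_eq (mul_assoc ..).symm)) e0
  have c5 : Nat.card (XX E Q g) ≤ p := Nat.le_of_mul_le_mul_left (c3.le.trans c4) p0
  obtain ⟨v, hv, h2⟩ : ∃ v ∈ NV Q (E ⊓ Q) (g * z * g⁻¹), v ∉ E ⊓ Q := by
    by_contra! a
    have := Nat.le_of_mul_le_mul_right (c1.ge.trans (Nat.mul_le_mul_left _ (card_le_of_le a))) e0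
    have := hp.out.one_lt
    nlinarith
  obtain ⟨vQ, dE⟩ := h.c2a_N.1 hv
  obtain ⟨u, hu, l, e⟩ := h.dec _ dE
  obtain ⟨⟨uE, uQ⟩, uQ'⟩ := mem_XX.1 hu
  have up := h.exp u uE
  have u1 : u ≠ 1 := fun a => h2 (eC.le ((h.mem_CV yS).2 ⟨vQ, l, by rw [e, a, one_mul]⟩))
  have eX : zpowers u = XX E Q g := eq_of_le_of_card_ge (zpowers_le.2 hu) (by
    rwa [Nat.card_zpowers, orderOf_eq_prime up u1])
  have vz : Commute v z := h.zc v (h.le vQ)
  have vu : Commute v u := by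
    have : Commute v (dl (g * z * g⁻¹) v) := k v hv
    simpa [e] using this.mul_right (vz.zpow_right l).inv_right
  have vE : ∀ x ∈ E ⊓ Q, Commute v x := fun x hx => by
    obtain ⟨w, hw, i, rfl⟩ := h.dec x hx
    obtain ⟨j, rfl⟩ := eX.ge hw
    exact (vu.zpow_right j).mul_right (vz.zpow_right i)
  have nb : Cj (g * v * g⁻¹) E E := by
    rw [mul_assoc]; exact (h.nm.inv.mul (h.cj_N hv)).mul h.nm
  have zE := h.nm.inv z h.z_E
  obtain ⟨e1, he1, j, ej⟩ := h.genE _ zE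
  have hj : ¬ (p : ℤ) ∣ j := fun a => h.z_notMem (by
    rw [← inv_inv g, inv_inv g⁻¹, ej, ← zpow_natCast]
    exact mul_mem he1.2 ((h.zpow_mem_iff yS h.notMem).2 a))
  obtain ⟨e2, he2, t, et⟩ := h.genE _ (h.nm _ (pow_mem dE.1 j))
  obtain ⟨m, rfl⟩ : ∃ m : ℤ, u ^ m = e2 := eX.ge (mem_XX.2 ⟨he2, by
    have : g⁻¹ * e2 * g = dl (g * z * g⁻¹) v ^ j * (z ^ t)⁻¹ := by
      rw [eq_mul_inv_of_mul_eq et.symm, conj_pow]; group
    exact this ▸ mul_mem (pow_mem dE.2 j) (inv_mem (pow_mem h.z_mem t))⟩)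
  have bz : g * v * g⁻¹ * z * (g * v * g⁻¹)⁻¹ = z * (u ^ m * (g * z * g⁻¹) ^ (t : ℤ)) := by
    rw [zpow_natCast, ← et]
    calc _ = g * (v * (g⁻¹ * z * g⁻¹⁻¹) * v⁻¹) * g⁻¹ := by group
      _ = g * (g⁻¹ * z * g⁻¹⁻¹ * dl (g * z * g⁻¹) v ^ j) * g⁻¹ := by
        rw [ej, ← conj_mul (b := v), (vE _ he1).eq, mul_inv_cancel_right, ← conj_pow (a := v),
          conj_eq_dl (g * z * g⁻¹), Commute.mul_pow (h.c2a_yc dE.1).symm, mul_assoc e1]
      _ = _ := by group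
  have ht : ¬ (p : ℤ) ∣ t := fun a => by
    have y1 : (g * z * g⁻¹) ^ (t : ℤ) = 1 := by
      rw [zpow_congr h.c2a_yp (j := 0) (by simpa using a), zpow_zero]
    have := h.out _ nb (by rw [bz, y1, mul_one]; exact mul_mem h.z_mem (zpow_mem uQ m))
    rw [bz, y1, mul_one, mul_mem_cancel_left (mem_zpowers z)] at this
    rw [← zpow_natCast (g * z * g⁻¹), y1, mul_one, h.c2a_XZ (zpow_mem hu m) this, conj_eq_one_iff] at et
    obtain ⟨i, ei⟩ := root (h.exp _ dE.1) hj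
    rw [zpow_natCast, et, one_zpow] at ei
    exact h2 (eC.le ((h.mem_CV yS).2 ⟨vQ, ei ▸ one_mem _⟩))
  obtain ⟨k, hk, r, t', ek, hr⟩ := sl2_out (a := v) (b := g * v * g⁻¹) (i := 1) (l := l) h.odd h.c2a_yp
    (h.zc _ yS).symm (h.ab _ h.z_E _ uE) (h.c2a_yc uE).symm vz vu (by rw [conj_eq_dl, e, zpow_one])
    (fun a => hp.out.ne_one (by exact_mod_cast Int.eq_one_of_dvd_one (by positivity) a))
    (by rw [conj_mul, conj_mul, vz.eq])
    (by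
      have := (vE _ ⟨by simpa using h.nm.inv u uE, uQ'⟩).eq
      calc _ = g * (v * (g⁻¹ * u * g)) * g⁻¹ := by group
        _ = _ := by rw [this]; group) bz ht up
  have nk : Cj k E E := by
    clear ek
    induction hk using closure_induction with
    | mem x hx => rcases hx with rfl | rfl; exacts [h.cj_N hv, nb]
    | one => exact Cj.of_mem (one_mem _)
    | mul x y _ _ a b => exact b.mul a
    | inv x _ a => exact a.inv
  have := h.out k nk (ek ▸ mul_mem (zpow_mem uQ r) (zpow_mem h.z_mem t'))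
  rw [ek, mul_mem_cancel_right (zpow_mem (mem_zpowers z) t')] at this
  obtain ⟨i, ei⟩ := root up hr
  rw [h.c2a_XZ (zpow_mem hu r) this, one_zpow] at ei
  exact u1 ei.symm

end Two

theorem Two.tri (h : Two p S Q E z g) : E ⊓ Q = zpowers z ∨ Beta p Q E z g :=
  h.qf.imp (fun c => h.c2b_Z c.1 c.2) fun c => h.c2b_beta c.1 c.2

end H93.XP
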