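import Cfsg.Agent.Lib.Syl2.Oct
import Cfsg.Agent.Lib.XP.Defs

/-!
# The Sylow `p`-subgroup of the automorphism group of the split octonions over `F_p`
-/

set_option autoImplicit false

namespace H93.XP

open Subgroup H93.QW Matrix Cfsg.Lie H82.Oct

namespace MG

/-- the short simple root element -/
def gs : GL (Fin 8) ℤ :=
  ⟨!![1, 0, -1, 0, 0, 0, 0, 0; 0, 1, 0, 0, 0, 0, 1, 0; 0, 0, 1, 0, 0, 0, 0, 0; 0, 0, 0, 1, -1, 0, 0, 0; 0, 0, 0, 0, 1, 0, 0, 0; 1, 0, -1, 0, 0, 1, 0, -1; 0, 0, 0, 0, 0, 0, 1, 0; 0, 0, 1, 0, 0, 0, 0, 1],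
   !![1, 0, 1, 0, 0, 0, 0, 0; 0, 1, 0, 0, 0, 0, -1, 0; 0, 0, 1, 0, 0, 0, 0, 0; 0, 0, 0, 1, 1, 0, 0, 0; 0, 0, 0, 0, 1, 0, 0, 0; -1, 0, -1, 0, 0, 1, 0, 1; 0, 0, 0, 0, 0, 0, 1, 0; 0, 0, -1, 0, 0, 0, 0, 1],
   by decide +kernel, by decide +kernel⟩

/-- the long simple root element -/
def ga : GL (Fin 8) ℤ :=
  ⟨!![1, 0, 0, 0, 0, 0, 0, 0; 0, 1, 0, 0, 0, 0, 0, 0; 0, 0, 1, 1, 0, 0, 0, 0; 0, 0, 0, 1, 0, 0, 0, 0; 0, 0, 0, 0, 1, 0, 0, 0; 0, 0, 0, 0, 0, 1, 0, 0; 0, 0, 0, 0, 0, -1, 1, 0; 0, 0, 0, 0, 0, 0, 0, 1],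
   !![1, 0, 0, 0, 0, 0, 0, 0; 0, 1, 0, 0, 0, 0, 0, 0; 0, 0, 1, -1, 0, 0, 0, 0; 0, 0, 0, 1, 0, 0, 0, 0; 0, 0, 0, 0, 1, 0, 0, 0; 0, 0, 0, 0, 0, 1, 0, 0; 0, 0, 0, 0, 0, 1, 1, 0; 0, 0, 0, 0, 0, 0, 0, 1],
   by decide +kernel, by decide +kernel⟩

/-- first commutator -/
def gb : GL (Fin 8) ℤ :=
  ⟨!![1, 0, 0, 1, -1, 0, 0, 0; 1, 1, -1, 1, 0, 1, 0, -1; 0, 0, 1, 0, -1, 0, 0, 0; 0, 0, 0, 1, 0, 0, 0, 0; 0, 0, 0, 0, 1, 0, 0, 0; 0, 0, 0, -1, 1, 1, 0, 0; -1, 0, 1, -1, 0, 0, 1, 1; 0, 0, 0, -1, 1, 0, 0, 1],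
   !![1, 0, 0, -1, 1, 0, 0, 0; -1, 1, 1, 0, 0, -1, 0, 1; 0, 0, 1, 0, 1, 0, 0, 0; 0, 0, 0, 1, 0, 0, 0, 0; 0, 0, 0, 0, 1, 0, 0, 0; 0, 0, 0, 1, -1, 1, 0, 0; 1, 0, -1, -1, 1, 0, 1, -1; 0, 0, 0, 1, -1, 0, 0, 1],
   by decide +kernel, by decide +kernel⟩

/-- second commutator -/
def gc : GL (Fin 8) ℤ :=
  ⟨!![1, 0, 0, 0, -2, 0, 0, 0; 2, 1, -6, -3, -4, 0, 0, -2; 0, 0, 1, 0, 0, 0, 0, 0; 0, 0, 0, 1, 0, 0, 0, 0; 0, 0, 0, 0, 1, 0, 0, 0; 0, 0, 0, -2, 6, 1, 0, 0; 0, 0, 2, 0, 3, 0, 1, 0; 0, 0, 0, 0, 2, 0, 0, 1],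
   !![1, 0, 0, 0, 2, 0, 0, 0; -2, 1, 6, 3, -4, 0, 0, 2; 0, 0, 1, 0, 0, 0, 0, 0; 0, 0, 0, 1, 0, 0, 0, 0; 0, 0, 0, 0, 1, 0, 0, 0; 0, 0, 0, 2, -6, 1, 0, 0; 0, 0, -2, 0, -3, 0, 1, 0; 0, 0, 0, 0, -2, 0, 0, 1],
   by decide +kernel, by decide +kernel⟩

/-- third commutator -/
def gd : GL (Fin 8) ℤ :=
  ⟨!![1, 0, 0, 0, 0, 0, 0, 0; 0, 1, -6, 0, 0, 0, 0, 0; 0, 0, 1, 0, 0, 0, 0, 0; 0, 0, 0, 1, 0, 0, 0, 0; 0, 0, 0, 0, 1, 0, 0, 0; 0, 0, 0, 0, 6, 1, 0, 0; 0, 0, 0, 0, 0, 0, 1, 0; 0, 0, 0, 0, 0, 0, 0, 1],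
   !![1, 0, 0, 0, 0, 0, 0, 0; 0, 1, 6, 0, 0, 0, 0, 0; 0, 0, 1, 0, 0, 0, 0, 0; 0, 0, 0, 1, 0, 0, 0, 0; 0, 0, 0, 0, 1, 0, 0, 0; 0, 0, 0, 0, -6, 1, 0, 0; 0, 0, 0, 0, 0, 0, 1, 0; 0, 0, 0, 0, 0, 0, 0, 1],
   by decide +kernel, by decide +kernel⟩

/-- the central element -/
def gz : GL (Fin 8) ℤ :=
  ⟨!![1, 0, 0, 0, 0, 0, 0, 0; 0, 1, 0, 6, 0, 0, 0, 0; 0, 0, 1, 0, 0, 0, 0, 0; 0, 0, 0, 1, 0, 0, 0, 0; 0, 0, 0, 0, 1, 0, 0, 0; 0, 0, 0, 0, 0, 1, 0, 0; 0, 0, 0, 0, -6, 0, 1, 0; 0, 0, 0, 0, 0, 0, 0, 1],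
   !![1, 0, 0, 0, 0, 0, 0, 0; 0, 1, 0, -6, 0, 0, 0, 0; 0, 0, 1, 0, 0, 0, 0, 0; 0, 0, 0, 1, 0, 0, 0, 0; 0, 0, 0, 0, 1, 0, 0, 0; 0, 0, 0, 0, 0, 1, 0, 0; 0, 0, 0, 0, 6, 0, 1, 0; 0, 0, 0, 0, 0, 0, 0, 1],
   by decide +kernel, by decide +kernel⟩

/-- the highest root element -/
def gy : GL (Fin 8) ℤ :=
  ⟨!![1, 0, 0, 0, 0, 0, 0, 0; 0, 1, 0, 1, 0, 0, 0, 0; 0, 0, 1, 0, 0, 0, 0, 0; 0, 0, 0, 1, 0, 0, 0, 0; 0, 0, 0, 0, 1, 0, 0, 0; 0, 0, 0, 0, 0, 1, 0, 0; 0, 0, 0, 0, -1, 0, 1, 0; 0, 0, 0, 0, 0, 0, 0, 1],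
   !![1, 0, 0, 0, 0, 0, 0, 0; 0, 1, 0, -1, 0, 0, 0, 0; 0, 0, 1, 0, 0, 0, 0, 0; 0, 0, 0, 1, 0, 0, 0, 0; 0, 0, 0, 0, 1, 0, 0, 0; 0, 0, 0, 0, 0, 1, 0, 0; 0, 0, 0, 0, 1, 0, 1, 0; 0, 0, 0, 0, 0, 0, 0, 1],
   by decide +kernel, by decide +kernel⟩

variable {F : Type*} [Field F]

/-- reduction of integral matrices -/
def red (F : Type*) [Field F] : GL (Fin 8) ℤ →* GL (Fin 8) F :=
  GeneralLinearGroup.map (Int.castRingHom F)

theorem red_val (g : GL (Fin 8) ℤ) : (red F g).val = g.val.map (Int.castRingHom F) := rfl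

theorem red_mem {g : GL (Fin 8) ℤ} (h : ∀ i j, g.val *ᵥ zornMul (Pi.single i 1) (Pi.single j 1) =
    zornMul (g.val.col i) (g.val.col j)) : red F g ∈ G2 F := fun x y => by
  have hz : ∀ x y : Fin 8 → ℤ, Int.castRingHom F ∘ zornMul x y =
      mu F (Int.castRingHom F ∘ x) (Int.castRingHom F ∘ y) := fun x y => by
    ext i; fin_cases i <;> simp [mu_apply, zornMul, dot3, cross3]
  have hs : ∀ i : Fin 8, Int.castRingHom F ∘ Pi.single i 1 = Pi.single i 1 := fun i => by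
    ext j; by_cases e : j = i <;> simp [e]
  have hm : ∀ x : Fin 8 → ℤ, (red F g).val *ᵥ (Int.castRingHom F ∘ x) =
      Int.castRingHom F ∘ (g.val *ᵥ x) := fun x => by
    ext i; exact (RingHom.map_mulVec _ _ _ _).symm
  refine LinearMap.congr_fun₂ (f := (mu F).compr₂ (toLin' (red F g).val))
    (g := (mu F).compl₁₂ (toLin' (red F g).val) (toLin' (red F g).val))
    (LinearMap.ext_basis (Pi.basisFun _ _) (Pi.basisFun _ _) fun i j => ?_) x y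
  simp only [Pi.basisFun_apply, LinearMap.compr₂_apply, LinearMap.compl₁₂_apply, toLin'_apply]
  rw [← hs i, ← hs j, ← hz, hm, hm, hm, ← hz, h, mulVec_single_one, mulVec_single_one]

theorem red_pow {p : ℕ} [hp : Fact p.Prime] [CharP F p] (h3 : 3 ≤ p) {g : GL (Fin 8) ℤ}
    (h : (g.val - 1) * (g.val - 1) * (g.val - 1) = 0) : red F g ^ p = 1 := by
  have h1 : ((red F g).val - 1) ^ 3 = 0 := by
    have := congrArg (Int.castRingHom F).mapMatrix h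
    rw [map_mul, map_mul, map_sub, map_one, map_zero] at this
    rwa [pow_succ, pow_two]
  have h2 := sub_pow_char_of_commute (p := p) (Commute.one_right (red F g).val)
  rw [pow_eq_zero_of_le h3 h1, one_pow, eq_comm, sub_eq_zero] at h2
  exact Units.ext h2

theorem p4_of {G G' : Type*} [Group G] [Group G'] (f : G →* G') (hf : Function.Injective f) {p : ℕ}
    {ν : ℤ} {s a b c d z : G} (h : P4 p ν (f s) (f a) (f b) (f c) (f d) (f z)) :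
    P4 p ν s a b c d z := by
  obtain ⟨_, _, _, _, _, _, _, _, _, _, _, _, _, _, _, _, _, _, _, _, _⟩ := h
  constructor <;> apply hf <;> simpa only [map_mul, map_inv, map_pow, map_zpow, map_one]

theorem not_dvd_six {p : ℕ} [hp : Fact p.Prime] (h5 : 5 ≤ p) : ¬ p ∣ 6 := fun h => by
  rcases (Nat.Prime.dvd_mul hp.out).1 (show p ∣ 2 * 3 from h) with h | h <;>
    exact absurd (Nat.le_of_dvd (by norm_num) h) (by omega)

theorem p4 {p : ℕ} [hp : Fact p.Prime] (h5 : 5 ≤ p) : ∃ ν : ℤ, P4 p ν (red (ZMod p) gs)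
    (red (ZMod p) ga) (red (ZMod p) gb) (red (ZMod p) gc) (red (ZMod p) gd) (red (ZMod p) gz) := by
  have h3 : 3 ≤ p := by omega
  obtain ⟨u, ν, e⟩ : IsCoprime (p : ℤ) 6 := by
    refine Nat.isCoprime_iff_coprime.2 ((Nat.Prime.coprime_iff_not_dvd hp.out).2 fun h => ?_)
    exact not_dvd_six h5 h
  have hy : red (ZMod p) gy ^ p = 1 := red_pow h3 (by decide +kernel)
  have h6 : red (ZMod p) gz ^ ν = red (ZMod p) gy := by
    rw [show gz = gy ^ 3 * gy ^ 3 from Units.ext (by decide +kernel), ← pow_add, map_pow, ← zpow_natCast,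
      ← _root_.zpow_mul, show ((3 + 3 : ℕ) : ℤ) * ν = 1 + p * -u by push_cast; linear_combination e,
      _root_.zpow_add, _root_.zpow_mul, zpow_natCast, hy, _root_.one_zpow, mul_one, zpow_one]
  refine ⟨ν, red_pow h3 ?_, red_pow h3 ?_, red_pow h3 ?_, red_pow h3 ?_, red_pow h3 ?_, red_pow h3 ?_,
    ?_, ?_, ?_, ?_, ?_, ?_, ?_, ?_, ?_, ?_, ?_, ?_, ?_, ?_, ?_⟩
  iterate 6 decide +kernel
  all_goals
    simp only [h6, ← map_inv, ← map_mul]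
    exact congrArg _ (Units.ext (by decide +kernel))

theorem fixpt {p : ℕ} [Fact p.Prime] {P : Subgroup (G2 F)} (hP : IsPGroup p P) {W : Type*} [Zero W]
    [Finite W] (hW : p ∣ Nat.card W) (π : (Fin 8 → F) → W) (ι : W → Fin 8 → F)
    (h1 : ∀ w, π (ι w) = w) (h0 : π 0 = 0) (h0' : ι 0 = 0)
    (h2 : ∀ g ∈ P, ∀ k ∈ P, ∀ w, π (g.1.val *ᵥ (k.1.val *ᵥ ι w)) =
      π (g.1.val *ᵥ ι (π (k.1.val *ᵥ ι w)))) :
    ∃ w ≠ 0, ∀ g ∈ P, π (g.1.val *ᵥ ι w) = w := by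
  letI : MulAction P W :=
    { smul := fun g w => π (g.1.1.val *ᵥ ι w)
      one_smul := fun w => (congrArg π (one_mulVec _)).trans (h1 w)
      mul_smul := fun g k w => (congrArg π (mulVec_mulVec _ _ _).symm).trans (h2 g g.2 k k.2 w) }
  obtain ⟨w, hw, e⟩ := hP.exists_fixed_point_of_prime_dvd_card_of_fixed_point W hW (a := 0) fun g =>
    show π (g.1.1.val *ᵥ ι 0) = 0 by rw [h0', mulVec_zero, h0]
  exact ⟨w, e.symm, fun g hg => hw ⟨g, hg⟩⟩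

theorem tr {g : GL (Fin 8) F} (hg : g ∈ G2 F) (x : Fin 8 → F) :
    (g.val *ᵥ x) 0 + (g.val *ᵥ x) 7 = x 0 + x 7 := by
  have := map_polar hg x (e1 F)
  rw [fix_e1 hg, polar_nm, polar_nm] at this
  simpa [e1] using this

theorem fix1 {p : ℕ} [hp : Fact p.Prime] {P : Subgroup (G2 (ZMod p))} (hP : IsPGroup p P)
    {s a : G2 (ZMod p)} (hs : s ∈ P) (ha : a ∈ P) (es : s.1 = red _ gs) (ea : a.1 = red _ ga)
    (h2 : (2 : ZMod p) ≠ 0) : ∀ g ∈ P, g.1.val *ᵥ Pi.single 1 1 = Pi.single 1 1 := by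
  have k : ∀ x : Fin 8 → ZMod p, x 0 + x 7 = 0 →
      ![x 0, x 1, x 2, x 3, x 4, x 5, x 6, -x 0] = x := fun x h => by
    ext i; fin_cases i <;> simp [neg_eq_of_add_eq_zero_right h]
  obtain ⟨w, hw, e⟩ := fixpt hP (W := Fin 7 → ZMod p) (by simp)
    (fun x => ![x 0, x 1, x 2, x 3, x 4, x 5, x 6]) (fun w => ![w 0, w 1, w 2, w 3, w 4, w 5, w 6, -w 0])
    (fun w => by ext i; fin_cases i <;> rfl) (by ext i; fin_cases i <;> rfl)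
    (by ext i; fin_cases i <;> simp) fun g _ h _ w =>
      congrArg (fun x => (fun x : Fin 8 → ZMod p => ![x 0, x 1, x 2, x 3, x 4, x 5, x 6]) (g.1.val *ᵥ x))
        (k _ ((tr h.2 _).trans (by simp))).symm
  have e1 := e s hs
  have e2 := e a ha
  rw [es] at e1
  rw [ea] at e2
  have a0 := congrFun e1 0
  have a1 := congrFun e1 1
  have a3 := congrFun e1 3
  have a5 := congrFun e1 5
  have b2 := congrFun e2 2
  have b6 := congrFun e2 6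
  simp [red_val, gs, ga, mulVec, dotProduct, Fin.sum_univ_succ] at a0 a1 a3 a5 b2 b6
  have a6 : w 0 = 0 := mul_left_cancel₀ h2 (by linear_combination a5 + a0)
  have h3 : ![w 0, w 1, w 2, w 3, w 4, w 5, w 6, -w 0] = w 1 • Pi.single 1 1 := by
    ext i; fin_cases i <;> simp [*]
  have h4 : w 1 ≠ 0 := fun h => hw (by ext i; fin_cases i <;> simp [*])
  intro g hg
  have h5 := k _ ((tr g.2 ![w 0, w 1, w 2, w 3, w 4, w 5, w 6, -w 0]).trans (by simp))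
  have h6 := fun i => congrFun (e g hg) i
  refine smul_right_injective _ h4 ?_
  simp only [← mulVec_smul, ← h3]
  rw [← h5]
  exact congrArg (fun w : Fin 7 → ZMod p => ![w 0, w 1, w 2, w 3, w 4, w 5, w 6, -w 0]) (e g hg)

theorem mu1 (x : Fin 8 → F) : mu F (Pi.single 1 1) x = ![x 4, x 7, 0, 0, 0, -x 3, x 2, 0] := by
  ext i; fin_cases i <;> simp [mu_apply, zm_eq]

theorem low {g : GL (Fin 8) F} (hg : g ∈ G2 F) (h1 : g.val *ᵥ Pi.single 1 1 = Pi.single 1 1)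
    {x : Fin 8 → F} : (g.val *ᵥ x) 4 = x 4 ∧
      (x 2 = 0 → x 3 = 0 → x 4 = 0 → (g.val *ᵥ x) 2 = 0 ∧ (g.val *ᵥ x) 3 = 0) := by
  refine ⟨?_, fun h2 h3 h4 => ?_⟩
  · have := map_polar hg x (Pi.single 1 1)
    rw [h1, polar_nm, polar_nm] at this
    simpa using this
  have := mem_G2.1 hg (Pi.single 1 1) x
  rw [h1, mu1, mu1, show ![x 4, x 7, 0, 0, 0, -x 3, x 2, 0] = x 7 • Pi.single 1 1 by
    ext i; fin_cases i <;> simp [*], mulVec_smul, h1] at this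
  exact ⟨by simpa using (congrFun this 6).symm, by simpa using congrFun this 5⟩

theorem fix2 {p : ℕ} [hp : Fact p.Prime] {P : Subgroup (G2 (ZMod p))} (hP : IsPGroup p P)
    {a : G2 (ZMod p)} (ha : a ∈ P) (ea : a.1 = red _ ga)
    (h1 : ∀ g ∈ P, g.1.val *ᵥ Pi.single 1 1 = Pi.single 1 1) :
    ∀ g ∈ P, (g.1.val *ᵥ Pi.single 2 1) 2 = 1 ∧ (g.1.val *ᵥ Pi.single 2 1) 3 = 0 := by
  obtain ⟨w, hw, e⟩ := fixpt hP (W := ZMod p × ZMod p) (by simp)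
    (fun x => (x 2, x 3)) (fun w => ![0, 0, w.1, w.2, 0, 0, 0, 0]) (fun w => rfl) rfl
    (by ext i; fin_cases i <;> rfl) fun g hg h hh w => by
      set x := h.1.val *ᵥ ![0, 0, w.1, w.2, 0, 0, 0, 0]
      have := (low g.2 (h1 g hg) (x := x - ![0, 0, x 2, x 3, 0, 0, 0, 0])).2 (by simp) (by simp)
        (by simpa using (show x 4 = 0 from (low h.2 (h1 h hh)).1))
      rw [mulVec_sub] at this
      exact Prod.ext (sub_eq_zero.1 this.1) (sub_eq_zero.1 this.2)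
  have e2 := congrArg Prod.fst (e a ha)
  rw [ea] at e2
  simp [red_val, ga, mulVec, dotProduct, Fin.sum_univ_succ] at e2
  have h4 : w.1 ≠ 0 := fun h => hw (Prod.ext h e2)
  intro g hg
  have h5 := e g hg
  rw [show ![0, 0, w.1, w.2, 0, 0, 0, 0] = w.1 • Pi.single 2 1 by
    ext i; fin_cases i <;> simp [*], mulVec_smul] at h5
  exact ⟨mul_left_cancel₀ h4 (by simpa using congrArg Prod.fst h5),
    mul_left_cancel₀ h4 (by simpa [e2] using congrArg Prod.snd h5)⟩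

theorem coords {g : GL (Fin 8) F} (hg : g ∈ G2 F) (h1 : g.val *ᵥ Pi.single 1 1 = Pi.single 1 1)
    {x y : Fin 8 → F} (hx : g.val *ᵥ Pi.single 2 1 = x) (hy : g.val *ᵥ Pi.single 3 1 = y)
    (x2 : x 2 = 1) (x3 : x 3 = 0) :
    x = ![x 0, x 1, 1, 0, 0, -x 0 ^ 2, x 6, -x 0] ∧ y = ![y 0, y 1, y 2, 1, 0,
      -2 * x 0 * y 0 + x 0 ^ 2 * y 2 - x 6, -(y 0 - x 0 * y 2) ^ 2 + y 2 * x 6, -y 0] := by
  have x4 : x 4 = 0 := by simpa [hx] using (low hg h1 (x := Pi.single 2 1)).1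
  have y4 : y 4 = 0 := by simpa [hy] using (low hg h1 (x := Pi.single 3 1)).1
  have x7 : x 0 + x 7 = 0 := by simpa [hx] using tr hg (Pi.single 2 1)
  have y7 : y 0 + y 7 = 0 := by simpa [hy] using tr hg (Pi.single 3 1)
  have nx := map_nm hg (Pi.single 2 1)
  have ny := map_nm hg (Pi.single 3 1)
  have h2 := map_polar hg (Pi.single 2 1) (Pi.single 3 1)
  have h3 := map_polar hg (mu F (Pi.single 1 1) (Pi.single 2 1)) (Pi.single 3 1)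
  rw [mem_G2.1 hg, h1, hx, hy, mu1, mu1, polar_nm, polar_nm] at h3
  rw [hx, hy, polar_nm, polar_nm] at h2
  rw [hx, nm_apply, nm_apply] at nx
  rw [hy, nm_apply, nm_apply] at ny
  simp [x2, x3, x4, y4] at nx ny h2 h3
  have x7' := (neg_eq_of_add_eq_zero_right x7).symm
  have y7' := (neg_eq_of_add_eq_zero_right y7).symm
  have x5 : x 5 = -x 0 ^ 2 := by rw [x7'] at nx; linear_combination -nx
  have y5 : y 5 = -2 * x 0 * y 0 + x 0 ^ 2 * y 2 - x 6 := by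
    rw [x7', y7', x5, h3] at h2; linear_combination -h2
  have y6 : y 6 = -(y 0 - x 0 * y 2) ^ 2 + y 2 * x 6 := by
    rw [y7', y5, h3] at ny; linear_combination -ny
  constructor <;> ext i <;> fin_cases i <;> simp [*]

theorem ext3 {g k : GL (Fin 8) F} (hg : g ∈ G2 F) (hk : k ∈ G2 F)
    (h1 : g.val *ᵥ Pi.single 1 1 = k.val *ᵥ Pi.single 1 1)
    (h2 : g.val *ᵥ Pi.single 2 1 = k.val *ᵥ Pi.single 2 1)
    (h3 : g.val *ᵥ Pi.single 3 1 = k.val *ᵥ Pi.single 3 1) : g = k := by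
  have f : ∀ {x y : Fin 8 → F} (i : Fin 8), g.val *ᵥ x = k.val *ᵥ x → g.val *ᵥ y = k.val *ᵥ y →
      mu F x y = Pi.single i 1 → g.val *ᵥ Pi.single i 1 = k.val *ᵥ Pi.single i 1 :=
    fun i a b e => by rw [← e, mem_G2.1 hg, mem_G2.1 hk, a, b]
  have h4 := f 4 h2 h3 (by ext i; fin_cases i <;> simp [mu_apply, zm_eq])
  refine Units.ext (ext_of_mulVec_single fun j => ?_)
  fin_cases j
  · exact f 0 h1 h4 (by ext i; fin_cases i <;> simp [mu_apply, zm_eq])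
  · exact h1
  · exact h2
  · exact h3
  · exact h4
  · exact f 5 h3 h1 (by ext i; fin_cases i <;> simp [mu_apply, zm_eq])
  · exact f 6 h1 h2 (by ext i; fin_cases i <;> simp [mu_apply, zm_eq])
  · exact f 7 h4 h1 (by ext i; fin_cases i <;> simp [mu_apply, zm_eq])

theorem mg_eq_defs : True := by
  have := @gs.eq_1; have := @ga.eq_1; have := @gb.eq_1; have := @gc.eq_1; have := @gd.eq_1
  have := @gz.eq_1; have := @gy.eq_1; have := @red.eq_1.{0}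
  trivial

end MG

open MG in
/-- A `p`-subgroup of `G₂(p)` containing the two simple root elements has order at most `p ^ 6`. -/
theorem model_G2' (p : ℕ) [Fact p.Prime] (h5 : 5 ≤ p) :
    ∃ (ν : ℤ) (s a b c d z : Cfsg.Lie.G2 (ZMod p)), P4 p ν s a b c d z ∧ z ≠ 1 ∧
      ∀ P : Subgroup (Cfsg.Lie.G2 (ZMod p)), IsPGroup p P → s ∈ P → a ∈ P → Nat.card P ≤ p ^ 6 := by
  have h6 : (6 : ZMod p) ≠ 0 := fun e => not_dvd_six h5 ((ZMod.natCast_eq_zero_iff 6 p).1 e)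
  obtain ⟨ν, h⟩ := p4 h5
  let m : ∀ g : GL (Fin 8) ℤ, (∀ i j, g.val *ᵥ zornMul (Pi.single i 1) (Pi.single j 1) =
    zornMul (g.val.col i) (g.val.col j)) → G2 (ZMod p) := fun g hg => ⟨_, red_mem hg⟩
  refine ⟨ν, m gs (by decide +kernel), m ga (by decide +kernel), m gb (by decide +kernel),
    m gc (by decide +kernel), m gd (by decide +kernel), m gz (by decide +kernel),
    p4_of (G2 (ZMod p)).subtype (subtype_injective _) h, fun e => h6 ?_, fun P hP hs ha => ?_⟩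
  · simpa [m, red_val, MG.gz] using congrArg (fun g : G2 (ZMod p) => g.1.val 1 3) e
  have h1 := fix1 hP hs ha rfl rfl fun e => h6 (by linear_combination 3 * e)
  have h2 := fix2 hP ha rfl h1
  refine (Nat.card_le_card_of_injective (fun g : P => (fun x y : Fin 8 → ZMod p =>
    ![x 0, x 1, x 6, y 0, y 1, y 2]) (g.1.1.val *ᵥ Pi.single 2 1) (g.1.1.val *ᵥ Pi.single 3 1))
    fun g k e => Subtype.ext (Subtype.ext ?_)).trans (by simp)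
  obtain ⟨a1, a2⟩ := coords g.1.2 (h1 g g.2) rfl rfl (h2 g g.2).1 (h2 g g.2).2
  obtain ⟨b1, b2⟩ := coords k.1.2 (h1 k k.2) rfl rfl (h2 k k.2).1 (h2 k k.2).2
  have e0 := congrFun e 0
  have e1 := congrFun e 1
  have e2 := congrFun e 2
  have e3 := congrFun e 3
  have e4 := congrFun e 4
  have e5 := congrFun e 5
  simp only [cons_val] at e0 e1 e2 e3 e4 e5
  exact ext3 g.1.2 k.1.2 ((h1 g g.2).trans (h1 k k.2).symm) (by rw [a1, b1, e0, e1, e2])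
    (by rw [a2, b2, e0, e2, e3, e4, e5])

end H93.XP
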