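import Cfsg.Agent.Lib.XP.Bas1
import Cfsg.Agent.Lib.XP.SL2
import Cfsg.Agent.Lib.PGroup.Basic

set_option autoImplicit false

namespace H93.XP

open Subgroup H93.QW

variable {Γ Γ' : Type*} [Group Γ] [Finite Γ] [Group Γ'] [Finite Γ'] {p : ℕ} [hp : Fact p.Prime]

theorem pc_step {l : Set Γ} {x : Γ} {n : ℕ} (hc : Nat.card (Subgroup.closure l) = p ^ n) (hx : x ^ p = 1)
    (hn : ∀ y ∈ l, x * y * x⁻¹ ∈ Subgroup.closure l) (hx' : x ∉ Subgroup.closure l) :
    Nat.card (Subgroup.closure (insert x l)) = p ^ (n + 1) := by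
  have h : Cj x (Subgroup.closure l) (Subgroup.closure l) := fun u hu =>
    (closure_le ((Subgroup.closure l).comap (MulAut.conj x).toMonoidHom)).2 hn hu
  rw [Set.insert_eq, Subgroup.closure_union, ← zpowers_eq_closure, sup_comm, H5.card_sup_zpowers hp.out
    (mem_normalizer_iff.2 fun u => ⟨h u, fun hu => by simpa [mul_assoc] using h.inv _ hu⟩) hx'
    (hx ▸ one_mem _), hc, pow_succ]

theorem pc_zero {z : Γ} (zp : z ^ p = 1) (hz : z ≠ 1) : Nat.card (Subgroup.closure {z}) = p ^ 1 := by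
  rw [← zpowers_eq_closure, Nat.card_zpowers, orderOf_eq_prime zp hz, pow_one]

omit [Finite Γ] in
theorem pc_cen {l : Set Γ} {v x y : Γ} (h : ∀ y ∈ l, v * y = y * v) (e : v * x * v⁻¹ = x * y) (hy : y ≠ 1) :
    x ∉ Subgroup.closure l := fun hx => by
  have : x ∈ centralizer {v} :=
    (closure_le _).2 (fun y hy => mem_centralizer_singleton_iff.2 (h y hy).symm) hx
  rw [← mem_centralizer_singleton_iff.1 this, mul_inv_cancel_right] at e
  exact hy (left_eq_mul.1 e)

omit [Finite Γ] in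
theorem pc_cen' {l : Set Γ} {v x y : Γ} (h : ∀ y ∈ l, v * y = y * v) (e : x * v * x⁻¹ = v * y) (hy : y ≠ 1) :
    x ∉ Subgroup.closure l := fun hx => by
  have : x ∈ centralizer {v} :=
    (closure_le _).2 (fun y hy => mem_centralizer_singleton_iff.2 (h y hy).symm) hx
  rw [mem_centralizer_singleton_iff.1 this, mul_inv_cancel_right] at e
  exact hy (left_eq_mul.1 e)

omit [Finite Γ] in
theorem pc_mod {l : Set Γ} {v z : Γ} (hz : ∀ y ∈ l, y * z = z * y)
    (h : ∀ y ∈ l, y⁻¹ * v * y * v⁻¹ ∈ zpowers z) {x : Γ} (hx : x ∈ Subgroup.closure l) :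
    x⁻¹ * v * x * v⁻¹ ∈ zpowers z := by
  refine (closure_induction (p := fun x _ => Commute x z ∧ x⁻¹ * v * x * v⁻¹ ∈ zpowers z)
    (fun y hy => ⟨hz y hy, h y hy⟩) ⟨Commute.one_left z, by simp⟩ ?_ ?_ hx).2
  · rintro x y - - ⟨c1, i, e1⟩ ⟨c2, e2⟩
    refine ⟨c1.mul_left c2, ?_⟩
    have : (x * y)⁻¹ * v * (x * y) * v⁻¹ = y⁻¹ * ((x⁻¹ * v * x * v⁻¹) * y) * (y⁻¹ * v * y * v⁻¹) := by group
    rw [this, ← e1, ← (c2.zpow_right i).eq, inv_mul_cancel_left]
    exact mul_mem (zpow_mem_zpowers z i) e2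
  · rintro x - ⟨c1, i, e1⟩
    refine ⟨c1.inv_left, ?_⟩
    have : x⁻¹⁻¹ * v * x⁻¹ * v⁻¹ = x * (x⁻¹ * v * x * v⁻¹)⁻¹ * x⁻¹ := by group
    rw [this, ← e1, (c1.zpow_right i).inv_right.eq, mul_inv_cancel_right]
    exact inv_mem (zpow_mem_zpowers z i)

theorem pc_iso {K : Subgroup (Γ × Γ')} {H : Subgroup Γ} {H' : Subgroup Γ'}
    (h1 : K.map (MonoidHom.fst Γ Γ') = H) (h2 : K.map (MonoidHom.snd Γ Γ') = H')
    (c1 : Nat.card K = Nat.card H) (c2 : Nat.card K = Nat.card H') : Nonempty (H ≃* H') := by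
  subst h1 h2
  exact ⟨(MulEquiv.ofBijective _ (((MonoidHom.fst Γ Γ').subgroupMap_surjective K).bijective_of_nat_card_le
    c1.le)).symm.trans (MulEquiv.ofBijective _
      (((MonoidHom.snd Γ Γ').subgroupMap_surjective K).bijective_of_nat_card_le c2.le))⟩

omit [Finite Γ] in
theorem pc_fix {x y : Γ} {H : Subgroup Γ} (c : x * y = y * x) (hy : y ∈ H) : x * y * x⁻¹ ∈ H := by
  rwa [c, mul_inv_cancel_right]

theorem P2.card {e : ℤ} {s v w a b z : Γ} (h : P2 p e s v w a b z) (he : ¬ (p : ℤ) ∣ e) (hz : z ≠ 1) :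
    Nat.card (Subgroup.closure {s, v, w}) = p ^ 6 := by
  have ze : z ^ e ≠ 1 := fun e1 => by
    obtain ⟨j, hj⟩ := root h.zp he
    exact hz (by rw [← hj, e1, one_zpow])
  have n1 : a ∉ Subgroup.closure {z} := pc_cen (by simpa using h.vz) h.va hz
  have c1 := pc_step (pc_zero h.zp hz) h.ap
    (by rintro _ rfl; exact pc_fix h.az (subset_closure (by simp))) n1
  have c2 := pc_step c1 h.bp (by
    rintro _ (rfl | rfl)
    exacts [pc_fix h.ab.symm (subset_closure (by simp)), pc_fix h.bz (subset_closure (by simp))])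
    (pc_cen (by simpa using ⟨h.wa, h.wz⟩) h.wb ze)
  have c3 := pc_step c2 h.sp (by
    rintro _ (rfl | rfl | rfl)
    exacts [pc_fix h.sb (subset_closure (by simp)), pc_fix h.sa (subset_closure (by simp)),
      pc_fix h.sz (subset_closure (by simp))]) fun hs => n1 (by
    have := pc_mod (v := v) (z := z) (by simpa using ⟨h.bz, h.az⟩) (by
      rintro _ (rfl | rfl | rfl)
      · rw [mul_assoc _ v, h.vb]; simp
      · rw [mul_assoc, mul_assoc, ← mul_assoc v, h.va]; simp
      · rw [mul_assoc _ v, h.vz]; simp) hs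
    rwa [mul_assoc, mul_assoc, ← mul_assoc v, h.vs, inv_mul_cancel_left, zpowers_eq_closure] at this)
  have c4 := pc_step c3 h.vp (by
    rintro _ (rfl | rfl | rfl | rfl)
    exacts [h.vs ▸ mul_mem (subset_closure (by simp)) (subset_closure (by simp)),
      pc_fix h.vb (subset_closure (by simp)),
      h.va ▸ mul_mem (subset_closure (by simp)) (subset_closure (by simp)),
      pc_fix h.vz (subset_closure (by simp))])
    (pc_cen' (by simpa using ⟨h.sa.symm, h.ab, h.az⟩) h.va hz)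
  have c5 := pc_step c4 h.wp (by
    rintro _ (rfl | rfl | rfl | rfl | rfl)
    exacts [pc_fix h.vw.symm (subset_closure (by simp)),
      h.ws ▸ mul_mem (subset_closure (by simp)) (subset_closure (by simp)),
      h.wb ▸ mul_mem (subset_closure (by simp)) (zpow_mem (subset_closure (by simp)) _),
      pc_fix h.wa (subset_closure (by simp)), pc_fix h.wz (subset_closure (by simp))])
    (pc_cen' (by simpa using ⟨h.vb.symm, h.sb.symm, h.ab.symm, h.bz⟩) h.wb ze)
  rw [← c5]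
  congr 3
  refine le_antisymm (Subgroup.closure_mono (by intro x; simp; tauto)) ((closure_le _).2 ?_)
  have hs : s ∈ Subgroup.closure ({s, v, w} : Set Γ) := subset_closure (by simp)
  have hv : v ∈ Subgroup.closure ({s, v, w} : Set Γ) := subset_closure (by simp)
  have hw : w ∈ Subgroup.closure ({s, v, w} : Set Γ) := subset_closure (by simp)
  have ha := (mul_mem_cancel_left hs).1 (h.vs ▸ mul_mem (mul_mem hv hs) (inv_mem hv))
  have hb := (mul_mem_cancel_left hs).1 (h.ws ▸ mul_mem (mul_mem hw hs) (inv_mem hw))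
  have hz := (mul_mem_cancel_left ha).1 (h.va ▸ mul_mem (mul_mem hv ha) (inv_mem hv))
  rintro _ (rfl | rfl | rfl | rfl | rfl | rfl) <;> assumption

theorem P2.iso {e : ℤ} {s v w a b z : Γ} (h : P2 p e s v w a b z) (he : ¬ (p : ℤ) ∣ e) (hz : z ≠ 1)
    {s' v' w' a' b' z' : Γ'} (h' : P2 p e s' v' w' a' b' z') (hz' : z' ≠ 1) :
    Nonempty (Subgroup.closure {s, v, w} ≃* Subgroup.closure {s', v', w'}) := by
  have k : P2 p e (s, s') (v, v') (w, w') (a, a') (b, b') (z, z') :=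
    ⟨Prod.ext h.sp h'.sp, Prod.ext h.vp h'.vp, Prod.ext h.wp h'.wp, Prod.ext h.ap h'.ap,
      Prod.ext h.bp h'.bp, Prod.ext h.zp h'.zp, Prod.ext h.sz h'.sz, Prod.ext h.vz h'.vz,
      Prod.ext h.wz h'.wz, Prod.ext h.az h'.az, Prod.ext h.bz h'.bz, Prod.ext h.sa h'.sa,
      Prod.ext h.sb h'.sb, Prod.ext h.ab h'.ab, Prod.ext h.vw h'.vw, Prod.ext h.vs h'.vs,
      Prod.ext h.ws h'.ws, Prod.ext h.va h'.va, Prod.ext h.vb h'.vb, Prod.ext h.wa h'.wa,
      Prod.ext h.wb h'.wb⟩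
  have c := k.card he fun e => hz (congrArg Prod.fst e)
  refine pc_iso ?_ ?_ (c.trans (h.card he hz).symm) (c.trans (h'.card he hz').symm) <;>
    simp [MonoidHom.map_closure, Set.image_insert_eq]

omit [Finite Γ] in
theorem pc_conj_pow {w b y : Γ} (wy : w * y = y * w) (e : w * b * w⁻¹ = b * y) (n : ℕ) :
    w ^ n * b * (w ^ n)⁻¹ = b * y ^ n := by
  induction n with
  | zero => simp
  | succ n ih =>
    calc _ = w * (w ^ n * b * (w ^ n)⁻¹) * w⁻¹ := by rw [pow_succ']; group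
      _ = w * b * w⁻¹ * (w * y ^ n * w⁻¹) := by rw [ih]; group
      _ = _ := by rw [e, (Commute.pow_right wy n).eq, mul_inv_cancel_right, mul_assoc, ← pow_succ']

omit [Finite Γ] in
theorem P2.scale {e e' k : ℤ} {s v w a b z : Γ} (h : P2 p e s v w a b z) (hk : ¬ (p : ℤ) ∣ k)
    (he : (p : ℤ) ∣ e' - e * k ^ 2) :
    ∃ w' b', P2 p e' s v w' a b' z ∧ Subgroup.closure {s, v, w'} = Subgroup.closure {s, v, w} := by
  obtain ⟨n, hn⟩ := sl2_nat (p := p) (l := 1) (by exact_mod_cast hp.out.not_dvd_one) k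
  have wz : Commute w z := h.wz
  have bz : Commute b z := h.bz
  have e1 := pc_conj_pow (wz.zpow_right e) h.wb
  have e2 : ∀ m : ℕ, ∃ j : ℤ, w ^ m * s * (w ^ m)⁻¹ = s * (b ^ m * z ^ j) := fun m => by
    induction m with
    | zero => exact ⟨0, by simp⟩
    | succ m ih =>
      obtain ⟨j, ih⟩ := ih
      refine ⟨e * m + j, ?_⟩
      calc _ = w * (w ^ m * s * (w ^ m)⁻¹) * w⁻¹ := by rw [pow_succ']; group
        _ = w * s * w⁻¹ * (w * b * w⁻¹) ^ m * (w * z ^ j * w⁻¹) := by rw [ih, conj_pow]; group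
        _ = _ := by
          rw [h.ws, h.wb, (wz.zpow_right j).eq, mul_inv_cancel_right, (bz.zpow_right e).mul_pow,
            ← zpow_natCast (z ^ e), ← zpow_mul, zpow_add, pow_succ']
          simp only [mul_assoc]
  obtain ⟨j, e2⟩ := e2 n
  have cb : ∀ {x}, Commute x b → Commute x z → Commute x (b ^ n * z ^ j) := fun c1 c2 =>
    (c1.pow_right n).mul_right (c2.zpow_right j)
  refine ⟨w ^ n, b ^ n * z ^ j, ⟨h.sp, h.vp, ?_, h.ap, ?_, h.zp, h.sz, h.vz, wz.pow_left n, h.az,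
    (cb bz.symm rfl).symm, h.sa, cb h.sb h.sz, cb h.ab h.az, Commute.pow_right h.vw n, h.vs, e2, h.va,
    cb h.vb h.vz, Commute.pow_left h.wa n, ?_⟩, ?_⟩
  · rw [← pow_mul, mul_comm, pow_mul, h.wp, one_pow]
  · rw [((bz.pow_left n).zpow_right j).mul_pow, ← pow_mul, mul_comm n, pow_mul, h.bp, one_pow, one_mul,
      ← zpow_natCast, ← zpow_mul, mul_comm, zpow_mul, zpow_natCast, h.zp, one_zpow]
  · rw [← conj_mul, ← conj_pow, e1, ((wz.pow_left n).zpow_right j).eq, mul_inv_cancel_right,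
      ((bz.zpow_right e).pow_right n).mul_pow, ← pow_mul, ← zpow_natCast (z ^ e), ← zpow_mul, mul_assoc,
      mul_assoc, ← zpow_add, ← zpow_add]
    congr 1
    have := (ZMod.intCast_zmod_eq_zero_iff_dvd _ p).2 he
    refine sl2_congr h.zp ?_
    push_cast at hn this ⊢
    rw [one_mul] at hn
    rw [hn]
    linear_combination -this
  · have e3 : w ^ n = w ^ k := by
      rw [← zpow_natCast]; exact sl2_congr h.wp (by simpa using hn)
    obtain ⟨i, hi⟩ := root h.wp hk
    rw [e3]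
    refine le_antisymm ((closure_le _).2 ?_) ((closure_le _).2 ?_) <;> rintro _ (rfl | rfl | rfl)
    exacts [subset_closure (by simp), subset_closure (by simp), zpow_mem (subset_closure (by simp)) _,
      subset_closure (by simp), subset_closure (by simp), by
        nth_rw 2 [← hi]; exact zpow_mem (subset_closure (by simp)) _]

omit [Finite Γ] hp in
theorem P4.pc_mem {ν : ℤ} {s a b c d z : Γ} (h : P4 p ν s a b c d z) {H : Subgroup Γ} (hs : s ∈ H)
    (ha : a ∈ H) : b ∈ H ∧ c ∈ H ∧ d ∈ H ∧ z ∈ H := by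
  have hb := (mul_mem_cancel_right ha).1 (h.sa ▸ mul_mem (mul_mem (inv_mem hs) ha) hs)
  have hc := (mul_mem_cancel_right hb).1 (h.sb ▸ mul_mem (mul_mem (inv_mem hs) hb) hs)
  have hd := (mul_mem_cancel_right hc).1 (h.sc ▸ mul_mem (mul_mem (inv_mem hs) hc) hs)
  exact ⟨hb, hc, hd, (mul_mem_cancel_left hd).1 (h.ad ▸ mul_mem (mul_mem ha hd) (inv_mem ha))⟩

theorem P4.card {ν : ℤ} {s a b c d z : Γ} (h : P4 p ν s a b c d z) (hz : z ≠ 1) :
    Nat.card (Subgroup.closure {s, a}) = p ^ 6 := by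
  have n1 : d ∉ Subgroup.closure {z} := pc_cen (by simpa using h.az) h.ad hz
  have c1 := pc_step (pc_zero h.zp hz) h.dp
    (by rintro _ rfl; exact pc_fix h.dz (subset_closure (by simp))) n1
  have c2 := pc_step c1 h.cp (by
    rintro _ (rfl | rfl)
    exacts [pc_fix h.cd (subset_closure (by simp)), pc_fix h.cz (subset_closure (by simp))])
    (pc_cen (by simpa using ⟨h.bd, h.bz⟩) h.bc (inv_ne_one.2 hz))
  have c3 := pc_step c2 h.bp (by
    rintro _ (rfl | rfl | rfl)
    exacts [h.bc ▸ mul_mem (subset_closure (by simp)) (inv_mem (subset_closure (by simp))),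
      pc_fix h.bd (subset_closure (by simp)), pc_fix h.bz (subset_closure (by simp))])
    (pc_cen' (by simpa using ⟨h.cd, h.cz⟩) h.bc (inv_ne_one.2 hz))
  have c4 := pc_step c3 h.ap (by
    rintro _ (rfl | rfl | rfl | rfl)
    exacts [h.ab ▸ mul_mem (subset_closure (by simp)) (zpow_mem (subset_closure (by simp)) _),
      h.ac ▸ mul_mem (subset_closure (by simp)) (subset_closure (by simp)),
      h.ad ▸ mul_mem (subset_closure (by simp)) (subset_closure (by simp)),
      pc_fix h.az (subset_closure (by simp))])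
    (pc_cen' (by simpa using ⟨h.bd.symm, h.cd.symm, h.dz⟩) h.ad hz)
  have c5 := pc_step c4 (x := s⁻¹) (by rw [inv_pow, h.sp, inv_one]) (by
    rw [inv_inv]
    rintro _ (rfl | rfl | rfl | rfl | rfl)
    exacts [h.sa ▸ mul_mem (subset_closure (by simp)) (subset_closure (by simp)),
      h.sb ▸ mul_mem (subset_closure (by simp)) (subset_closure (by simp)),
      h.sc ▸ mul_mem (subset_closure (by simp)) (subset_closure (by simp)),
      by rw [mul_assoc, ← h.sd, inv_mul_cancel_left]; exact subset_closure (by simp),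
      by rw [mul_assoc, ← h.sz, inv_mul_cancel_left]; exact subset_closure (by simp)])
    fun hs => n1 (by
    have := pc_mod (v := c) (z := z) (by simpa using ⟨h.az, h.bz, h.cz, h.dz⟩) (by
      rintro _ (rfl | rfl | rfl | rfl | rfl)
      · rename_i a
        rw [show a⁻¹ * c * a * c⁻¹ = a⁻¹ * (c * z * (z⁻¹ * a)) * c⁻¹ by group, ← h.ac,
          ← (Commute.inv_right h.az).eq, show a⁻¹ * (a * c * a⁻¹ * (a * z⁻¹)) * c⁻¹ = c * z⁻¹ * c⁻¹ by group,
          (Commute.inv_right h.cz).eq]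
        simp
      · rename_i b
        rw [show b⁻¹ * c * b * c⁻¹ = b⁻¹ * (c * z⁻¹ * (z * b)) * c⁻¹ by group, ← h.bc, ← h.bz,
          show b⁻¹ * (b * c * b⁻¹ * (b * z)) * c⁻¹ = c * z * c⁻¹ by group, h.cz]
        simp
      · simp
      · rw [mul_assoc _ c, h.cd]; simp
      · rw [mul_assoc _ c, h.cz]; simp) (inv_mem_iff.1 hs)
    rwa [h.sc, mul_inv_cancel_right, zpowers_eq_closure] at this)
  rw [← c5]
  congr 3
  have hs : s ∈ Subgroup.closure ({s, a} : Set Γ) := subset_closure (by simp)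
  have ha : a ∈ Subgroup.closure ({s, a} : Set Γ) := subset_closure (by simp)
  obtain ⟨hb, hc, hd, hz⟩ := h.pc_mem hs ha
  have hs' := inv_mem hs
  refine le_antisymm ((closure_le _).2 ?_) ((closure_le _).2 ?_)
  · rintro _ (rfl | rfl)
    exacts [inv_mem_iff.1 (subset_closure (by simp)), subset_closure (by simp)]
  · rintro _ (rfl | rfl | rfl | rfl | rfl | rfl) <;> assumption

theorem P4.iso {ν : ℤ} {s a b c d z : Γ} (h : P4 p ν s a b c d z) (hz : z ≠ 1)
    {s' a' b' c' d' z' : Γ'} (h' : P4 p ν s' a' b' c' d' z') (hz' : z' ≠ 1) :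
    Nonempty (Subgroup.closure {s, a} ≃* Subgroup.closure {s', a'}) := by
  have k : P4 p ν (s, s') (a, a') (b, b') (c, c') (d, d') (z, z') :=
    ⟨Prod.ext h.sp h'.sp, Prod.ext h.ap h'.ap, Prod.ext h.bp h'.bp, Prod.ext h.cp h'.cp,
      Prod.ext h.dp h'.dp, Prod.ext h.zp h'.zp, Prod.ext h.sz h'.sz, Prod.ext h.az h'.az,
      Prod.ext h.bz h'.bz, Prod.ext h.cz h'.cz, Prod.ext h.dz h'.dz, Prod.ext h.sa h'.sa,
      Prod.ext h.sb h'.sb, Prod.ext h.sc h'.sc, Prod.ext h.sd h'.sd, Prod.ext h.ab h'.ab,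
      Prod.ext h.ac h'.ac, Prod.ext h.ad h'.ad, Prod.ext h.bc h'.bc, Prod.ext h.bd h'.bd,
      Prod.ext h.cd h'.cd⟩
  have c := k.card fun e => hz (congrArg Prod.fst e)
  refine pc_iso ?_ ?_ (c.trans (h.card hz).symm) (c.trans (h'.card hz').symm) <;>
    simp [MonoidHom.map_closure, Set.image_insert_eq]

omit [Finite Γ] in
theorem pc_mul_pow {x y w : Γ} (xw : Commute x w) (yw : Commute y w) (e : y * x * y⁻¹ = x * w) (n : ℕ) :
    (x * y) ^ n = x ^ n * y ^ n * w ^ n.choose 2 := by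
  induction n with
  | zero => simp
  | succ n ih =>
    have e1 := mul_inv_eq_iff_eq_mul.1 (pc_conj_pow yw e n)
    rw [pow_succ, ih, Nat.choose_succ_succ' n 1, Nat.choose_one_right, pow_add w, mul_assoc,
      ← ((xw.mul_left yw).pow_right _).eq]
    calc _ = x ^ n * (y ^ n * x) * y * w ^ n.choose 2 := by simp only [mul_assoc]
      _ = x ^ n * x * (w ^ n * (y ^ n * y)) * w ^ n.choose 2 := by rw [e1]; simp only [mul_assoc]
      _ = _ := by
        rw [← pow_succ, ← pow_succ, ← (yw.pow_pow (n + 1) n).eq]; simp only [mul_assoc]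

theorem P4.norm (h2 : p ≠ 2) {ν : ℤ} {s a b c d z : Γ} (h : P4 p ν s a b c d z) (hz : z ≠ 1) :
    ∃ a' b' c' d', P4 p 0 s a' b' c' d' z ∧ Subgroup.closure {s, a'} = Subgroup.closure {s, a} := by
  obtain ⟨n, hn⟩ := sl2_nat (p := p) (l := 2) (fun e => h2 ((Nat.prime_dvd_prime_iff_eq hp.out
    Nat.prime_two).1 (by exact_mod_cast e))) (-ν)
  have az : Commute a z := h.az
  have bz : Commute b z := h.bz
  have cz : Commute c z := h.cz
  have dz : Commute d z := h.dz
  have cd : Commute c d := h.cd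
  have bd : Commute b d := h.bd
  have pp : ∀ {x : Γ}, x ^ p = 1 → (x ^ n) ^ p = 1 := fun e => by
    rw [← pow_mul, mul_comm, pow_mul, e, one_pow]
  have ca : c * a * c⁻¹ = a * z⁻¹ := by
    rw [show c * a * c⁻¹ = c * z * (z⁻¹ * a) * c⁻¹ by group, ← h.ac, ← az.inv_right.eq,
      show a * c * a⁻¹ * (a * z⁻¹) * c⁻¹ = a * (c * z⁻¹) * c⁻¹ by group, cz.inv_right.eq]
    group
  have cb : c * b * c⁻¹ = b * z := by
    rw [show c * b * c⁻¹ = c * z⁻¹ * (z * b) * c⁻¹ by group, ← h.bc, ← h.bz,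
      show b * c * b⁻¹ * (b * z) * c⁻¹ = b * (c * z) * c⁻¹ by group, h.cz]
    group
  have adn : a * d ^ n * a⁻¹ = d ^ n * z ^ n := by rw [← conj_pow, h.ad, dz.mul_pow]
  have cy : ∀ {x}, Commute x d → Commute x z → Commute x (d ^ n * z ^ n) := fun c1 c2 =>
    (c1.pow_right n).mul_right (c2.pow_right n)
  have k : P4 p 0 s (a * c ^ n) (b * (d ^ n * z ^ n)) c d z := by
    refine ⟨h.sp, ?_, ?_, h.cp, h.dp, h.zp, h.sz, az.mul_left (cz.pow_left n),
      bz.mul_left (cy dz.symm rfl).symm, h.cz, h.dz, ?_, ?_, h.sc, h.sd, ?_, ?_, ?_, ?_,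
      bd.mul_left (cy rfl dz).symm, h.cd⟩
    · obtain ⟨m, hm⟩ := hp.out.dvd_choose_self two_ne_zero (lt_of_le_of_ne hp.out.two_le h2.symm)
      rw [pc_mul_pow (az.inv_right.pow_right n) (cz.inv_right.pow_pow n n)
        (pc_conj_pow cz.inv_right ca n), h.ap, pp h.cp, hm, pow_mul, pp (by rw [inv_pow, h.zp, inv_one])]
      simp
    · rw [(cy bd bz).mul_pow, (dz.pow_pow n n).mul_pow, h.bp, pp h.dp, pp h.zp]; simp
    · calc _ = s⁻¹ * a * s * (s⁻¹ * c * s⁻¹⁻¹) ^ n := by rw [conj_pow]; group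
        _ = b * (a * d ^ n * a⁻¹) * (a * c ^ n) := by rw [inv_inv, h.sa, h.sc, cd.symm.mul_pow]; group
        _ = _ := by rw [adn]
    · calc _ = s⁻¹ * b * s * (s⁻¹ * ((d ^ n * z ^ n) * s)) := by group
        _ = _ := by rw [h.sb, ← (cy h.sd h.sz).eq]; group
    · calc _ = a * (c ^ n * b * (c ^ n)⁻¹ * (c ^ n * (d ^ n * z ^ n) * (c ^ n)⁻¹)) * a⁻¹ := by group
        _ = a * b * a⁻¹ * (a * z ^ n * a⁻¹) * (a * d ^ n * a⁻¹) * (a * z ^ n * a⁻¹) := by
          rw [pc_conj_pow cz cb, ((cy cd cz).pow_left n).eq]; group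
        _ = b * (z ^ ν * z ^ n * d ^ n) * z ^ n * z ^ n := by
          rw [h.ab, adn, (az.pow_right n).eq, mul_inv_cancel_right]; simp only [mul_assoc]
        _ = b * (d ^ n * z ^ n) * (z ^ ν * z ^ n * z ^ n) := by
          rw [← (((dz.zpow_right ν).mul_right (dz.pow_right n)).pow_left n).eq]; group
        _ = _ := by
          rw [← zpow_natCast z n, ← zpow_add, ← zpow_add]
          congr 1
          refine sl2_congr h.zp ?_
          push_cast at hn ⊢
          linear_combination hn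
    · rw [← h.ac]; group
    · calc _ = a * (c ^ n * d * (c ^ n)⁻¹) * a⁻¹ := by group
        _ = _ := by rw [(cd.pow_left n).eq, mul_inv_cancel_right, h.ad]
    · calc _ = b * ((d ^ n * z ^ n) * c * (d ^ n * z ^ n)⁻¹) * b⁻¹ := by group
        _ = _ := by rw [← (cy cd cz).eq, mul_inv_cancel_right, h.bc]
  refine ⟨_, _, _, _, k, le_antisymm ((closure_le _).2 ?_) ((closure_le _).2 ?_)⟩ <;> rintro _ (rfl | rfl)
  · exact subset_closure (by simp)
  · exact mul_mem (subset_closure (by simp))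
      (pow_mem (h.pc_mem (subset_closure (by simp)) (subset_closure (by simp))).2.1 n)
  · exact subset_closure (by simp)
  · exact (mul_mem_cancel_right (pow_mem (k.pc_mem (subset_closure (by simp))
      (subset_closure (by simp))).2.1 n)).1 (subset_closure (by simp))

end H93.XP
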