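import Cfsg.Agent.Lib.GL.Basic
import Cfsg.Agent.Lib.XP.PC

set_option autoImplicit false

namespace H93.XP

open Subgroup H93.QW

section
variable {G G' : Type*} [Group G] [Group G'] {p : ℕ} {e : ℤ} {s v w a b z : G}

theorem ML_map (f : G →* G') (h : P2 p e s v w a b z) :
    P2 p e (f s) (f v) (f w) (f a) (f b) (f z) := by
  constructor <;> simp only [← map_pow, ← map_mul, ← map_inv, ← map_zpow]
  exacts [by rw [h.sp, map_one], by rw [h.vp, map_one], by rw [h.wp, map_one],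
    by rw [h.ap, map_one], by rw [h.bp, map_one], by rw [h.zp, map_one], by rw [h.sz],
    by rw [h.vz], by rw [h.wz], by rw [h.az], by rw [h.bz], by rw [h.sa], by rw [h.sb],
    by rw [h.ab], by rw [h.vw], by rw [h.vs], by rw [h.ws], by rw [h.va], by rw [h.vb],
    by rw [h.wa], by rw [h.wb]]

theorem ML_of_map (f : G →* G') (hf : Function.Injective f)
    (h : P2 p e (f s) (f v) (f w) (f a) (f b) (f z)) : P2 p e s v w a b z := by
  constructor <;> apply hf <;> simp only [map_pow, map_mul, map_inv, map_zpow, map_one]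
  exacts [h.sp, h.vp, h.wp, h.ap, h.bp, h.zp, h.sz, h.vz, h.wz, h.az, h.bz, h.sa, h.sb, h.ab,
    h.vw, h.vs, h.ws, h.va, h.vb, h.wa, h.wb]

theorem ML_sylow [Finite G] [hp : Fact p.Prime] {H : Subgroup G} {k : ℕ} (hH : Nat.card H = p ^ k)
    {c m : ℕ} (hG : c * Nat.card G = p ^ k * m) (hm : ¬ p ∣ m) : ∃ P : Sylow p G, H = P := by
  refine ⟨(IsPGroup.of_card hH).toSylow fun h => hm ?_, rfl⟩
  rw [← H.card_mul_index, hH, mul_left_comm] at hG
  rw [← Nat.eq_of_mul_eq_mul_left (pow_pos hp.out.pos k) hG]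
  exact h.mul_left c

theorem ML_nd [hp : Fact p.Prime] (k : ℕ) : ¬ p ∣ p ^ (k + 1) - 1 := fun h => by
  have h1 := Nat.dvd_sub (dvd_pow_self p (Nat.succ_ne_zero k)) h
  rw [Nat.sub_sub_self (pow_pos hp.out.pos _)] at h1
  exact hp.out.one_lt.ne' (Nat.dvd_one.1 h1)

theorem ML_nd' [hp : Fact p.Prime] (k : ℕ) : ¬ p ∣ p ^ (k + 1) + 1 := fun h =>
  hp.out.one_lt.ne' (Nat.dvd_one.1 ((Nat.dvd_add_right (dvd_pow_self p (Nat.succ_ne_zero k))).1 h))

end

section
variable {K : Type*} [Field K]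

/-- elements of the abelian unipotent radical -/
def MLA (a b c d : K) : Matrix.SpecialLinearGroup (Fin 4) K :=
  ⟨!![1, 0, a, b; 0, 1, c, d; 0, 0, 1, 0; 0, 0, 0, 1], by
    simp [Matrix.det_succ_row_zero, Fin.sum_univ_succ, Fin.succAbove]⟩

/-- unipotent elements of the Levi factor -/
def MLB (t u : K) : Matrix.SpecialLinearGroup (Fin 4) K :=
  ⟨!![1, t, 0, 0; 0, 1, 0, 0; 0, 0, 1, u; 0, 0, 0, 1], by
    simp [Matrix.det_succ_row_zero, Fin.sum_univ_succ, Fin.succAbove]⟩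

theorem MLA_mul (a b c d a' b' c' d' : K) :
    MLA a b c d * MLA a' b' c' d' = MLA (a + a') (b + b') (c + c') (d + d') := by
  ext i j
  rw [Matrix.SpecialLinearGroup.coe_mul]
  fin_cases i <;> fin_cases j <;> simp [MLA, Matrix.mul_apply, Fin.sum_univ_four, add_comm]

theorem MLB_mul (t u t' u' : K) : MLB t u * MLB t' u' = MLB (t + t') (u + u') := by
  ext i j
  rw [Matrix.SpecialLinearGroup.coe_mul]
  fin_cases i <;> fin_cases j <;> simp [MLB, Matrix.mul_apply, Fin.sum_univ_four, add_comm]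

theorem MLA_zero : MLA (0 : K) 0 0 0 = 1 := by
  ext i j
  fin_cases i <;> fin_cases j <;> simp [MLA]

theorem MLB_zero : MLB (0 : K) 0 = 1 := by
  ext i j
  fin_cases i <;> fin_cases j <;> simp [MLB]

theorem MLB_A (t u a b c d : K) : MLB t u * MLA a b c d =
    MLA (a + t * c) (b + t * d - u * (a + t * c)) c (d - u * c) * MLB t u := by
  ext i j
  rw [Matrix.SpecialLinearGroup.coe_mul, Matrix.SpecialLinearGroup.coe_mul]
  fin_cases i <;> fin_cases j <;> simp [MLA, MLB, Matrix.mul_apply, Fin.sum_univ_four] <;> ring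

theorem MLB_conj (t u a b c d : K) : MLB t u * MLA a b c d * (MLB t u)⁻¹ =
    MLA (a + t * c) (b + t * d - u * (a + t * c)) c (d - u * c) := by
  rw [MLB_A, mul_inv_cancel_right]

theorem MLA_pow (a b c d : K) (n : ℕ) :
    MLA a b c d ^ n = MLA (n * a) (n * b) (n * c) (n * d) := by
  induction n with
  | zero => simp [MLA_zero]
  | succ n ih => rw [pow_succ, ih, MLA_mul]; congr 1 <;> push_cast <;> ring

theorem MLB_pow (t u : K) (n : ℕ) : MLB t u ^ n = MLB (n * t) (n * u) := by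
  induction n with
  | zero => simp [MLB_zero]
  | succ n ih => rw [pow_succ, ih, MLB_mul]; congr 1 <;> push_cast <;> ring

theorem MLA_zpow (a b c d : K) (n : ℤ) :
    MLA a b c d ^ n = MLA (n * a) (n * b) (n * c) (n * d) := by
  cases n with
  | ofNat n => simpa using MLA_pow a b c d n
  | negSucc n =>
    rw [zpow_negSucc, MLA_pow, inv_eq_iff_mul_eq_one, MLA_mul, ← MLA_zero]
    congr 1 <;> push_cast <;> ring

theorem MLA_comm (a b c d a' b' c' d' : K) :
    MLA a b c d * MLA a' b' c' d' = MLA a' b' c' d' * MLA a b c d := by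
  rw [MLA_mul, MLA_mul, add_comm a, add_comm b, add_comm c, add_comm d]

theorem MLA_ne {b : K} (hb : b ≠ 0) : MLA 0 b 0 0 ≠ 1 := fun h => hb (by
  simpa [MLA] using congrArg (fun g : Matrix.SpecialLinearGroup (Fin 4) K => g.1 0 3) h)

theorem ML_P2 (p : ℕ) [CharP K p] (e : ℤ) (c t u t' u' : K) (h1 : t * u' + u * t' = 0)
    (h2 : t' * u' = e * (t * u)) :
    P2 p e (MLA 0 0 c 0) (MLB t u) (MLB t' u') (MLA (t * c) (-(u * t * c)) 0 (-(u * c)))
      (MLA (t' * c) (-(u' * t' * c)) 0 (-(u' * c))) (MLA 0 (-(2 * t * u * c)) 0 0) := by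
  have hp : (p : K) = 0 := CharP.cast_eq_zero K p
  constructor
  iterate 6 simp only [MLA_pow, MLB_pow, hp, zero_mul, MLA_zero, MLB_zero]
  · exact MLA_comm ..
  · rw [MLB_A, ← mul_inv_eq_iff_eq_mul, mul_inv_cancel_right]; congr 1 <;> ring
  · rw [MLB_A, ← mul_inv_eq_iff_eq_mul, mul_inv_cancel_right]; congr 1 <;> ring
  iterate 5 exact MLA_comm ..
  · rw [MLB_mul, MLB_mul, add_comm t, add_comm u]
  · rw [MLB_conj, MLA_mul]; congr 1 <;> ring
  · rw [MLB_conj, MLA_mul]; congr 1 <;> ring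
  · rw [MLB_conj, MLA_mul]; congr 1 <;> ring
  · rw [MLB_A, ← mul_inv_eq_iff_eq_mul, mul_inv_cancel_right]; congr 1
    · ring
    · linear_combination (-c) * h1
    · ring
  · rw [MLB_A, ← mul_inv_eq_iff_eq_mul, mul_inv_cancel_right]; congr 1
    · ring
    · linear_combination (-c) * h1
    · ring
  · rw [MLB_conj, MLA_zpow, MLA_mul]; congr 1
    · ring
    · linear_combination (-2 * c) * h2
    · ring
    · ring

end

theorem model_SL (p : ℕ) [Fact p.Prime] (h2 : p ≠ 2) :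
    ∃ (P : Sylow p (Matrix.SpecialLinearGroup (Fin 4) (ZMod p)))
      (s v w a b z : Matrix.SpecialLinearGroup (Fin 4) (ZMod p)),
      P2 p (-1) s v w a b z ∧ z ≠ 1 ∧ Subgroup.closure {s, v, w} = P := by
  have hp : p.Prime := Fact.out
  have h := ML_P2 (K := ZMod p) p (-1) 1 1 1 1 (-1) (by ring) (by simp)
  have hz : MLA (0 : ZMod p) (-(2 * 1 * 1 * 1)) 0 0 ≠ 1 := MLA_ne (by
    have : ((2 : ℕ) : ZMod p) ≠ 0 := fun e =>
      h2 ((Nat.prime_dvd_prime_iff_eq hp Nat.prime_two).1 ((ZMod.natCast_eq_zero_iff 2 p).1 e))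
    simpa using this)
  have hc := h.card (fun e => hp.one_lt.ne' (by
    have := Int.natCast_dvd_natCast.1 (show (p : ℤ) ∣ ((1 : ℕ) : ℤ) from by simpa using e)
    exact Nat.dvd_one.1 this)) hz
  have hG := H10.card_SL_fin (F := ZMod p) 4 (by omega)
  rw [Nat.card_zmod] at hG
  obtain ⟨P, hP⟩ := ML_sylow hc (c := p - 1)
    (m := (p ^ (3 + 1) - 1) * (p ^ (2 + 1) - 1) * (p ^ (1 + 1) - 1) * (p ^ (0 + 1) - 1)) (by
      rw [hG, Fin.prod_univ_four]
      have e : ∀ i j : ℕ, p ^ (i + j) - p ^ i = p ^ i * (p ^ j - 1) := fun i j => by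
        rw [Nat.mul_sub, mul_one, pow_add]
      have e1 := e 1 3
      have e2 := e 2 2
      have e3 := e 3 1
      simp only [Fin.val_zero, Fin.val_one, Fin.val_two, show ((3 : Fin 4) : ℕ) = 3 from rfl]
      norm_num at e1 e2 e3 ⊢
      rw [e1, e2, e3]; ring)
    (by simp only [hp.dvd_mul, ML_nd, or_self, not_false_eq_true])
  exact ⟨P, _, _, _, _, _, _, h, hz, hP⟩

end H93.XP
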