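import Cfsg.Agent.Lib.Unitary.Order
import Cfsg.Agent.Lib.XP.PC
import Cfsg.Agent.Lib.XP.ML

set_option autoImplicit false

namespace H93.XP

open Subgroup H93.QW

section
open Matrix H11.U

variable {K : Type*} [Field K]

/-- conjugation by an invertible matrix -/
def MUconj (C D : Matrix (Fin 4) (Fin 4) K) (h : D * C = 1) :
    SpecialLinearGroup (Fin 4) K →* SpecialLinearGroup (Fin 4) K where
  toFun g := ⟨C * g.1 * D, by
    rw [det_mul, det_mul, g.2, mul_one, mul_comm, ← det_mul, h, det_one]⟩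
  map_one' := Subtype.ext (by
    show C * 1 * D = 1
    rw [Matrix.mul_one]; exact mul_eq_one_comm.1 h)
  map_mul' g g' := Subtype.ext (by
    show C * (g.1 * g'.1) * D = C * g.1 * D * (C * g'.1 * D)
    calc C * (g.1 * g'.1) * D = C * g.1 * (D * C) * g'.1 * D := by rw [h]; simp [Matrix.mul_assoc]
      _ = _ := by simp [Matrix.mul_assoc])

theorem MUconj_inj (C D : Matrix (Fin 4) (Fin 4) K) (h : D * C = 1) :
    Function.Injective (MUconj C D h) := fun g g' e => Subtype.ext (by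
  have e1 : C * g.1 * D = C * g'.1 * D := congrArg Subtype.val e
  have k : ∀ X : Matrix (Fin 4) (Fin 4) K, D * (C * X * D) * C = X := fun X => by
    calc _ = (D * C) * X * (D * C) := by simp [Matrix.mul_assoc]
      _ = X := by rw [h]; simp
  rw [← k g.1, e1, k])

/-- the split Gram matrix -/
def MUJ (K : Type*) [Field K] : Matrix (Fin 4) (Fin 4) K :=
  !![0, 0, 0, 2; 0, 0, 2, 0; 0, 2, 0, 0; 2, 0, 0, 0]

variable [Fintype K] {q : ℕ} [IsSq K q]

theorem MU_mem {C D : Matrix (Fin 4) (Fin 4) K} (h : D * C = 1) (hC : Cᵀ * C.map (cj q) = MUJ K)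
    {g : SpecialLinearGroup (Fin 4) K} (hg : g.1ᵀ * MUJ K * g.1.map (cj q) = MUJ K) :
    MUconj C D h g ∈ Cfsg.SU 4 K q := by
  refine mem_SU.2 (isIso_iff.2 ?_)
  have h' : C * D = 1 := mul_eq_one_comm.1 h
  show (C * g.1 * D)ᵀ * (C * g.1 * D).map (cj q) = 1
  calc _ = Dᵀ * (g.1ᵀ * (Cᵀ * C.map (cj q)) * g.1.map (cj q)) * D.map (cj q) := by
        simp only [transpose_mul, Matrix.map_mul, Matrix.mul_assoc]
    _ = (C * D)ᵀ * (C * D).map (cj q) := by
        rw [hC, hg, ← hC]; simp only [transpose_mul, Matrix.map_mul, Matrix.mul_assoc]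
    _ = 1 := by rw [h']; simp

theorem MU_A {a b c d : K} (h1 : a + cj q d = 0) (h2 : b + cj q b = 0) (h3 : c + cj q c = 0) :
    (MLA a b c d).1ᵀ * MUJ K * (MLA a b c d).1.map (cj q) = MUJ K := by
  have h4 : d + cj q a = 0 := by
    have := congrArg (cj q) h1
    rw [map_add, cj_cj, map_zero] at this
    rw [add_comm, this]
  ext i j
  fin_cases i <;> fin_cases j <;> simp [MLA, MUJ, Matrix.mul_apply, Fin.sum_univ_four]
  · linear_combination 2 * h3
  · linear_combination 2 * h1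
  · linear_combination 2 * h4
  · linear_combination 2 * h2

theorem MU_B {t u : K} (h1 : t + cj q u = 0) :
    (MLB t u).1ᵀ * MUJ K * (MLB t u).1.map (cj q) = MUJ K := by
  have h4 : u + cj q t = 0 := by
    have := congrArg (cj q) h1
    rw [map_add, cj_cj, map_zero] at this
    rw [add_comm, this]
  ext i j
  fin_cases i <;> fin_cases j <;> simp [MLB, MUJ, Matrix.mul_apply, Fin.sum_univ_four]
  · linear_combination 2 * h1
  · linear_combination 2 * h4

theorem MU_exists (h2 : (2 : K) ≠ 0) :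
    ∃ C D : Matrix (Fin 4) (Fin 4) K, D * C = 1 ∧ Cᵀ * C.map (cj q) = MUJ K := by
  obtain ⟨μ, hμ⟩ := exists_norm_eq (q := q) (c := (-1 : K)) (by simp)
  refine ⟨!![1, 0, 0, 1; 0, 1, 1, 0; 0, μ, -μ, 0; μ, 0, 0, -μ],
    (2 : K)⁻¹ • !![1, 0, 0, -cj q μ; 0, 1, -cj q μ, 0; 0, 1, cj q μ, 0; 1, 0, 0, cj q μ], ?_, ?_⟩
  · ext i j
    fin_cases i <;> fin_cases j <;> simp [Matrix.mul_apply, Fin.sum_univ_four] <;> field_simp <;>
      first | linear_combination hμ | linear_combination -hμ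
  · ext i j
    fin_cases i <;> fin_cases j <;> simp [MUJ, Matrix.mul_apply, Fin.sum_univ_four] <;>
      first | linear_combination hμ | linear_combination -hμ

end

open H11.U in
theorem model_SU (p : ℕ) [Fact p.Prime] (h2 : p ≠ 2) :
    ∃ (K : Type) (_ : Field K) (_ : Fintype K), Fintype.card K = p ^ 2 ∧
      ∃ (P : Sylow p (Cfsg.SU 4 K p)) (e : ℤ) (s v w a b z : Cfsg.SU 4 K p),
        ¬ IsSquare (-(e : ZMod p)) ∧ P2 p e s v w a b z ∧ z ≠ 1 ∧
          Subgroup.closure {s, v, w} = P := by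
  have hp : p.Prime := Fact.out
  let K := GaloisField p 2
  letI : Fintype K := Fintype.ofFinite K
  have hK : Fintype.card K = p ^ 2 := by
    rw [← Nat.card_eq_fintype_card]; exact GaloisField.card p 2 two_ne_zero
  haveI : IsSq K p := ⟨hK⟩
  refine ⟨K, inferInstance, inferInstance, hK, ?_⟩
  have t2 : (2 : K) ≠ 0 := fun e => h2 ((Nat.prime_dvd_prime_iff_eq hp Nat.prime_two).1
    ((CharP.cast_eq_zero_iff K p 2).1 (by exact_mod_cast e)))
  obtain ⟨θ, θ0, hθ⟩ := exists_trace_zero K p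
  obtain ⟨ι, hι⟩ := exists_embedding K p (ZMod p) (ZMod.card p)
  obtain ⟨ε, hε⟩ := (hι (θ * θ)).1 (by rw [map_mul, hθ]; ring)
  obtain ⟨e, he⟩ := ZMod.intCast_surjective (-ε)
  have he' : (e : K) = -(θ * θ) := by rw [← map_intCast ι, he, map_neg, hε]
  have ns : ¬ IsSquare (-(e : ZMod p)) := by
    rw [he, neg_neg]
    rintro ⟨r, hr⟩
    have h1 : cj p (ι r) = ι r := (hι _).2 ⟨r, rfl⟩
    have h3 : θ * θ = ι r * ι r := by rw [← hε, hr, map_mul]
    have : cj p θ = θ := by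
      rcases mul_self_eq_mul_self_iff.1 h3 with h | h
      · rw [h, h1]
      · rw [h, map_neg, h1]
    rw [hθ] at this
    exact θ0 ((mul_eq_zero.1 (show 2 * θ = 0 by linear_combination -this)).resolve_left t2)
  have hd : ¬ (p : ℤ) ∣ e := fun h => ns (by
    rw [(ZMod.intCast_zmod_eq_zero_iff_dvd e p).2 h, neg_zero]; exact ⟨0, by simp⟩)
  obtain ⟨C, D, hD, hC⟩ := MU_exists (K := K) (q := p) t2
  have h := ML_map (MUconj C D hD) (ML_P2 (K := K) p e θ 1 (-1) θ θ (by ring) (by rw [he']; ring))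
  let s : Cfsg.SU 4 K p := ⟨_, MU_mem hD hC (MU_A (a := 0) (b := 0) (c := θ) (d := 0)
    (by simp) (by simp) (by simp [hθ]))⟩
  let v : Cfsg.SU 4 K p := ⟨_, MU_mem hD hC (MU_B (t := 1) (u := -1) (by simp))⟩
  let w : Cfsg.SU 4 K p := ⟨_, MU_mem hD hC (MU_B (t := θ) (u := θ) (by simp [hθ]))⟩
  let a : Cfsg.SU 4 K p := ⟨_, MU_mem hD hC (MU_A (a := 1 * θ) (b := -(-1 * 1 * θ)) (c := 0)
    (d := -(-1 * θ)) (by simp [hθ]; ring) (by simp [hθ]; ring) (by simp))⟩
  let b : Cfsg.SU 4 K p := ⟨_, MU_mem hD hC (MU_A (a := θ * θ) (b := -(θ * θ * θ)) (c := 0)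
    (d := -(θ * θ)) (by simp [hθ]; ring) (by simp [hθ]; ring) (by simp))⟩
  let z : Cfsg.SU 4 K p := ⟨_, MU_mem hD hC (MU_A (a := 0) (b := -(2 * 1 * -1 * θ)) (c := 0)
    (d := 0) (by simp) (by simp [hθ, map_ofNat]; ring) (by simp))⟩
  have h' : P2 p e s v w a b z :=
    ML_of_map (Cfsg.SU 4 K p).subtype (Subgroup.subtype_injective _) h
  have hz : z ≠ 1 := fun e1 => MLA_ne (b := -(2 * 1 * -1 * θ)) (by simp [t2, θ0])
    (MUconj_inj C D hD ((congrArg Subtype.val e1).trans (map_one _).symm))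
  have hG := card_GU_eq_mul_card_SU (F := K) (q := p) (n := 4) (by omega)
  rw [card_GU] at hG
  obtain ⟨P, hP⟩ := ML_sylow (h'.card hd hz) (c := p + 1)
    (m := (p ^ (0 + 1) + 1) * (p ^ (1 + 1) - 1) * (p ^ (2 + 1) + 1) * (p ^ (3 + 1) - 1)) (by
      rw [← hG]
      simp only [Finset.prod_range_succ, Finset.prod_range_zero]
      norm_num [Nat.even_iff])
    (by simp only [hp.dvd_mul, ML_nd, ML_nd', or_self, not_false_eq_true])
  exact ⟨P, e, s, v, w, a, b, z, ns, h', hz, hP⟩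

end H93.XP
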