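import Cfsg.Agent.Lib.XP.Bas2
import Cfsg.Agent.Lib.XP.PC

set_option autoImplicit false

namespace H93.XP

open Subgroup H93.QW

variable {Γ : Type*} [Group Γ] [Finite Γ] {p : ℕ} [hp : Fact p.Prime] {S Q E : Subgroup Γ} {z g : Γ}

namespace NF

/-- the commutator -/
def cm (u v : Γ) : Γ := u * v * u⁻¹ * v⁻¹

omit [Finite Γ] hp

theorem cm_eq_one {u v : Γ} : cm u v = 1 ↔ u * v = v * u := by
  rw [cm, mul_inv_eq_one, mul_inv_eq_iff_eq_mul]

theorem cm_self (u : Γ) : cm u u = 1 := cm_eq_one.2 rfl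

variable (h : XS p S Q z) {s t u u' v v' x : Γ}
include h

theorem cz (ht : t ∈ zpowers z) (hx : x ∈ S) : x * t = t * x := by
  obtain ⟨i, rfl⟩ := ht
  exact (Commute.zpow_right (h.zc x hx) i :)

theorem cm_mem (hu : u ∈ Q) (hv : v ∈ Q) : cm u v ∈ zpowers z := h.comm u hu v hv

theorem conj_cm (hu : u ∈ Q) (hv : v ∈ Q) : u * v * u⁻¹ = v * cm u v := by
  rw [cz h (cm_mem h hu hv) (h.le hv), cm]; group

theorem cm_left (hu : u ∈ Q) (hu' : u' ∈ Q) (hv : v ∈ Q) : cm (u * u') v = cm u v * cm u' v := by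
  calc cm (u * u') v = u * cm u' v * (v * u⁻¹ * v⁻¹) := by unfold cm; group
    _ = cm u' v * cm u v := by rw [cz h (cm_mem h hu' hv) (h.le hu)]; unfold cm; group
    _ = _ := cz h (cm_mem h hu hv) (h.le (zpowers_le.2 h.z_mem (cm_mem h hu' hv)))

theorem cm_right (hu : u ∈ Q) (hv : v ∈ Q) (hv' : v' ∈ Q) : cm u (v * v') = cm u v * cm u v' := by
  calc cm u (v * v') = cm u v * (v * cm u v' * v⁻¹) := by unfold cm; group
    _ = _ := by rw [cz h (cm_mem h hu hv') (h.le hv), mul_inv_cancel_right]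

theorem cm_conj (hs : s ∈ S) (hu : u ∈ Q) (hv : v ∈ Q) :
    cm (s⁻¹ * u * s) (s⁻¹ * v * s) = cm u v := by
  calc _ = s⁻¹ * cm u v * s := by unfold cm; group
    _ = _ := by rw [cz h (cm_mem h hu hv) (inv_mem hs), inv_mul_cancel_right]

end NF

open NF

theorem NF.root' (h : XS p S Q z) {t t' : Γ} (ht : t ∈ zpowers z) (h1 : t ≠ 1)
    (ht' : t' ∈ zpowers z) : ∃ e : ℤ, t' = t ^ e := by
  obtain ⟨i, rfl⟩ := ht
  obtain ⟨j, rfl⟩ := ht'
  obtain ⟨k, hk⟩ := root h.zp (i := i) fun e => h1 (by simpa using h.zinj.2 (show _ ∣ i - 0 by simpa))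
  exact ⟨k * j, by simp only [zpow_mul, hk]⟩

theorem NF.zpw (h : XS p S Q z) {t : Γ} (ht : t ∈ zpowers z) : t ^ p = 1 := by
  obtain ⟨i, rfl⟩ := ht
  simp only [← zpow_natCast, ← zpow_mul]
  rw [mul_comm, zpow_mul, zpow_natCast, h.zp, one_zpow]

theorem NF.cen_of (h : XS p S Q z) {X : Subgroup Γ} {d y : Γ} (hd : d ∈ Q) (hX : X ≤ Q)
    (c : Nat.card Q ≤ p * Nat.card X) (hy : y ∈ Q) (hy' : y ∉ X) (h1 : X ≤ cS Q d)
    (h2 : y * d = d * y) : d ∈ zpowers z := h.cen d hd fun v hv => by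
  obtain ⟨u, hu, i, rfl⟩ := h.gen_of h.le hX c hy hy' v hv
  exact (mul_mem (h1 hu) (pow_mem (mem_cS.2 ⟨hy, h2⟩) i)).2.symm

theorem XS.p2 (h : XS p S Q z) {s : Γ} (q : QT p S Q z s) : ∃ (e : ℤ) (v w a b z' : Γ),
    ¬ (p : ℤ) ∣ e ∧ P2 p e s v w a b z' ∧ z' ≠ 1 ∧ Subgroup.closure {s, v, w} = S := by
  have p1 := hp.out.one_lt
  have hs := q.mem
  have dm : ∀ {v}, v ∈ Q → dl s v ∈ CV Q z s := fun hv => q.eq ▸ h.dl_mem_DV hv
  have ab : ∀ {x y}, x ∈ CV Q z s → y ∈ CV Q z s → x * y = y * x := fun {x y} hx hy => by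
    rw [← q.eq, h.DV_eq hs] at hy
    exact (mem_cQ.1 hy).2 x hx
  have cD : Nat.card (CV Q z s) = p ^ 3 := by
    have := h.card_CV_DV hs
    rw [q.eq, q.card, ← pow_succ', ← pow_two, show 5 + 1 = 3 * 2 by rfl, pow_mul] at this
    exact Nat.pow_left_injective two_ne_zero this
  have sym : ∀ {v w}, v ∈ Q → w ∈ Q → cm v (dl s w) = cm w (dl s v) := fun {v w} hv hw => by
    obtain ⟨k, hk⟩ := h.conj_eq hv hw
    have e : dl s (v * w) = dl s (w * v) := by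
      rw [← h.dl_z hs (w * v) k, mul_assoc, cz h (zpow_mem_zpowers z k) (h.le hv), ← mul_assoc,
        ← hk, inv_mul_cancel_right]
    rw [dl_mul, dl_mul, conj_cm h hv (h.dl_mem hs hw), conj_cm h hw (h.dl_mem hs hv), ← mul_assoc,
      ← mul_assoc, ab (dm hv) (dm hw)] at e
    exact mul_left_cancel e
  obtain ⟨v, hv, hz⟩ : ∃ v ∈ Q, cm v (dl s v) ≠ 1 := by
    by_contra! hc
    have h1 : Q ≤ CV Q z s := fun v hv => by
      rw [h.CV_eq hs]
      refine mem_cQ.2 ⟨hv, fun u hu => ?_⟩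
      obtain ⟨w, hw, k, rfl⟩ := (h.mem_DV hs).1 hu
      have e := hc _ (mul_mem hv hw)
      have hd := h.dl_mem hs (mul_mem hv hw)
      rw [cm_left h hv hw hd, sym hv (mul_mem hv hw), sym hw (mul_mem hv hw),
        cm_left h hv hw (h.dl_mem hs hv), cm_left h hv hw (h.dl_mem hs hw), hc v hv, hc w hw,
        sym hw hv, one_mul, mul_one, ← zpow_two] at e
      obtain ⟨j, hj⟩ := root (zpw h (cm_mem h hv (h.dl_mem hs hw))) h.not_dvd_two
      rw [e, one_zpow] at hj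
      rw [mul_assoc, ← cz h (zpow_mem_zpowers z k) (h.le hv), ← mul_assoc, ← cm_eq_one.1 hj.symm,
        mul_assoc]
    have := card_le_of_le h1
    rw [cD, q.card] at this
    exact absurd ((Nat.pow_le_pow_iff_right p1).1 this) (by norm_num)
  have ha := h.dl_mem hs hv
  have hzZ := cm_mem h hv ha
  have aZ : dl s v ∉ zpowers z := fun e => hz (cm_eq_one.2 (cz h e (h.le hv)))
  have cK : Nat.card (cS Q (dl s v)) = p ^ 4 := by
    have := h.card_cS ha aZ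
    rw [q.card, pow_succ'] at this
    exact Nat.eq_of_mul_eq_mul_left hp.out.pos this
  have DK : CV Q z s ≤ cS Q (dl s v) := fun x hx => mem_cS.2 ⟨h.CV_le s hx, ab hx (dm hv)⟩
  obtain ⟨w1, hw1, w1D⟩ : ∃ w1 ∈ cS Q (dl s v), w1 ∉ CV Q z s := by
    by_contra! hc
    have := card_le_of_le (show cS Q (dl s v) ≤ _ from hc)
    rw [cD, cK] at this
    exact absurd ((Nat.pow_le_pow_iff_right p1).1 this) (by norm_num)
  obtain ⟨m, hm⟩ := root' h hzZ hz (inv_mem (cm_mem h hv hw1.1))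
  have hw : w1 * dl s v ^ m ∈ cS Q (dl s v) := mul_mem hw1 (zpow_mem (DK (dm hv)) m)
  have wD : w1 * dl s v ^ m ∉ CV Q z s := fun e =>
    w1D ((mul_mem_cancel_right (zpow_mem (dm hv) m)).1 e)
  have vw : v * (w1 * dl s v ^ m) = w1 * dl s v ^ m * v := by
    have e : v * dl s v ^ m * v⁻¹ = dl s v ^ m * cm v (dl s v) ^ m := by
      rw [← conj_zpow, conj_cm h hv ha]
      exact (show Commute _ _ from cz h hzZ (h.le ha)).mul_zpow m
    rw [← mul_inv_eq_iff_eq_mul]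
    calc _ = (v * w1 * v⁻¹) * (v * dl s v ^ m * v⁻¹) := by group
      _ = _ := by
        rw [e, conj_cm h hv hw1.1, ← hm, mul_assoc, ← mul_assoc (cm v w1),
          ← cz h (cm_mem h hv hw1.1) (h.le (zpow_mem ha m)), mul_inv_cancel_right]
  generalize w1 * dl s v ^ m = w at hw wD vw
  have hb := h.dl_mem hs hw.1
  have vb : v * dl s w = dl s w * v := cm_eq_one.1 (by rw [sym hv hw.1]; exact cm_eq_one.2 hw.2)
  have wb : cm w (dl s w) ≠ 1 := fun e => wD ((h.mem_CV hs).2 ⟨hw.1, cen_of h hb (cS_le _ _)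
    (by rw [cK, q.card, pow_succ']) hv (fun e' => hz (cm_eq_one.2 e'.2)) (fun x hx => by
      obtain ⟨u, hu, i, rfl⟩ := h.gen_of ((cS_le _ _).trans h.le) DK
        (by rw [cK, cD, pow_succ']) hw wD x hx
      exact mul_mem (mem_cS.2 ⟨h.CV_le s hu, ab hu (dm hw.1)⟩)
        (Subgroup.pow_mem _ (mem_cS.2 ⟨hw.1, cm_eq_one.1 e⟩) i)) vb⟩)
  obtain ⟨e, he⟩ := root' h hzZ hz (cm_mem h hw.1 hb)
  have ne : ¬ (p : ℤ) ∣ e := fun ⟨c, hc⟩ => wb (by
    rw [he, hc, zpow_mul, zpow_natCast, zpw h hzZ, one_zpow])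
  have P : P2 p e s v w (dl s v) (dl s w) (cm v (dl s v)) :=
    ⟨q.pow, q.exp v hv, q.exp w hw.1, q.exp _ ha, q.exp _ hb, zpw h hzZ, cz h hzZ hs,
      cz h hzZ (h.le hv), cz h hzZ (h.le hw.1), cz h hzZ (h.le ha), cz h hzZ (h.le hb),
      (q.comm _ (dm hv)).symm, (q.comm _ (dm hw.1)).symm, ab (dm hv) (dm hw.1), vw,
      conj_eq_dl s v, conj_eq_dl s w, conj_cm h hv ha, vb, hw.2, he ▸ conj_cm h hw.1 hb⟩
  refine ⟨e, v, w, _, _, _, ne, P, hz, eq_of_le_of_card_ge ((closure_le _).2 ?_) ?_⟩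
  · rintro x (rfl | rfl | rfl)
    exacts [hs, h.le hv, h.le hw.1]
  · rw [P.card ne hz, h.idx, q.card, ← pow_succ']

theorem XS.p4 (h : XS p S Q z) {s a : Γ} (q : RT p S Q z s a) : 5 ≤ p ∧ ∃ (ν : ℤ) (b c d z' : Γ),
    P4 p ν s a b c d z' ∧ z' ≠ 1 ∧ Subgroup.closure {s, a} = S := by
  have p1 := hp.out.one_lt
  have hs := q.mem
  have ha := q.a_mem
  have hb := h.dl_mem hs ha
  have hc := h.dl_mem hs hb
  have hd := h.dl_mem hs hc
  have step : ∀ {Y Y' : Subgroup Γ} {x}, z ∈ Y → Y ≤ Y' → Y' ≤ Q → x ∈ Q → dl s x ∈ Y' →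
      dl s x ∉ Y → NV Q Y s ≤ NV Q Y' s ∧ x ∈ NV Q Y' s ∧ x ∉ NV Q Y s ∧
        p * Nat.card (NV Q Y s) ≤ Nat.card (NV Q Y' s) := fun {Y Y' x} h1 h2 h3 h4 h5 h6 => by
    have e1 : NV Q Y s ≤ NV Q Y' s := closure_mono fun v hv => ⟨hv.1, h2 hv.2⟩
    have e2 := (h.mem_NV hs (h2 h1) h3).2 ⟨h4, h5⟩
    have e3 : x ∉ NV Q Y s := fun e => h6 ((h.mem_NV hs h1 (h2.trans h3)).1 e).2
    exact ⟨e1, e2, e3, h.card_lt ((h.NV_le _ _).trans h.le) (lt_of_le_of_ne e1 fun e => e3 (e ▸ e2))⟩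
  have d1 : dl s (dl s (dl s a)) ∈ CV Q z s :=
    (h.mem_CV hs).2 ⟨hd, by rw [dl_eq_one.2 q.comm]; exact one_mem _⟩
  have l0 := (h.Z_lt_CV hs).le
  have c0 := h.card_lt ((h.CV_le s).trans h.le) (h.Z_lt_CV hs)
  obtain ⟨l1, m1, n1, c1⟩ := step (mem_zpowers z) l0 (h.CV_le s) hc d1 q.ne
  have z1 := h.z_mem_CV hs
  obtain ⟨l2, m2, n2, c2⟩ := step z1 l1 (h.NV_le _ _) hb m1 n1
  obtain ⟨l3, -, n3, c3⟩ := step (l1 z1) l2 (h.NV_le _ _) ha m2 n2
  have c4 := card_le_of_le (h.NV_le (NV Q (NV Q (CV Q z s) s) s) s)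
  rw [h.card_Z] at c0
  change p * Nat.card (CV Q z s) ≤ _ at c1
  have c5 : p ^ 3 * Nat.card (CV Q z s) ≤ Nat.card (NV Q (NV Q (NV Q (CV Q z s) s) s) s) :=
    calc _ = p * (p * (p * Nat.card (CV Q z s))) := by ring
      _ ≤ _ := (Nat.mul_le_mul_left p ((Nat.mul_le_mul_left p c1).trans c2)).trans c3
  have e4 : NV Q (NV Q (NV Q (CV Q z s) s) s) s = Q := eq_of_le_of_card_ge (h.NV_le _ _) (by
    rw [q.card]
    exact le_trans (by rw [show p ^ 5 = p ^ 3 * (p * p) by ring]; gcongr) c5)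
  have c6 : Nat.card (CV Q z s) ≤ p ^ 2 := by
    rw [e4, q.card, show 5 = 3 + 2 by rfl, pow_add] at c5
    exact Nat.le_of_mul_le_mul_left c5 (by positivity)
  have c7 : Nat.card Q ≤ p * Nat.card (DV Q z s) := by
    have e := h.card_CV_DV hs
    have : p ^ 2 * Nat.card Q ≤ p ^ 2 * (p * Nat.card (DV Q z s)) :=
      calc p ^ 2 * Nat.card Q = p * (Nat.card (CV Q z s) * Nat.card (DV Q z s)) := by rw [e]; ring
        _ ≤ p * (p ^ 2 * Nat.card (DV Q z s)) := by gcongr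
        _ = _ := by ring
    exact Nat.le_of_mul_le_mul_left this (by positivity)
  have aD : a ∉ DV Q z s := fun e => by
    obtain ⟨v, hv, k, rfl⟩ := (h.mem_DV hs).1 e
    rw [← e4] at hv
    exact n3 (mul_mem ((h.mem_NV hs (l2 (l1 z1)) (h.NV_le _ _)).1 hv).2
      (zpow_mem (l2 (l1 z1)) k))
  have dD : DV Q z s ≤ cS Q (dl s (dl s (dl s a))) := fun x hx => by
    rw [h.DV_eq hs] at hx
    exact mem_cS.2 ⟨hx.1, ((mem_cQ.1 hx).2 _ d1).symm⟩
  have hz : cm a (dl s (dl s (dl s a))) ≠ 1 := fun e =>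
    q.ne (cen_of h hd (h.DV_le hs) c7 ha aD dD (cm_eq_one.1 e))
  have bd := (dD (h.dl_mem_DV ha)).2
  have cd := (dD (h.dl_mem_DV hb)).2
  have sa := conj_eq_dl' s a
  have sb := conj_eq_dl' s (dl s a)
  have sc := conj_eq_dl' s (dl s (dl s a))
  have sd := q.comm
  have dZ := q.ne
  generalize dl s (dl s (dl s a)) = d at *
  generalize dl s (dl s a) = c at *
  generalize dl s a = b at *
  have hzZ := cm_mem h ha hd
  have bc : cm b c = (cm a d)⁻¹ := by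
    have := cm_conj h hs ha hc
    rw [sa, sc, cm_left h hb ha (mul_mem hd hc), cm_right h hb hd hc, cm_right h ha hd hc,
      cm_eq_one.2 bd, one_mul, ← mul_assoc, mul_eq_right] at this
    exact eq_inv_of_mul_eq_one_left this
  have ac : cm a c = cm a d := by
    have := cm_conj h hs ha hb
    rw [sa, sb, cm_left h hb ha (mul_mem hc hb), cm_right h hb hc hb, cm_right h ha hc hb,
      cm_self, mul_one, ← mul_assoc, mul_eq_right, bc] at this
    exact (inv_mul_eq_one.1 this).symm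
  obtain ⟨ν, hν⟩ := root' h hzZ hz (cm_mem h ha hb)
  have P : P4 p ν s a b c d (cm a d) :=
    ⟨q.pow, q.exp a ha, q.exp b hb, q.exp c hc, q.exp d hd, zpw h hzZ, cz h hzZ hs,
      cz h hzZ (h.le ha), cz h hzZ (h.le hb), cz h hzZ (h.le hc), cz h hzZ (h.le hd), sa, sb, sc,
      sd.symm, hν ▸ conj_cm h ha hb, ac ▸ conj_cm h ha hc, conj_cm h ha hd, bc ▸ conj_cm h hb hc,
      bd, cd⟩
  refine ⟨hp.out.five_le_of_ne_two_of_ne_three h.odd ?_, ν, b, c, d, _, P, hz,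
    eq_of_le_of_card_ge ((closure_le _).2 ?_) ?_⟩
  · rintro rfl
    have e1 : s⁻¹ * (s⁻¹ * (s⁻¹ * a * s) * s) * s = a := by
      calc _ = (s ^ 3)⁻¹ * a * s ^ 3 := by simp only [pow_three, mul_inv_rev, mul_assoc]
        _ = a := by rw [q.pow]; group
    have cj : ∀ x y, s⁻¹ * (x * y) * s = (s⁻¹ * x * s) * (s⁻¹ * y * s) := fun x y => by group
    rw [sa, cj b a, sa, sb, cj (c * b), cj c b, cj b a, sa, sb, sc] at e1
    have e3 : b * c = c * (cm a d)⁻¹ * b := by rw [← P.bc, inv_mul_cancel_right]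
    have e4 : d * (c ^ 3 * ((cm a d)⁻¹ * b ^ 3)) * a = a := by
      calc _ = d * c * c * (c * (cm a d)⁻¹ * b) * b * b * a := by
            simp only [pow_three, mul_assoc]
        _ = d * c * (c * b) * (c * b * (b * a)) := by rw [← e3]; simp only [mul_assoc]
        _ = a := e1
    rw [P.cp, P.bp, one_mul, mul_one, mul_eq_right, mul_inv_eq_one] at e4
    exact dZ (e4 ▸ hzZ)
  · rintro x (rfl | rfl)
    exacts [hs, h.le ha]
  · rw [P.card hz, h.idx, q.card, ← pow_succ']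

end H93.XP
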