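import Cfsg.Agent.Lib.XP.Bas2

/-! The pearl case: the chain of `s` on `Q` and the weights of the torus element. -/

set_option autoImplicit false
set_option linter.unusedSectionVars false

namespace H93.XP

open Subgroup H93.QW

variable {Γ : Type*} [Group Γ] [Finite Γ] {p : ℕ} [hp : Fact p.Prime] {S Q E : Subgroup Γ} {z g : Γ}

namespace PW1

/-- the upper chain of `s` on `Q` -/
def Ch (Q : Subgroup Γ) (z s : Γ) : ℕ → Subgroup Γ := fun i =>
  Nat.rec (zpowers z) (fun _ Y => NV Q Y s) i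

theorem eqns : True := by have := @Ch.eq_1.{0}; trivial

theorem int_iff {P : ℤ → Prop} (h0 : P 0) (h : ∀ n, P (n + 1) ↔ P n) (n : ℤ) : P n := by
  induction n using Int.induction_on with
  | zero => exact h0
  | succ n ih => exact (h n).2 ih
  | pred n ih => exact (h _).1 (by simpa using ih)

theorem pow_mod {X : Subgroup Γ} {b c : Γ} (hb : Cj b X X) (hc : c ∈ X) (n : ℤ) :
    (c * b) ^ n * (b ^ n)⁻¹ ∈ X := by
  refine int_iff (P := fun n => (c * b) ^ n * (b ^ n)⁻¹ ∈ X) (by simp) (fun n => ?_) n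
  rw [show (c * b) ^ (n + 1) * (b ^ (n + 1))⁻¹ = c * (b * ((c * b) ^ n * (b ^ n)⁻¹) * b⁻¹) by
    rw [add_comm n 1, zpow_add, zpow_add]; group, mul_mem_cancel_left hc]
  exact ⟨fun e => by simpa [mul_assoc] using hb.inv _ e, hb _⟩

theorem dl_mod {X Y : Subgroup Γ} {x v : Γ} (hx : x ∈ S) (h1 : ∀ y ∈ Y, dl x y ∈ X)
    (h2 : ∀ x ∈ S, dl x v ∈ Y) (n : ℤ) : dl (x ^ n) v * (dl x v ^ n)⁻¹ ∈ X := by
  refine int_iff (P := fun n => dl (x ^ n) v * (dl x v ^ n)⁻¹ ∈ X) (by simp [dl]) (fun n => ?_) n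
  rw [zpow_add_one, zpow_add_one, Bas2.dl_left, conj_eq_dl', show dl x (dl (x ^ n) v) * dl (x ^ n) v *
    dl x v * (dl x v ^ n * dl x v)⁻¹ = dl x (dl (x ^ n) v) * (dl (x ^ n) v * (dl x v ^ n)⁻¹) by group,
    mul_mem_cancel_left (h1 _ (h2 _ (zpow_mem hx n)))]

variable (h : XS p S Q z) {s a x v : Γ} {r : ℕ} (hs : s ∈ S)
include h

theorem dl_Z (hx : x ∈ S) (hv : v ∈ zpowers z) : dl x v = 1 := dl_eq_one.2 (h.bas1_Zc hx hv)

include hs

theorem bas (i : ℕ) : z ∈ Ch Q z s i ∧ Ch Q z s i ≤ Q := by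
  induction i with
  | zero => exact ⟨mem_zpowers z, h.Z_le⟩
  | succ i ih =>
    exact ⟨(h.mem_NV hs ih.1 ih.2).2 ⟨h.z_mem, by rw [dl_Z h hs (mem_zpowers z)]; exact one_mem _⟩,
      h.NV_le _ s⟩

theorem mem {i : ℕ} : v ∈ Ch Q z s (i + 1) ↔ v ∈ Q ∧ dl s v ∈ Ch Q z s i :=
  h.mem_NV hs (bas h hs i).1 (bas h hs i).2

theorem mono (i : ℕ) : Ch Q z s i ≤ Ch Q z s (i + 1) := by
  induction i with
  | zero => exact fun v hv => (mem h hs).2 ⟨h.Z_le hv, by rw [dl_Z h hs hv]; exact one_mem _⟩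
  | succ i ih => exact fun v hv => (mem h hs).2 ⟨((mem h hs).1 hv).1, ih ((mem h hs).1 hv).2⟩

theorem cj (hx : x ∈ S) (i : ℕ) : Cj x (Ch Q z s i) (Ch Q z s i) := by
  induction i with
  | zero => exact fun v hv => by rw [← h.bas1_Zc hx hv, mul_inv_cancel_right]; exact hv
  | succ i ih =>
    intro v hv
    obtain ⟨h1, h2⟩ := (mem h hs).1 hv
    obtain ⟨k, e⟩ := h.bas2_cjs hs hx h1
    exact (mem h hs).2 ⟨h.norm x hx v h1,
      (mul_mem_cancel_right (zpow_mem (bas h hs i).1 k)).1 (e ▸ ih _ h2)⟩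

theorem iter (ha : a ∈ Q) (i j : ℕ) : (dl s)^[i] a ∈ Ch Q z s j ↔ a ∈ Ch Q z s (j + i) := by
  induction i generalizing a with
  | zero => rfl
  | succ i ih =>
    rw [Function.iterate_succ_apply, ih (h.dl_mem hs ha), ← add_assoc, mem h hs, and_iff_right ha]

theorem card (hr : Nat.card Q = p ^ (r + 1)) (hC : Nat.card (CV Q z s) ≤ p ^ 2) {i : ℕ} (hi : i ≤ r) :
    Nat.card (Ch Q z s i) = p ^ (i + 1) := by
  induction i with
  | zero => exact h.card_Z.trans (pow_one p).symm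
  | succ i ih =>
    have ih := ih (by omega)
    obtain ⟨b1, b2⟩ := bas h hs i
    have lt : Ch Q z s i < Q := lt_of_le_of_ne b2 fun e => by
      rw [e, hr] at ih
      have := Nat.pow_right_injective hp.out.two_le ih
      omega
    obtain ⟨v, hv, h1, h2⟩ := h.fix hs b1 lt le_rfl (cj h hs hs i) (h.norm s hs)
    have c1 := h.card_lt ((bas h hs (i + 1)).2.trans h.le)
      (lt_of_le_of_ne (mono h hs i) fun e => h1 (e ▸ (mem h hs).2 ⟨hv, h2⟩))
    have c2 : p * Nat.card (Ch Q z s (i + 1)) ≤ p ^ 2 * Nat.card (Ch Q z s i) :=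
      (h.card_NV hs b1 b2).le.trans (Nat.mul_le_mul hC (card_le_of_le inf_le_left))
    rw [sq, mul_assoc] at c2
    rw [le_antisymm (Nat.le_of_mul_le_mul_left c2 hp.out.pos) c1, ih, ← pow_succ']

theorem top (hr : Nat.card Q = p ^ (r + 1)) (hC : Nat.card (CV Q z s) ≤ p ^ 2) : Ch Q z s r = Q :=
  eq_of_le_of_card_ge (bas h hs r).2 (by rw [card h hs hr hC le_rfl, hr])

theorem DV_eq (hr : Nat.card Q = p ^ (r + 1 + 1)) (hC : Nat.card (CV Q z s) ≤ p ^ 2) :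
    DV Q z s = Ch Q z s r := by
  refine eq_of_le_of_card_ge (fun u hu => ?_) ?_
  · obtain ⟨v, hv, k, rfl⟩ := (h.mem_DV hs).1 hu
    exact mul_mem ((mem h hs).1 ((top h hs hr hC).symm ▸ hv)).2 (zpow_mem (bas h hs r).1 k)
  · have c1 := h.card_CV_DV hs
    rw [show Nat.card (CV Q z s) = p ^ (1 + 1) from card h hs hr hC (i := 1) (by omega), hr] at c1
    rw [card h hs hr hC (Nat.le_succ r)]
    exact (Nat.eq_of_mul_eq_mul_left (pow_pos hp.out.pos (1 + 1)) (by rw [c1]; ring)).le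

omit hs in
theorem succ (hr : Nat.card Q = p ^ (r + 1)) : ∃ n, r = n + 1 := by
  have := (Nat.pow_le_pow_iff_right hp.out.one_lt).1 (hr ▸ h.big)
  exact ⟨r - 1, by omega⟩

theorem dl_S (hs' : s ∉ Q) {i : ℕ} (hv : v ∈ Ch Q z s (i + 1)) (x : Γ) (hx : x ∈ S) :
    dl x v ∈ Ch Q z s i := by
  obtain ⟨m, q, hq, rfl⟩ := h.gen hs hs' hx
  obtain ⟨h1, h2⟩ := (mem h hs).1 hv
  obtain ⟨k, e⟩ := h.dl_Q (pow_mem hs m) hq h1
  refine e ▸ mul_mem ?_ (zpow_mem (bas h hs i).1 k)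
  clear e hx
  induction m with
  | zero => simp [dl]
  | succ m ih =>
    rw [pow_succ, Bas2.dl_left]
    exact mul_mem (by simpa using cj h hs (inv_mem hs) i _ ih) h2

/-- the weight of the commutator of `x` with an element of `CV` -/
theorem wt (hs' : s ∉ Q) {k : Γ} {θ m e : ℤ} (hk : k * z * k⁻¹ = z ^ θ) (hx : x ∈ S)
    (hv : v ∈ CV Q z s) (hne : dl x v ≠ 1) (h1 : (x ^ m)⁻¹ * (k * x * k⁻¹) ∈ DV Q z s)
    (h2 : k * v * k⁻¹ * (v ^ e)⁻¹ ∈ zpowers z) : (θ : ZMod p) = m * e := by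
  obtain ⟨t, ht⟩ := mem_zpowers_iff.1 (dl_S h hs hs' (i := 0) hv x hx)
  obtain ⟨l, hl⟩ := mem_zpowers_iff.1 h2
  have vS := h.le (h.CV_le s hv)
  have e1 : k * v * k⁻¹ = v ^ e * z ^ l := by
    rw [← h.bas1_zc (zpow_mem vS e), hl, inv_mul_cancel_right]
  have hw : k * v * k⁻¹ ∈ CV Q z s := e1 ▸ mul_mem (zpow_mem hv e) (zpow_mem (h.z_mem_CV hs) l)
  have e2 : dl x (k * v * k⁻¹) = z ^ (t * e) := by
    have e3 : x⁻¹ * v ^ e * x = (x⁻¹ * v * x) ^ e := by simpa using (conj_zpow (a := x⁻¹)).symm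
    rw [e1, h.dl_z hx, dl, e3, conj_eq_dl', ← ht, Commute.mul_zpow (h.bas1_zc vS t),
      mul_inv_cancel_right, zpow_mul]
  have e3 := mul_inv_eq_one.1 (mem_bot.1 (dl_mod (X := ⊥) (Y := zpowers z) hx
    (fun y hy => mem_bot.2 (dl_Z h hx hy)) (dl_S h hs hs' (i := 0) hw) m))
  have e4 := conj_dl k x v
  rw [← mul_inv_cancel_left (x ^ m) (k * x * k⁻¹), Bas2.dl_left, e3, e2,
    dl_eq_one.2 ((mem_cQ.1 (h.DV_eq hs ▸ h1)).2 _ hw), mul_one, ← zpow_mul, mul_assoc _⁻¹,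
    h.bas1_zc (h.le (h.DV_le hs h1)), inv_mul_cancel_left, ← ht, ← conj_zpow, hk, ← zpow_mul] at e4
  have e5 : (p : ℤ) ∣ t * (m * e - θ) := by
    have := h.zinj.1 e4.symm
    rwa [show t * e * m - θ * t = t * (m * e - θ) by ring] at this
  refine (ZMod.intCast_eq_intCast_iff_dvd_sub _ _ _).2 (((Nat.prime_iff_prime_int.1 hp.out).dvd_or_dvd
    e5).resolve_left fun e => hne ?_) |>.trans (by push_cast; rfl)
  rw [← ht, (h.zinj (j := 0)).2 (by simpa using e), zpow_zero]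

end PW1

open PW1

namespace XS

variable (h : XS p S Q z) {s a : Γ} {r : ℕ}
include h

theorem chain (hs : s ∈ S) (hr : Nat.card Q = p ^ (r + 1)) (hC : Nat.card (CV Q z s) ≤ p ^ 2)
    (ha : a ∈ Q) (ha' : a ∉ DV Q z s) :
    (∀ i < r, (dl s)^[i] a ∉ zpowers z) ∧ (dl s)^[r] a ∈ zpowers z := by
  refine ⟨fun i hi e => ha' ?_, (iter h hs ha r 0).2 (by rw [zero_add, top h hs hr hC]; exact ha)⟩
  obtain ⟨n, rfl⟩ := succ h hr
  rw [PW1.DV_eq h hs hr hC]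
  exact monotone_nat_of_le_succ (mono h hs) (by omega) ((iter h hs ha i 0).1 e)

theorem weights (hs : s ∈ S) (hs' : s ∉ Q) (h0 : cS Q s = zpowers z) (hr : Nat.card Q = p ^ (r + 1))
    {θ θ' : ℤ} (hθ : (p : ℤ) ∣ θ * θ' - 1) (t : Tor S Q z s θ θ') :
    (p : ℤ) ∣ θ ^ (r + 2) - 1 ∧ ((p : ℤ) ∣ θ ^ 2 - 1 ∨ ∀ u ∈ Q, u ^ p = 1) := by
  obtain ⟨k, kS, kQ, kz, ks⟩ := t
  have hC : Nat.card (CV Q z s) ≤ p ^ 2 := by
    have := h.card_CV_le hs
    rwa [h0, h.card_Z, ← sq] at this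
  obtain ⟨n, rfl⟩ := succ h hr
  have eD := PW1.DV_eq h hs hr hC
  have cD : Nat.card Q = p * Nat.card (DV Q z s) := by
    rw [eD, card h hs hr hC (Nat.le_succ n), hr, ← pow_succ']
  obtain ⟨a, ha, ha'⟩ : ∃ a ∈ Q, a ∉ DV Q z s := by
    by_contra! e
    have h1 := card_le_of_le (show Q ≤ DV Q z s from e)
    have h2 := hp.out.two_le
    have h3 : 0 < Nat.card (DV Q z s) := Nat.card_pos
    nlinarith
  have gen := h.gen_of h.le (h.DV_le hs) cD.le ha ha'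
  have aQ : ∀ i, (dl s)^[i] a ∈ Q := fun i => by
    induction i with
    | zero => exact ha
    | succ i ih => rw [Function.iterate_succ_apply']; exact h.dl_mem hs ih
  have aC : ∀ i j, j + i = n → (dl s)^[i] a ∈ Ch Q z s (j + 1) := fun i j e =>
    (iter h hs ha i _).2 (by rw [show j + 1 + i = n + 1 by omega, top h hs hr hC]; exact ha)
  obtain ⟨c, hc, μ, ea⟩ := gen _ (kQ a ha)
  rw [← zpow_natCast] at ea
  have key : ∀ i j, j + i = n →
      k * (dl s)^[i] a * k⁻¹ * ((dl s)^[i] a ^ (μ * θ' ^ i : ℤ))⁻¹ ∈ Ch Q z s j := fun i => by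
    induction i with
    | zero =>
      rintro j (rfl : j = n)
      rw [← eD]
      simpa [ea] using hc
    | succ i ih =>
      intro j e
      have h1 := ih (j + 1) (by omega)
      have h2 := aC i (j + 1) (by omega)
      have h3 := aQ (i + 1)
      obtain ⟨b1, b2⟩ := bas h hs j
      rw [Function.iterate_succ_apply'] at h3 ⊢
      generalize (dl s)^[i] a = b at h1 h2 h3 ⊢
      have bQ := (bas h hs _).2 h2
      have hw : k * b * k⁻¹ ∈ Ch Q z s (j + 1 + 1) :=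
        (mul_mem_cancel_right (inv_mem (zpow_mem h2 _))).1 (mono h hs _ h1)
      obtain ⟨l, e1⟩ := h.dl_Q (zpow_mem hs θ') (h.DV_le hs ks) (kQ b bQ)
      have h4 := dl_mod hs (fun y hy => ((mem h hs).1 hy).2) (dl_S h hs hs' hw) θ'
      obtain ⟨l', e2⟩ := h.dl_mul' hs ((bas h hs _).2 h1) (zpow_mem bQ (μ * θ' ^ i))
      obtain ⟨l'', e3⟩ := h.dl_zpow hs bQ (μ * θ' ^ i)
      have m3 := zpow_mem h3 (μ * θ' ^ i)
      rw [inv_mul_cancel_right, e3, mul_assoc (dl s _), mul_assoc (_ ^ _), ← zpow_add,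
        ← h.bas1_zc (h.le m3), ← mul_assoc (dl s _)] at e2
      have h5 := pow_mod (h.normY b1 b2 m3) (mul_mem ((mem h hs).1 h1).2 (zpow_mem b1 (l'' + l'))) θ'
      rw [← e2, ← zpow_mul, mul_assoc (μ : ℤ), ← pow_succ] at h5
      rw [mul_inv_cancel_left] at e1
      rw [conj_dl, e1, ← h.bas1_zc (h.le (h.dl_mem (zpow_mem hs θ') (kQ b bQ))), mul_assoc]
      exact mul_mem (zpow_mem b1 l) (by simpa [mul_assoc] using mul_mem h4 h5)
  have hv : (dl s)^[n] a ∈ CV Q z s := aC n 0 (zero_add n)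
  have hv' := (h.chain hs hr hC ha ha').1 n (Nat.lt_succ_self n)
  have w1 := wt h hs hs' kz hs hv (fun e => hv' (h0 ▸ mem_cS.2 ⟨aQ n, dl_eq_one.1 e⟩)) ks
    (key n 0 (zero_add n))
  have w2 := wt h hs hs' kz (h.le ha) hv (fun e => hv' (h.cen _ (aQ n) fun u hu => by
      obtain ⟨d, hd, i, rfl⟩ := gen u hu
      exact Commute.mul_right ((mem_cQ.1 (h.DV_eq hs ▸ hd)).2 _ hv)
        (Commute.pow_right (dl_eq_one.1 e) i))) (m := μ)
    (by simpa [ea, mul_assoc] using h.cj_DV hs (inv_mem (zpow_mem (h.le ha) μ)) c hc)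
    (key n 0 (zero_add n))
  have w0 : (θ : ZMod p) * θ' = 1 := by
    have := (ZMod.intCast_zmod_eq_zero_iff_dvd _ _).2 hθ
    push_cast at this
    exact sub_eq_zero.1 this
  push_cast at w1 w2
  have w3 : (μ : ZMod p) = θ' := by
    linear_combination (θ' - μ : ZMod p) * w0 + (μ * θ' : ZMod p) * w1 - (θ' ^ 2 : ZMod p) * w2
  have Dp : ∀ d ∈ DV Q z s, d ^ p = 1 := fun d hd => by
    obtain ⟨v, hv, l, rfl⟩ := (h.mem_DV hs).1 hd
    rw [h.mul_pow (h.dl_mem hs hv) (zpow_mem h.z_mem l), h.dl_pow hs hv, one_mul, ← zpow_natCast,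
      ← zpow_mul, mul_comm, zpow_mul, zpow_natCast, h.zp, one_zpow]
  refine ⟨(ZMod.intCast_zmod_eq_zero_iff_dvd _ _).1 ?_, ?_⟩
  · push_cast
    have : (θ : ZMod p) ^ (n + 2) * θ' ^ (n + 2) = 1 := by rw [← _root_.mul_pow, w0, one_pow]
    rw [w3] at w1
    linear_combination this + (θ : ZMod p) ^ (n + 2) * w1
  · obtain ⟨j, ej⟩ := mem_zpowers_iff.1 (h.pow a ha)
    have e1 : z ^ (θ * j) = z ^ (j * μ) := by
      rw [zpow_mul, ← kz, conj_zpow, ej, ← _root_.conj_pow, ea, h.mul_pow (h.DV_le hs hc) (zpow_mem ha _),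
        Dp c hc, one_mul, zpow_mul, ej, ← zpow_natCast, ← zpow_natCast a p, ← zpow_mul, ← zpow_mul, mul_comm]
    have e2 := (ZMod.intCast_zmod_eq_zero_iff_dvd _ _).2 (h.zinj.1 e1)
    push_cast at e2
    by_cases hj : (j : ZMod p) = 0
    · refine Or.inr fun u hu => ?_
      obtain ⟨d, hd, i, rfl⟩ := gen u hu
      rw [h.mul_pow (h.DV_le hs hd) (Q.pow_mem ha i), Dp d hd, one_mul, ← pow_mul, mul_comm, pow_mul, ← ej,
        (h.zinj (j := 0)).2 (by simpa using (ZMod.intCast_zmod_eq_zero_iff_dvd _ _).1 hj), zpow_zero, one_pow]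
    · refine Or.inl ((ZMod.intCast_zmod_eq_zero_iff_dvd _ _).1 ?_)
      have e3 : (θ : ZMod p) = θ' := mul_left_cancel₀ hj (by linear_combination e2 + j * w3)
      push_cast
      linear_combination w0 + θ * e3

end XS

end H93.XP
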