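import Cfsg.Agent.Lib.MaxCl.Basic
import Cfsg.Agent.Lib.XP.PW1

/-!
# The pearl case: `S` has order `p ^ (p - 1)`, exponent `p` and maximal class
-/

set_option autoImplicit false

namespace H93.XP

open Subgroup H93.QW

variable {Γ : Type*} [Group Γ] [Finite Γ] {p : ℕ} [hp : Fact p.Prime] {S Q E : Subgroup Γ} {z g : Γ}

omit [Group Γ] [Finite Γ] in
private theorem pw2_root : ∃ θ θ' : ℤ, (p : ℤ) ∣ θ * θ' - 1 ∧
    ∀ n : ℕ, (p : ℤ) ∣ θ ^ n - 1 → p - 1 ∣ n := by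
  obtain ⟨g, hg⟩ := IsCyclic.exists_generator (α := (ZMod p)ˣ)
  have ho : orderOf g = p - 1 := by
    rw [orderOf_eq_card_of_forall_mem_zpowers hg, Nat.card_eq_fintype_card, ZMod.card_units]
  obtain ⟨θ, h1⟩ := ZMod.intCast_surjective (g : ZMod p)
  obtain ⟨θ', h2⟩ := ZMod.intCast_surjective ((g⁻¹ : (ZMod p)ˣ) : ZMod p)
  refine ⟨θ, θ', (ZMod.intCast_zmod_eq_zero_iff_dvd _ _).1 ?_, fun n hn => ?_⟩
  · push_cast
    rw [h1, h2, Units.mul_inv, sub_self]
  · have := (ZMod.intCast_zmod_eq_zero_iff_dvd _ _).2 hn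
    push_cast at this
    rw [h1, sub_eq_zero] at this
    rw [← ho]
    exact orderOf_dvd_of_pow_eq_one (Units.ext (by simpa using this))

private theorem pw2_rt (h : XS p S Q z) {s : Γ} (hs : s ∈ S) (hr : Nat.card Q = p ^ 5)
    (hC : Nat.card (CV Q z s) = p ^ 2) (ex : ∀ x ∈ S, x ^ p = 1) : ∃ t a, RT p S Q z t a := by
  obtain ⟨a, ha, ha'⟩ : ∃ a ∈ Q, a ∉ DV Q z s := by
    by_contra hc
    push Not at hc
    have h1 := h.card_CV_DV hs
    rw [le_antisymm (h.DV_le hs) hc, hC] at h1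
    have h2 := Nat.eq_of_mul_eq_mul_right Nat.card_pos h1
    have h3 := hp.out.one_lt
    nlinarith
  obtain ⟨c1, i, c2⟩ := h.chain (r := 4) hs hr hC.le ha ha'
  have c3 : dl s (dl s (dl s a)) ∉ zpowers z := c1 3 (by norm_num)
  change z ^ i = dl s (dl s (dl s (dl s a))) at c2
  have m1 := h.dl_mem hs ha
  have m2 := h.dl_mem hs m1
  have m3 := h.dl_mem hs m2
  obtain ⟨q, hq, e⟩ := h.exists_conj m3 c3 i
  have ht := mul_mem hs (h.le hq)
  obtain ⟨k1, e1⟩ := h.dl_Q hs hq ha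
  obtain ⟨k2, e2⟩ := h.dl_Q hs hq m1
  obtain ⟨k3, e3⟩ := h.dl_Q hs hq m2
  have e4 : dl (s * q) (dl (s * q) (dl (s * q) a)) = dl s (dl s (dl s a)) * z ^ k3 := by
    rw [e1, h.dl_z ht, e2, h.dl_z ht, e3]
  refine ⟨s * q, a, hr, fun u hu => ex u (h.le hu), ht, ex _ ht, ha, ?_, ?_⟩
  · rw [e4]
    exact fun m => c3 ((mul_mem_cancel_right (zpow_mem (mem_zpowers z) k3)).1 m)
  · rw [e4]
    have a1 := conj_eq_dl' s (dl s (dl s (dl s a)))
    rw [← c2] at a1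
    generalize dl s (dl s (dl s a)) = d at *
    have a2 : Commute d z := h.zc d (h.le m3)
    have a3 : Commute (s * q) z := h.zc _ ht
    have a4 : Commute d (s * q) := by
      rw [← (a2.zpow_right i).eq, ← e] at a1
      calc d * (s * q) = s * (s⁻¹ * d * s) * q := by group
        _ = s * q * d := by rw [a1]; group
    exact (a4.mul_left (a3.zpow_right k3).symm).eq

theorem XS.pearl (h : XS p S Q z) {s : Γ} (hs : s ∈ S) (hs' : s ∉ Q) (sp : s ^ p = 1)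
    (h0 : cS Q s = zpowers z) (t : ∀ θ θ' : ℤ, (p : ℤ) ∣ θ * θ' - 1 → Tor S Q z s θ θ') :
    7 ≤ p ∧ Nat.card S = p ^ (p - 1) ∧ (∀ x ∈ S, x ^ p = 1) ∧ Group.nilpotencyClass S = p - 2 ∧
      (p = 7 → ∃ t a, RT p S Q z t a) := by
  have p1 := hp.out.one_lt
  obtain ⟨k, hk⟩ := h.exists_card h.le
  have k5 : 5 ≤ k := (Nat.pow_le_pow_iff_right p1).1 (hk ▸ h.big)
  obtain ⟨r, rfl⟩ : ∃ r, k = r + 1 := ⟨k - 1, by omega⟩
  have cS2 : Nat.card S = p ^ (r + 2) := by rw [h.idx, hk]; ring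
  have c1 : Nat.card (cS S s) = p ^ 2 := by
    have e : cS S s ⊓ Q = zpowers z := by
      rw [← h0]
      exact le_antisymm (fun x hx => ⟨hx.2, hx.1.2⟩) fun x hx => ⟨⟨h.le hx.1, hx.2⟩, hx.1⟩
    rw [h.card_eq (cS_le S s) ⟨hs, rfl⟩ hs', e, h.card_Z, pow_two]
  have c2 : Nat.card (centralizer ({⟨s, hs⟩} : Set S)) ≤ p ^ 2 := by
    rw [← c1]
    refine Nat.card_le_card_of_injective (fun x => (⟨x.1.1, x.1.2,
      congrArg Subtype.val (mem_centralizer_singleton_iff.1 x.2)⟩ : cS S s)) fun a b e => ?_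
    exact Subtype.ext (Subtype.ext (congrArg (fun y : cS S s => (y : Γ)) e))
  have cl := H5.nilpotencyClass_eq_of_card_centralizer_le r S cS2 _ c2
  have mc := H93.mc_of_class cS2 (by omega) cl
  have hC : Nat.card (CV Q z s) = p ^ 2 := by
    refine le_antisymm ?_ ?_
    · have := h.card_CV_le hs
      rwa [h0, h.card_Z, ← pow_two] at this
    · have := h.card_lt ((h.CV_le s).trans h.le) (h.Z_lt_CV hs)
      rwa [h.card_Z, ← pow_two] at this
  have n2 : r ≤ p := by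
    by_contra hlt
    obtain ⟨x, hx⟩ := mc.exists_pow_not_mem (by omega)
    haveI : ((CV Q z s).subgroupOf S).Normal := ⟨fun a ha b => h.cj_CV hs b.2 _ ha⟩
    have e := mc.eq_lc (N := (CV Q z s).subgroupOf S) (i := r - 2) (j := 2) (by omega)
      (by rw [← hC]; exact Nat.card_congr (subgroupOfEquivOfLe ((h.CV_le s).trans h.le)).toEquiv)
    refine hx (Subgroup.lowerCentralSeries_antitone ⊤ (show p ≤ r - 2 + 1 by omega) ?_)
    change x ^ p ∈ H83.Krek.lc S (r - 2 + 1)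
    rw [← e]
    change (x : Γ) ^ p ∈ CV Q z s
    by_cases hq : (x : Γ) ∈ Q
    · exact (h.Z_lt_CV hs).le (h.pow _ hq)
    · rw [← h.CV_indep hs hs' x.2 hq]
      exact h.cS_le_CV _ ⟨h.pow_mem x.2, (Commute.pow_self _ _).eq⟩
  obtain ⟨θ, θ', h1, h2⟩ := pw2_root (p := p)
  obtain ⟨w1, w2⟩ := h.weights hs hs' h0 hk h1 (t θ θ' h1)
  have p5 : 5 ≤ p := by
    have : p ≠ 4 := fun e => by have := hp.out; rw [e] at this; norm_num at this
    omega
  have e : r + 2 = p - 1 := by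
    obtain ⟨c, hc⟩ := h2 _ w1
    rcases c with _ | _ | c
    · omega
    · omega
    · have : (p - 1) * 2 ≤ (p - 1) * (c + 1 + 1) := Nat.mul_le_mul_left _ (by omega)
      omega
  have ex : ∀ u ∈ Q, u ^ p = 1 := w2.resolve_left fun e => by
    have := Nat.le_of_dvd two_pos (h2 _ e)
    omega
  have exS : ∀ x ∈ S, x ^ p = 1 := fun x hx => by
    obtain ⟨i, q, hq, rfl⟩ := h.gen hs hs' hx
    have := (H93.reg1_of_card_le h.pgrp
      (cS2.le.trans (Nat.pow_le_pow_right p1.le (by omega)))).mul_pow_eq_one h.pgrp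
      (a := ⟨s ^ i, S.pow_mem hs i⟩) (b := ⟨q, h.le hq⟩)
      (Subtype.ext (by change (s ^ i) ^ p = 1; rw [← pow_mul, mul_comm, pow_mul, sp, one_pow]))
      (Subtype.ext (ex q hq))
    exact congrArg Subtype.val this
  refine ⟨by omega, e ▸ cS2, exS, by omega, fun p7 => pw2_rt h hs ?_ hC exS⟩
  rw [hk, show r + 1 = 5 by omega]

end H93.XP
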