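import Cfsg.Agent.Lib.XP.C2a
import Cfsg.Agent.Lib.XP.SL2

/-! The pearl case: the torus element extends to `S`. -/

set_option autoImplicit false

namespace H93.XP

open Subgroup H93.QW

variable {Γ : Type*} [Group Γ] [Finite Γ] {p : ℕ} [hp : Fact p.Prime] {S Q E : Subgroup Γ} {z g : Γ}

namespace PX

omit [Finite Γ] in
theorem mv {a t : Γ} (c : Commute a z) (hz : z ^ p = 1) {l : ℤ} (e : a * t * a⁻¹ = t * z ^ l)
    (hl : ¬ (p : ℤ) ∣ l) (k : ℤ) : ∃ m : ℕ, a ^ m * t * (a ^ m)⁻¹ = t * z ^ k := by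
  have k1 : ∀ m : ℕ, a ^ m * t * (a ^ m)⁻¹ = t * z ^ (l * m) := fun m => by
    induction m with
    | zero => simp
    | succ m ih =>
      calc _ = a * (a ^ m * t * (a ^ m)⁻¹) * a⁻¹ := by group
        _ = a * t * a⁻¹ * (a * z ^ (l * m) * a⁻¹) := by rw [ih]; group
        _ = _ := by rw [e, (c.zpow_right _).eq]; push_cast; group
  obtain ⟨j, r, hr⟩ := inv_mod hl
  have p0 : (p : ℤ) ≠ 0 := Nat.cast_ne_zero.2 hp.out.ne_zero
  refine ⟨(j * k % p).toNat, (k1 _).trans (congrArg _ (zpow_congr hz ?_))⟩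
  rw [Int.toNat_of_nonneg (Int.emod_nonneg _ p0), Int.emod_def]
  exact ⟨r * k - l * (j * k / p), by linear_combination k * hr⟩

/-- the elements acting trivially on `z` and on `P / (P ⊓ Q)` -/
def K (P Q : Subgroup Γ) (z : Γ) : Subgroup Γ where
  carrier := {c | Cj c P P ∧ Cj c (P ⊓ Q) (P ⊓ Q) ∧ Commute c z ∧ ∀ w ∈ P, dl w c ∈ P ⊓ Q}
  one_mem' := ⟨.of_mem (one_mem _), .of_mem (one_mem _), .one_left _, fun w _ => by simp [dl]⟩
  mul_mem' := by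
    rintro a b ⟨a1, a2, a3, a4⟩ ⟨b1, b2, b3, b4⟩
    exact ⟨b1.mul a1, b2.mul a2, a3.mul_left b3, fun w hw => by
      rw [dl_mul]; exact mul_mem (a4 w hw) (a2 _ (b4 w hw))⟩
  inv_mem' := by
    rintro a ⟨a1, a2, a3, a4⟩
    refine ⟨a1.inv, a2.inv, a3.inv_left, fun w hw => ?_⟩
    convert a2.inv _ (inv_mem (a4 w hw)) using 1
    unfold dl
    group

/-- the torus element on `P` -/
def Cl (P Q : Subgroup Γ) (z s : Γ) (θ θ' : ℤ) : Prop :=
  ∃ k, Cj k P P ∧ Cj k (P ⊓ Q) (P ⊓ Q) ∧ k * z * k⁻¹ = z ^ θ ∧ (s ^ θ')⁻¹ * (k * s * k⁻¹) ∈ DV Q z s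

variable (h : Two p S Q E z g) (h0 : E ⊓ Q = zpowers z) {P : Subgroup Γ}
include h h0

theorem cardE : Nat.card E = p ^ 2 := by
  rw [h.card_eq h.E_le h.y_mem h.notMem, h0, h.card_Z, pow_two]

theorem cardC : Nat.card (CV Q z (g * z * g⁻¹)) = p ^ 2 := by
  have sS := h.E_le h.y_mem
  have h1 := h.card_CV_le sS
  have h2 := h.card_lt ((h.CV_le _).trans h.le) (h.Z_lt_CV sS)
  rw [← h.inf_eq, h0] at h1
  rw [pow_two, le_antisymm h1 h2, h.card_Z]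

theorem le_DV (hE : E ≤ P) (hP : P < S) : P ⊓ Q ≤ DV Q z (g * z * g⁻¹) := fun u hu => by
  have sS := h.E_le h.y_mem
  by_contra hu'
  have c := h.card_CV_DV sS
  rw [cardC h h0, pow_two, mul_assoc] at c
  have e := h.eq_of_sup sS (Y := P ⊓ Q) ⟨hE h.z_E, h.z_mem⟩ inf_le_right
    (fun x hx => ⟨Cj.of_mem (hE h.y_mem) x hx.1, h.norm _ sS x hx.2⟩) fun x hx => by
      obtain ⟨d, hd, i, rfl⟩ := h.gen_of h.le (h.DV_le sS)
        (Nat.eq_of_mul_eq_mul_left hp.out.pos c).ge hu.2 hu' x hx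
      exact mul_mem (mem_sup_right hd) (mem_sup_left (pow_mem hu i))
  refine hP.not_ge fun x hx => ?_
  obtain ⟨i, q, hq, rfl⟩ := h.gen sS h.notMem hx
  exact mul_mem (pow_mem (hE h.y_mem) i) (e.ge hq).1

theorem out2 {k : Γ} (h1 : k * z * k⁻¹ ∈ Q) : k * z * k⁻¹ ∈ zpowers z := by
  by_contra h2
  have a := (card_le_of_le (fun x hx => ⟨h.le hx.1, hx.2⟩ :
    cS Q (k * z * k⁻¹) ≤ cS S (k * z * k⁻¹))).trans (h.max k (h.le h1) h2)
  have b := h.big.trans ((h.card_cS h1 h2).ge.trans (Nat.mul_le_mul_left p a))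
  rw [cardE h h0, ← pow_succ'] at b
  exact absurd ((Nat.pow_le_pow_iff_right hp.out.one_lt).1 b) (by decide)

omit h0 in
theorem lt_nS (hP : P < S) : P < nS S P := by
  obtain ⟨x, hx, hx', n⟩ := h.exists_norm le_rfl hP
  exact (le_nS hP.le).lt_of_ne fun e => hx' (e.ge (mem_nS.2 ⟨hx, n⟩))

theorem full (hE : E ≤ P) (hP : P < S) (P' : Subgroup Γ) (hP' : P' ≤ S) (k : Γ) (h1 : Cj k P P')
    (h2 : Cj k⁻¹ P' P) : Nat.card (nS S P') ≤ Nat.card (nS S P) := by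
  have sS := h.E_le h.y_mem
  obtain ⟨r, e, he, hr, tZ⟩ : ∃ r, ∃ e ∈ E, r * z * r⁻¹ = k * e * k⁻¹ ∧ r * z * r⁻¹ ∉ zpowers z := by
    by_contra hc
    push Not at hc
    have a := hc k z h.z_E rfl
    have b := hc (k * g) _ h.y_mem (by group)
    have c : Cj k E (zpowers z) := fun x hx => by
      obtain ⟨u, hu, i, rfl⟩ := h.genE x hx
      obtain ⟨j, rfl⟩ := mem_zpowers_iff.1 (h0.le hu)
      convert mul_mem (zpow_mem a j) (pow_mem b i) using 1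
      simp only [conj_zpow, conj_pow]
      group
    have := c.card_le
    rw [cardE h h0, h.card_Z] at this
    nlinarith [hp.out.two_le]
  have tP : r * z * r⁻¹ ∈ P' := hr ▸ h1 e (hE he)
  have tS := hP' tP
  have tQ : r * z * r⁻¹ ∉ Q := fun m => tZ (out2 h h0 m)
  have c : Cj k E (cS S (r * z * r⁻¹)) := fun x hx => ⟨hP' (h1 x (hE hx)), by
    rw [hr, conj_mul, conj_mul, h.ab x hx e he]⟩
  have zP : z ∈ P' := by
    have := h1 _ (hE (c.inv_of_card (h.max r tS tZ) z ⟨h.le h.z_mem, (h.zc _ tS).symm⟩))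
    simpa [mul_assoc] using this
  have zY : z ∈ P' ⊓ Q := ⟨zP, h.z_mem⟩
  have l : nS S P' ⊓ Q ≤ NV Q (P' ⊓ Q) (r * z * r⁻¹) := fun v hv =>
    (h.mem_NV tS zY inf_le_right).2 ⟨hv.2, by
      have := mul_mem (inv_mem tP) ((mem_nS.1 hv.1).2 _ tP)
      rwa [conj_eq_dl _ v, inv_mul_cancel_left] at this, h.dl_mem tS hv.2⟩
  have n1 := h.card_NV tS zY inf_le_right
  rw [h.CV_indep sS h.notMem tS tQ, cardC h h0, pow_two, mul_assoc p] at n1
  have n2 := (card_le_of_le l).trans ((Nat.eq_of_mul_eq_mul_left hp.out.pos n1).le.trans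
    (Nat.mul_le_mul_left p (card_le_of_le inf_le_left)))
  rw [← h.card_eq hP' tP tQ] at n2
  rw [h.card_eq nS_le (le_nS hP' tP) tQ]
  exact (Nat.mul_le_mul_left p (n2.trans h2.card_le)).trans (h.card_lt nS_le (lt_nS h hP))

theorem exists_v : ∃ v ∈ Q, ∃ l : ℤ, ¬ (p : ℤ) ∣ l ∧
    v * (g * z * g⁻¹) * v⁻¹ = g * z * g⁻¹ * z ^ l := by
  have sS := h.E_le h.y_mem
  obtain ⟨v, hv, hv'⟩ := SetLike.exists_of_lt (h.Z_lt_CV sS)
  obtain ⟨vQ, m⟩ := (h.mem_CV sS).1 hv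
  obtain ⟨l, hl⟩ := mem_zpowers_iff.1 m
  refine ⟨v, vQ, l, fun d => hv' ?_, by rw [conj_eq_dl, hl]⟩
  rw [h.zinj.2 (by simpa using d : (p : ℤ) ∣ l - 0), zpow_zero, eq_comm, dl_eq_one] at hl
  exact h0.le (h.inf_eq.ge ⟨vQ, hl⟩)

variable {θ θ' : ℤ} (hθ : (p : ℤ) ∣ θ * θ' - 1)
include hθ

theorem start : Cl E Q z (g * z * g⁻¹) θ θ' := by
  obtain ⟨v, vQ, l, hl, e⟩ := exists_v h h0
  have sS := h.E_le h.y_mem
  have zy : Commute z (g * z * g⁻¹) := (h.zc _ sS).symm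
  have vz := h.zc v (h.le vQ)
  obtain ⟨u, hu, j, e1⟩ := h.genE _ (h.nm.inv z h.z_E)
  obtain ⟨i, rfl⟩ := mem_zpowers_iff.1 (h0.le hu)
  have hj : ¬ (p : ℤ) ∣ j := fun d => h.z_notMem (by
    rw [← inv_inv g, inv_inv g⁻¹, e1]
    exact mul_mem hu.2 (zpow_natCast (g * z * g⁻¹) j ▸ (h.zpow_mem_iff sS h.notMem).2 d))
  obtain ⟨k, -, kz, ky⟩ := sl2_torus h.zp (h.exp _ h.y_mem) zy vz e hl (b := g * v * g⁻¹)
    (by rw [conj_mul, conj_mul, vz]) (m := l * j) (by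
      have c : Commute v (z ^ i) := Commute.zpow_right vz i
      calc _ = g * (v * (g⁻¹ * z * g⁻¹⁻¹) * v⁻¹) * g⁻¹ := by group
        _ = g * (z ^ i * (v * (g * z * g⁻¹) * v⁻¹) ^ j) * g⁻¹ := by
            rw [e1, ← mul_assoc v, c.eq, conj_pow (a := v)]; group
        _ = g * (g⁻¹ * z * g⁻¹⁻¹ * z ^ (l * j)) * g⁻¹ := by
            rw [e, (zy.symm.zpow_right l).mul_pow, e1, zpow_mul, zpow_natCast, mul_assoc (z ^ i)]
        _ = _ := by rw [conj_zpow]; group)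
    (fun d => ((Nat.prime_iff_prime_int.1 hp.out).dvd_or_dvd d).elim hl hj) hθ
  have kZ : Cj k (zpowers z) (zpowers z) := by
    rintro _ ⟨n, rfl⟩
    rw [← conj_zpow, kz]
    exact zpow_mem (zpow_mem (mem_zpowers z) θ) n
  refine ⟨k, fun x hx => ?_, h0.symm ▸ kZ, kz, by rw [ky, inv_mul_cancel]; exact one_mem _⟩
  obtain ⟨u, hu, n, rfl⟩ := h.genE x hx
  rw [← conj_mul, ← conj_pow (a := k), ky]
  exact mul_mem (h0.ge (kZ u (h0.le hu))).1 (pow_mem (zpow_mem h.y_mem θ') n)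

theorem step (hE : E ≤ P) (hP : P < S) (c : Cl P Q z (g * z * g⁻¹) θ θ') :
    Cl (nS S P) Q z (g * z * g⁻¹) θ θ' := by
  obtain ⟨a, a1, a2, az, as⟩ := c
  have sS := h.E_le h.y_mem
  have az' : a⁻¹ * z * a = z ^ θ' := by
    calc _ = a⁻¹ * (z ^ θ) ^ θ' * a := by
          rw [← zpow_mul, h.zinj.2 hθ, zpow_one]
      _ = _ := by rw [← az, conj_zpow]; group
  obtain ⟨k, ⟨k1, k2, k3, k4⟩, t, ht, tN⟩ := h.fe P hP.le (full h h0 hE hP) (K P Q z)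
    (fun k hk => hk.1) (fun c hc => by
      obtain ⟨cS', n⟩ := mem_nS.1 hc
      refine ⟨n, fun x hx => ⟨n x hx.1, h.norm c cS' x hx.2⟩, h.zc c cS', fun w hw => ⟨?_, ?_⟩⟩
      · have := mul_mem (inv_mem hw) (n w hw)
        rwa [conj_eq_dl, inv_mul_cancel_left] at this
      · simpa [dl] using h.comm_mem (inv_mem (hP.le hw)) cS') a a1 (by
      rintro c ⟨c1, c2, c3, c4⟩
      refine ⟨a1.inv.mul (c1.mul a1), a2.inv.mul (c2.mul a2), mul_inv_eq_iff_eq_mul.1 ?_,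
        fun w hw => ?_⟩
      · calc _ = a * (c * (a⁻¹ * z * a) * c⁻¹) * a⁻¹ := by group
          _ = a * (a⁻¹ * z * a) * a⁻¹ := by rw [az', (c3.zpow_right θ').eq, mul_inv_cancel_right]
          _ = z := by group
      · convert a2 _ (c4 _ (a1.inv w hw)) using 1
        unfold dl
        group)
  have tz : t * z * t⁻¹ = z ^ θ := by
    rw [ht z (hE h.z_E), ← az]
    calc _ = a * (k * z) * k⁻¹ * a⁻¹ := by group
      _ = _ := by rw [k3.eq]; group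
  have tZ : t * z * t⁻¹ ∈ zpowers z := tz ▸ zpow_mem (mem_zpowers z) θ
  refine ⟨t, tN, ?_, tz, ?_⟩
  swap
  · rw [ht _ (hE h.y_mem)]
    convert mul_mem as (le_DV h h0 hE hP (a2 _ (k4 _ (hE h.y_mem)))) using 1
    unfold dl
    group
  rcases (nS_le : nS S P ≤ S).eq_or_lt with e | lt
  · rw [e] at tN ⊢
    rw [inf_eq_right.2 h.le]
    refine h.char sS h.notMem ?_ tN tZ
    rw [cardC h h0, ← pow_add]
    exact (Nat.pow_le_pow_right hp.out.pos (by decide)).trans h.big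
  intro u hu
  refine ⟨tN u hu.1, ?_⟩
  by_contra xQ
  have hE' := hE.trans (le_nS hP.le)
  obtain ⟨i, q, hq, e⟩ := h.gen sS h.notMem (nS_le (tN u hu.1))
  have siQ : (g * z * g⁻¹) ^ i ∉ Q := fun m => xQ (e ▸ mul_mem m hq)
  have hi : ¬ (p : ℤ) ∣ i := fun d =>
    siQ (zpow_natCast (g * z * g⁻¹) i ▸ (h.zpow_mem_iff sS h.notMem).2 d)
  have qD := le_DV h h0 hE' lt
    ⟨(mul_mem_cancel_left (pow_mem (hE' h.y_mem) i)).1 (e ▸ tN u hu.1), hq⟩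
  rw [← h.DV_indep sS h.notMem (pow_mem sS i) siQ] at qD
  obtain ⟨v, hv, n, rfl⟩ := (h.mem_DV (pow_mem sS i)).1 qD
  obtain ⟨w, wQ, l, hl, e1⟩ := exists_v h h0
  have zy : Commute z (g * z * g⁻¹) := (h.zc _ sS).symm
  obtain ⟨m, hm⟩ := mv (h.zc w (h.le wQ)) h.zp (t := (g * z * g⁻¹) ^ i) (l := l * i) (by
      rw [← conj_pow (a := w), e1, (zy.symm.zpow_right l).mul_pow, zpow_mul, zpow_natCast])
    (fun d => ((Nat.prime_iff_prime_int.1 hp.out).dvd_or_dvd d).elim hl hi) n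
  have vz : Commute v⁻¹ (z ^ n) := Commute.zpow_right (h.zc _ (h.le (inv_mem hv))) n
  have e2 : u = (t⁻¹ * v * w ^ m * g * z * (t⁻¹ * v * w ^ m * g)⁻¹) ^ (i : ℤ) := by
    calc u = t⁻¹ * (t * u * t⁻¹) * t := by group
      _ = t⁻¹ * (v * (g * z * g⁻¹) ^ i * (v⁻¹ * z ^ n)) * t := by
        rw [e, ← mul_assoc _ (dl _ _), ← conj_eq_dl]; group
      _ = t⁻¹ * (v * ((g * z * g⁻¹) ^ i * z ^ n) * v⁻¹) * t := by rw [vz.eq]; group
      _ = _ := by rw [← hm, zpow_natCast, conj_pow, conj_pow]; group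
  obtain ⟨j, hj⟩ := root (u := t⁻¹ * v * w ^ m * g * z * (t⁻¹ * v * w ^ m * g)⁻¹)
    (by rw [conj_pow, h.zp]; group) hi
  obtain ⟨b, hb⟩ := mem_zpowers_iff.1
    (e2 ▸ zpow_mem (out2 h h0 (hj ▸ e2 ▸ zpow_mem (mem_inf.1 hu).2 j)) (i : ℤ) : u ∈ zpowers z)
  exact xQ (by rw [← hb, ← conj_zpow]; exact h.Z_le (zpow_mem tZ b))

end PX

theorem Two.tor (h : Two p S Q E z g) (h0 : E ⊓ Q = zpowers z) {θ θ' : ℤ}
    (hθ : (p : ℤ) ∣ θ * θ' - 1) : Tor S Q z (g * z * g⁻¹) θ θ' := by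
  have k : ∀ P : Subgroup Γ, E ≤ P → P ≤ S → PX.Cl P Q z (g * z * g⁻¹) θ θ' →
      PX.Cl S Q z (g * z * g⁻¹) θ θ' := fun P => by
    induction P using WellFoundedGT.induction with
    | ind P ih =>
      intro h1 h2 c
      rcases h2.eq_or_lt with rfl | lt
      · exact c
      · exact ih _ (PX.lt_nS h lt) (h1.trans (le_nS h2)) nS_le (PX.step h h0 hθ h1 lt c)
  have := k E le_rfl h.E_le (PX.start h h0 hθ)
  rwa [PX.Cl, inf_eq_right.2 h.le] at this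

end H93.XP
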