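import Cfsg.Agent.Lib.Fusion.Park
import Cfsg.Agent.Lib.XP.Api
import Cfsg.Agent.Lib.XP.C1b
import Cfsg.Agent.Lib.XP.C1c
import Cfsg.Agent.Lib.XP.C2b
import Cfsg.Agent.Lib.XP.B2b
import Cfsg.Agent.Lib.XP.PX
import Cfsg.Agent.Lib.XP.PW2
import Cfsg.Agent.Lib.XP.NF
import Cfsg.Agent.Lib.XP.ML
import Cfsg.Agent.Lib.XP.MU
import Cfsg.Agent.Lib.XP.MG

/-!
# Extraspecial subgroups of index `p`: the assembly
-/

set_option autoImplicit false

namespace H93.XP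

open Subgroup Cfsg Cfsg.FusionSystem H90 H93.QW

variable {Γ : Type*} [Group Γ] [Finite Γ] {p : ℕ} [hp : Fact p.Prime] {S Q E : Subgroup Γ} {z g : Γ}

theorem Hyp.cases (h : Hyp p S Q E z g) : (∃ s, QT p S Q z s) ∨ (∃ s a, RT p S Q z s a) ∨
    (11 ≤ p ∧ Nat.card S = p ^ (p - 1) ∧ (∀ x ∈ S, x ^ p = 1) ∧ Group.nilpotencyClass S = p - 2) := by
  by_cases c : ∃ k, Cj k E E ∧ k * z * k⁻¹ ∈ Q ∧ k * z * k⁻¹ ∉ zpowers z
  · obtain ⟨k, h1, h2, h3⟩ := c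
    have o : One p S Q E z k := ⟨h.regen h1 h3, h2⟩
    exact (o.split o.exp).imp_right Or.inl
  have t : Two p S Q E z g := ⟨h, fun k h1 h2 => by by_contra h3; exact c ⟨k, h1, h2, h3⟩⟩
  have hy := h.E_le h.y_mem
  obtain h0 | b := t.tri
  · obtain ⟨h7, h1, h2, h3, h4⟩ := h.toXS.pearl hy t.notMem (t.exp _ h.y_mem) (t.inf_eq ▸ h0)
      fun θ θ' hθ => t.tor h0 hθ
    by_cases e : p = 7
    · exact Or.inr (Or.inl (h4 e))
    refine Or.inr (Or.inr ⟨?_, h1, h2, h3⟩)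
    by_contra h5
    have := hp.out
    interval_cases p <;> first | exact e rfl | norm_num at this
  obtain h0 | b' := t.symm.tri
  · exact absurd (b.eqC.trans h0) (h.toXS.Z_lt_CV hy).ne'
  · exact Or.inl ⟨_, t.qt b b'⟩

omit [Finite Γ] in
theorem exists_scale {e e' : ℤ} (he : ¬ (p : ℤ) ∣ e) (he' : ¬ (p : ℤ) ∣ e')
    (h : IsSquare (-(e : ZMod p)) ↔ IsSquare (-(e' : ZMod p))) :
    ∃ k : ℤ, ¬ (p : ℤ) ∣ k ∧ (p : ℤ) ∣ e' - e * k ^ 2 := by
  rw [← ZMod.intCast_zmod_eq_zero_iff_dvd] at he he'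
  have h1 : IsSquare ((-(e : ZMod p)) * -(e' : ZMod p)) := by
    by_cases h2 : IsSquare (-(e : ZMod p))
    · exact h2.mul (h.1 h2)
    have h3 := quadraticChar_neg_one_iff_not_isSquare.2 h2
    have h4 := quadraticChar_neg_one_iff_not_isSquare.2 fun h5 => h2 (h.2 h5)
    refine (quadraticChar_one_iff_isSquare (mul_ne_zero (neg_ne_zero.2 he) (neg_ne_zero.2 he'))).1 ?_
    rw [map_mul, h3, h4]; norm_num
  obtain ⟨r, hr⟩ := h1
  obtain ⟨k, hk⟩ := ZMod.intCast_surjective (r / (e : ZMod p))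
  have h5 : (e' : ZMod p) = e * k ^ 2 := by
    rw [hk]; field_simp; linear_combination hr
  refine ⟨k, fun h6 => he' ?_, (ZMod.intCast_zmod_eq_zero_iff_dvd _ _).1 (by push_cast; rw [h5, sub_self])⟩
  rw [h5, (ZMod.intCast_zmod_eq_zero_iff_dvd _ _).2 h6]; ring

theorem XS.of_qt (h : XS p S Q z) {s : Γ} (q : QT p S Q z s) :
    (∃ P : Sylow p (Matrix.SpecialLinearGroup (Fin 4) (ZMod p)),
      Nonempty (S ≃* (P : Subgroup (Matrix.SpecialLinearGroup (Fin 4) (ZMod p))))) ∨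
    ∃ (K : Type) (_ : Field K) (_ : Fintype K), Fintype.card K = p ^ 2 ∧
      ∃ P : Sylow p (Cfsg.SU 4 K p), Nonempty (S ≃* (P : Subgroup (Cfsg.SU 4 K p))) := by
  obtain ⟨e, v, w, a, b, z', he, r, hz, rfl⟩ := h.p2 q
  by_cases c : IsSquare (-(e : ZMod p))
  · obtain ⟨P, s', v', w', a', b', z'', r', hz', e'⟩ := model_SL p h.odd
    have h1 : ¬ (p : ℤ) ∣ -1 := fun h1 => hp.out.ne_one (by simpa using Int.natAbs_dvd_natAbs.2 h1)
    obtain ⟨k, hk, h2⟩ := exists_scale he h1 (by simpa using c)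
    obtain ⟨w1, b1, r1, e1⟩ := r.scale hk h2
    exact Or.inl ⟨P, e1 ▸ e' ▸ r1.iso h1 hz r' hz'⟩
  · obtain ⟨K, i1, i2, hK, P, e0, s', v', w', a', b', z'', c', r', hz', e'⟩ := model_SU p h.odd
    have h1 : ¬ (p : ℤ) ∣ e0 := fun h1 => c' (by
      rw [(ZMod.intCast_zmod_eq_zero_iff_dvd _ _).2 h1]; simp)
    obtain ⟨k, hk, h2⟩ := exists_scale he h1 (iff_of_false c c')
    obtain ⟨w1, b1, r1, e1⟩ := r.scale hk h2
    exact Or.inr ⟨K, i1, i2, hK, P, e1 ▸ e' ▸ r1.iso h1 hz r' hz'⟩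

theorem XS.of_rt (h : XS p S Q z) {s a : Γ} (q : RT p S Q z s a) :
    5 ≤ p ∧ ∃ P : Sylow p (Cfsg.Lie.G2 (ZMod p)),
      Nonempty (S ≃* (P : Subgroup (Cfsg.Lie.G2 (ZMod p)))) := by
  obtain ⟨h5, ν, b, c, d, z', r, hz, rfl⟩ := h.p4 q
  obtain ⟨ν', s', a', b', c', d', z'', r', hz', hP⟩ := model_G2' p h5
  have h1 := r'.card hz'
  obtain ⟨P, h2⟩ := (IsPGroup.of_card h1).exists_le_sylow
  have h3 := eq_of_le_of_card_ge h2 (h1 ▸ hP P P.isPGroup'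
    (h2 (subset_closure (by simp))) (h2 (subset_closure (by simp))))
  obtain ⟨a1, b1, c1, d1, r1, e1⟩ := r.norm h.odd hz
  obtain ⟨a2, b2, c2, d2, r2, e2⟩ := r'.norm h.odd hz'
  exact ⟨h5, P, e1 ▸ h3 ▸ e2 ▸ r1.iso hz r2 hz'⟩

omit [Finite Γ] in
theorem exists_hyp' {Ω : Type*} [Group Ω] {S : Subgroup Ω} [Finite S] (h2 : p ≠ 2)
    (hS : IsPGroup p S) {Q : Subgroup Ω} (hQS : Q ≤ S) (hQ : IsExtraspecial p Q)
    (hi : (Q.subgroupOf S).index = p) (h6 : p ^ 6 ≤ Nat.card S) {F : FusionSystem S}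
    (hF : F.IsSaturated p) (hO : F.core = ⊥) {G : Type*} [Group G] [Finite G] {ι : S →* G}
    (hι : F.IsRealizedBy ι) : ∃ Q E z g, Hyp p ι.range Q E z g := by
  haveI := finite_of_le hQS
  have hc : Nat.card ι.range = Nat.card S := Nat.card_congr (MonoidHom.ofInjective hι.1).symm.toEquiv
  have hS' : IsPGroup p ι.range := hS.of_surjective _ ι.rangeRestrict_surjective
  obtain ⟨z, x⟩ := xs_of h2 hS' (imageAlong_le_range Q)
    (H76.isExtraspecial_of_equiv (imageEquiv hι.1 hQS) hQ) (by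
      have e1 := (Q.subgroupOf S).index_mul_card
      have e2 := ((imageAlong ι Q).subgroupOf ι.range).index_mul_card
      rw [Nat.card_congr (subgroupOfEquivOfLe hQS).toEquiv, hi] at e1
      rw [Nat.card_congr (subgroupOfEquivOfLe (imageAlong_le_range Q)).toEquiv,
        card_imageAlong hι.1 hQS, hc, ← e1] at e2
      exact Nat.eq_of_mul_eq_mul_right Nat.card_pos e2) (hc ▸ h6)
  obtain ⟨θ, h1, -, -⟩ := H91.exists_quot_of_real hι (groupFusionSystem_isRealizedBy ι.range)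
    (range_subtype _).symm
  refine ⟨_, (exists_hyp (H91.group_eq_subgroup ι.range ▸ h1.isSaturated hS hF) x fun h3 =>
    (core_ne_bot_iff hS hF).2 ⟨preimageAlong ι (zpowers z), fun e => ?_, ?_, sc_preimage hι h3⟩ hO).elim
      fun E hE => ⟨E, z, hE⟩⟩
  · obtain ⟨u, hu, e'⟩ := mem_range_iff_ext.1 (x.le x.z_mem)
    have : u ∈ (⊥ : Subgroup Ω) := e ▸ mem_preimageAlong.2 ⟨hu, e' ▸ mem_zpowers _⟩
    rw [mem_bot.1 this, ext_one] at e'
    exact x.z_ne e'.symm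
  · refine ⟨⟨fun a b => Subtype.ext ?_⟩⟩
    obtain ⟨ha, i, hi⟩ := mem_preimageAlong.1 a.2
    have hb := (mem_preimageAlong.1 b.2).1
    refine ext_inj hι.1 (mul_mem ha hb) (mul_mem hb ha) ?_
    rw [coe_mul, coe_mul, ext_mul ha hb, ext_mul hb ha, ← hi]
    exact ((show Commute (ext ι b) z from x.zc _ (ext_mem_range _)).zpow_right i).eq.symm

end H93.XP
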